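import Cfsg.Agent.Lib.Golay.Sharp
import Cfsg.Agent.Lib.Golay.Carry
import Cfsg.Prelude.Def_SporadicCombinatorics

/-!
The stabiliser of a dodecad and one of its hexads.
-/

set_option autoImplicit false

namespace Cfsg.Agent.Golay24.Suborbits

noncomputable section

open Cfsg MulAction
open scoped Pointwise

attribute [local irreducible] weightList codeList combTo

theorem mem_M12_of_conj {d : Finset GolayPt} {σ g : Equiv.Perm GolayPt} (hσ : σ ∈ M24)
    (hσd : σ • setOf sqDod = d) (hg : g ∈ M24) (hgd : g • d = d) : σ⁻¹ * g * σ ∈ Spor.M12 := by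
  refine ⟨M24.mul_mem (M24.mul_mem (M24.inv_mem hσ) hg) hσ, ?_⟩
  show (σ⁻¹ * g * σ) • Spor.squareDodecad = Spor.squareDodecad
  rw [← setOf_sqDod, mul_smul, mul_smul, hσd, hgd, ← hσd, inv_smul_smul]

/-- Five points of a dodecad may be sent to any five inside its stabiliser. -/
theorem exists_five_map {d : Finset GolayPt} (hd : d ∈ dodecads) (x y : Fin 5 ↪ GolayPt)
    (hx : ∀ i, x i ∈ d) (hy : ∀ i, y i ∈ d) :
    ∃ g ∈ M24, g • d = d ∧ ∀ i, g (x i) = y i := by
  obtain ⟨σ, hσ, hσd⟩ := exists_sqDod_map hd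
  have hin : ∀ z ∈ d, σ⁻¹ z ∈ setOf sqDod := fun z hz => by
    rw [← hσd, ← Finset.inv_smul_mem_iff] at hz; exact hz
  obtain ⟨u, hu, -⟩ := M12_sharp (x := x.trans (σ⁻¹ : Equiv.Perm GolayPt).toEmbedding)
    (y := y.trans (σ⁻¹ : Equiv.Perm GolayPt).toEmbedding) (fun i => hin _ (hx i)) (fun i => hin _ (hy i))
  refine ⟨σ * (u : Equiv.Perm GolayPt) * σ⁻¹, M24.mul_mem (M24.mul_mem hσ u.2.1) (M24.inv_mem hσ),
    ?_, fun i => ?_⟩
  · have h : (u : Equiv.Perm GolayPt) • setOf sqDod = setOf sqDod := by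
      rw [setOf_sqDod]; exact u.2.2
    rw [mul_smul, mul_smul, ← hσd, inv_smul_smul, h]
  · have h : (u : Equiv.Perm GolayPt) (σ⁻¹ (x i)) = σ⁻¹ (y i) := hu i
    rw [Equiv.Perm.mul_apply, Equiv.Perm.mul_apply, h]
    simp

/-- Fixing five points of a stabilised dodecad forces the identity. -/
theorem eq_one_of_fix_five {d : Finset GolayPt} (hd : d ∈ dodecads) {g : Equiv.Perm GolayPt}
    (hg : g ∈ M24) (hgd : g • d = d) {s : Finset GolayPt} (hs : s ⊆ d) (hc : 5 ≤ s.card)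
    (hfix : ∀ p ∈ s, g p = p) : g = 1 := by
  obtain ⟨σ, hσ, hσd⟩ := exists_sqDod_map hd
  obtain ⟨t, ht, htc⟩ := Finset.exists_subset_card_eq hc
  let x : Fin 5 ↪ GolayPt := ((t.equivFinOfCardEq htc).symm.toEmbedding.trans
    (Function.Embedding.subtype _)).trans (σ⁻¹ : Equiv.Perm GolayPt).toEmbedding
  have hx : ∀ i, x i ∈ setOf sqDod ∧ σ (x i) ∈ s := fun i => by
    have h : σ (x i) = ((t.equivFinOfCardEq htc).symm i : GolayPt) := Equiv.apply_symm_apply σ _
    have hm : σ (x i) ∈ s := by rw [h]; exact ht (Subtype.prop _)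
    refine ⟨?_, hm⟩
    have := hs hm
    rwa [← hσd, ← Equiv.Perm.smul_def, Finset.smul_mem_smul_finset_iff] at this
  obtain ⟨u, -, huniq⟩ := M12_sharp (x := x) (y := x) (fun i => (hx i).1) (fun i => (hx i).1)
  have h1 := huniq ⟨_, mem_M12_of_conj hσ hσd hg hgd⟩ fun i => by
    simp [hfix _ (hx i).2]
  have h2 := huniq 1 fun i => rfl
  have e : σ⁻¹ * g * σ = 1 := congrArg Subtype.val (h1.trans h2.symm)
  calc g = σ * (σ⁻¹ * g * σ) * σ⁻¹ := by group
    _ = 1 := by rw [e]; group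

theorem hexad_stab {d C : Finset GolayPt} (hd : d ∈ dodecads) (hC : C ∈ hexadsOn d) :
    Nonempty (↥(stabilizer M24 d ⊓ stabilizer M24 C) ≃* Equiv.Perm (Fin 6)) ∧
    (∀ g ∈ stabilizer M24 d ⊓ stabilizer M24 C,
      (∀ p ∈ C, ((g : ↥M24) : Equiv.Perm GolayPt) p = p) → g = 1) ∧
    ∀ g ∈ stabilizer M24 d ⊓ stabilizer M24 C,
      (∀ p ∈ d \ C, ((g : ↥M24) : Equiv.Perm GolayPt) p = p) → g = 1 := by
  obtain ⟨hC6, o, ho, hoC⟩ := hC
  have hCd : C ⊆ d := hoC ▸ Finset.inter_subset_right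
  have hCo : C ⊆ o := hoC ▸ Finset.inter_subset_left
  have f1 : ∀ g ∈ stabilizer M24 d ⊓ stabilizer M24 C,
      (∀ p ∈ C, ((g : ↥M24) : Equiv.Perm GolayPt) p = p) → g = 1 := fun g hg h =>
    Subtype.ext (eq_one_of_fix_five hd g.2 hg.1 hCd (by omega) h)
  have f2 : ∀ g ∈ stabilizer M24 d ⊓ stabilizer M24 C,
      (∀ p ∈ d \ C, ((g : ↥M24) : Equiv.Perm GolayPt) p = p) → g = 1 := fun g hg h =>
    Subtype.ext (eq_one_of_fix_five hd g.2 hg.1 Finset.sdiff_subset (by
      rw [Finset.card_sdiff_of_subset hCd, hd.2, hC6]; norm_num) h)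
  refine ⟨?_, f1, f2⟩
  set J := stabilizer M24 d ⊓ stabilizer M24 C
  have hmem : ∀ g : J, ∀ x, ((g : M24) : Equiv.Perm GolayPt) x ∈ C ↔ x ∈ C := by
    intro g x
    have h1 : ((g : M24) : Equiv.Perm GolayPt) • C = C := g.2.2
    conv_lhs => rw [← h1, ← Equiv.Perm.smul_def, Finset.smul_mem_smul_finset_iff]
  let f : J →* Equiv.Perm ↥C :=
    { toFun := fun g => ((g : M24) : Equiv.Perm GolayPt).subtypePerm (hmem g)
      map_one' := by ext; rfl
      map_mul' := fun a b => by ext; rfl }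
  have hinj : Function.Injective f := by
    refine (injective_iff_map_eq_one f).2 fun g hg => Subtype.ext ?_
    exact f1 _ g.2 fun p hp => congrArg Subtype.val (Equiv.ext_iff.1 hg ⟨p, hp⟩)
  have hsurj : Function.Surjective f := by
    intro π
    obtain ⟨t, htC, ht5⟩ := Finset.exists_subset_card_eq
      (by rw [hC6]; norm_num : 5 ≤ C.card)
    let x0 : Fin 5 ↪ ↥C := (t.equivFinOfCardEq ht5).symm.toEmbedding.trans
      ⟨fun p => ⟨p.1, htC p.2⟩, fun a b h =>
        Subtype.ext (congrArg (fun q : ↥C => (q : GolayPt)) h)⟩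
    let x : Fin 5 ↪ GolayPt := x0.trans (Function.Embedding.subtype _)
    let y : Fin 5 ↪ GolayPt := (x0.trans π.toEmbedding).trans (Function.Embedding.subtype _)
    obtain ⟨g, hg, hgd, hgx⟩ := exists_five_map hd x y (fun i => hCd (x0 i).2)
      (fun i => hCd (π (x0 i)).2)
    have hgo : g • o = o := by
      refine octad_unique (smul_mem_octads hg ho) ho ?_
      calc 5 = ((Finset.univ : Finset (Fin 5)).map y).card := by simp
        _ ≤ (g • o ∩ o).card := Finset.card_le_card fun p hp => by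
          obtain ⟨i, -, rfl⟩ := Finset.mem_map.1 hp
          refine Finset.mem_inter.2 ⟨?_, hCo (π (x0 i)).2⟩
          rw [← hgx i, ← Equiv.Perm.smul_def, Finset.smul_mem_smul_finset_iff]
          exact hCo (x0 i).2
    have hgC : g • C = C := by rw [← hoC, Finset.smul_finset_inter, hgo, hgd]
    refine ⟨⟨⟨g, hg⟩, hgd, hgC⟩, ?_⟩
    rw [← inv_mul_eq_one, ← Equiv.Perm.card_support_le_one]
    calc _ ≤ (Finset.univ \ Finset.univ.map x0 : Finset ↥C).card := Finset.card_le_card fun q hq => by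
            rw [Equiv.Perm.mem_support] at hq
            refine Finset.mem_sdiff.2 ⟨Finset.mem_univ _, fun hm => hq ?_⟩
            obtain ⟨i, -, rfl⟩ := Finset.mem_map.1 hm
            rw [Equiv.Perm.mul_apply, Equiv.Perm.inv_eq_iff_eq]
            exact Subtype.ext (hgx i).symm
      _ ≤ 1 := by
            rw [Finset.card_sdiff_of_subset (Finset.subset_univ _), Finset.card_map, Finset.card_univ,
              Finset.card_univ, Fintype.card_coe, Fintype.card_fin, hC6]
  exact ⟨(MulEquiv.ofBijective f ⟨hinj, hsurj⟩).trans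
    (Equiv.permCongrHom (Finset.equivFinOfCardEq hC6))⟩

end

end Cfsg.Agent.Golay24.Suborbits
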