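import Cfsg.Agent.Lib.Golay.Suborbits.ElevenData
import Cfsg.Agent.Lib.Golay.ListGroup
import Cfsg.Agent.Lib.Golay.SylowM11
import Cfsg.Agent.Lib.Golay.Conj
import Mathlib.LinearAlgebra.Matrix.GeneralLinearGroup.Card
import Mathlib.Algebra.Field.ZMod

/-!
Centralisers of involutions in the stabiliser of a dodecad and a point.
-/

set_option autoImplicit false

namespace Cfsg.Agent.Golay24.Suborbits

noncomputable section

open Cfsg ListGroup
open scoped Pointwise

attribute [local irreducible] weightList codeList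

/-- Elements of the small Mathieu group commuting with the representative. -/
abbrev cenGrp : Subgroup (Equiv.Perm GolayPt) :=
  Spor.M11 ⊓ Subgroup.centralizer {toPerm cenInv}

/-- All of them. -/
def ceCert : ListCert := ⟨ceGens, ceElems, ceTree⟩

theorem ceCert_ok : (ceCert.ok && (ceElems.length == 48) && validP cenInv &&
    ceGens.all (fun g => inM24 g && (img g sqDod == sqDod) && (app g 0 == 0) &&
      (compP g cenInv == compP cenInv g))) = true := by decide +kernel

theorem cenClass_ok : (((cenConj.zip cenClass).all fun ku =>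
      inM24 ku.1 && (img ku.1 sqDod == sqDod) && (app ku.1 0 == 0) && validP ku.2 &&
      (compP ku.2 idP == ku.2) && (compP ku.1 cenInv == compP ku.2 ku.1)) &&
    (cenConj.length == 165) && (cenClass.length == 165) && decide cenClass.Nodup &&
    cenClass.contains cenInv &&
    m11Cert.gens.all (fun g => cenClass.all fun u =>
      cenClass.any fun u' => compP g u == compP u' g) &&
    m11Syl.elems.all (fun p => isIdP p || !isIdP (compP p p) ||
      cenClass.any fun u => compP p idP == u)) = true := by decide +kernel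

theorem m11_member {g : ℕ} (h : inM24 g = true) (hd : img g sqDod = sqDod) (h0 : app g 0 = 0) :
    toPerm g ∈ Spor.M11 := by
  have hv := valid_of_inM24 h
  refine ⟨⟨toPerm_mem_M24 h, ?_⟩, toPerm_mem_stabilizer (b := 0) (by norm_num) hv h0⟩
  show toPerm g • Spor.squareDodecad = Spor.squareDodecad
  rw [← setOf_sqDod, smul_setOf hv, hd]

theorem cenInv_valid : validP cenInv = true := by
  have h := ceCert_ok
  simp only [Bool.and_eq_true] at h
  exact h.1.2

theorem cenClass_props {i : ℕ} (hi : i < 165) : ∃ k u, k = cenConj.getD i 0 ∧ u = cenClass.getD i 0 ∧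
    toPerm k ∈ Spor.M11 ∧ validP u = true ∧ compP u idP = u ∧
      toPerm k * toPerm cenInv = toPerm u * toPerm k := by
  have h := cenClass_ok
  simp only [Bool.and_eq_true, List.all_eq_true, beq_iff_eq] at h
  obtain ⟨⟨⟨⟨⟨⟨hz, hlk⟩, hlu⟩, -⟩, -⟩, -⟩, -⟩ := h
  obtain ⟨⟨⟨⟨⟨hM, hd⟩, h0⟩, hu⟩, huc⟩, he⟩ := hz (cenConj[i]'(by omega), cenClass[i]'(by omega))
    (List.mem_iff_getElem.2 ⟨i, by simp [List.length_zip]; omega, List.getElem_zip⟩)
  refine ⟨_, _, rfl, rfl, ?_⟩
  rw [List.getD_eq_getElem _ _ (by omega), List.getD_eq_getElem _ _ (by omega)]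
  exact ⟨m11_member hM hd h0, hu, huc, by
    rw [← toPerm_compP (valid_of_inM24 hM) cenInv_valid, ← toPerm_compP hu (valid_of_inM24 hM), he]⟩

theorem M11_permutes {k : Equiv.Perm GolayPt} (hk : k ∈ Spor.M11) :
    ∀ u ∈ cenClass, ∃ u' ∈ cenClass, k * toPerm u = toPerm u' * k := by
  have hval : ∀ u ∈ cenClass, validP u = true := by
    intro u hu
    have h := cenClass_ok
    simp only [Bool.and_eq_true, beq_iff_eq] at h
    obtain ⟨i, hi, rfl⟩ := List.mem_iff_getElem.1 hu
    obtain ⟨_, _, -, rfl, -, hv, -, -⟩ := cenClass_props (i := i) (by omega)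
    rwa [List.getD_eq_getElem _ _ hi] at hv
  rw [← m11_grp, GenCert.grp, ← SetLike.mem_coe, ← Subgroup.coe_toSubmonoid,
    Subgroup.closure_toSubmonoid_of_finite, SetLike.mem_coe] at hk
  induction hk using Submonoid.closure_induction with
  | mem x hx =>
    obtain ⟨g, hg, rfl⟩ := hx
    intro u hu
    have h := cenClass_ok
    simp only [Bool.and_eq_true, List.all_eq_true, List.any_eq_true, beq_iff_eq] at h
    obtain ⟨u', hu', he⟩ := h.1.2 g hg u hu
    have h11 := m11Cert_ok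
    simp only [Bool.and_eq_true] at h11
    have hv := m11Cert.gen_valid h11.1.1.1.1 hg
    exact ⟨u', hu', by rw [← toPerm_compP hv (hval u hu), ← toPerm_compP (hval u' hu') hv, he]⟩
  | one => exact fun u hu => ⟨u, hu, by simp⟩
  | mul x y _ _ hx hy =>
    intro u hu
    obtain ⟨u', hu', e'⟩ := hy u hu
    obtain ⟨u'', hu'', e''⟩ := hx u' hu'
    exact ⟨u'', hu'', by rw [mul_assoc, e', ← mul_assoc, e'', mul_assoc]⟩

theorem mem_cenGrp {g : Equiv.Perm GolayPt} :
    g ∈ cenGrp ↔ g ∈ Spor.M11 ∧ g * toPerm cenInv = toPerm cenInv * g := by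
  rw [Subgroup.mem_inf, Subgroup.mem_centralizer_singleton_iff]

theorem card_cenGrp : Nat.card cenGrp = 48 := by
  have h := cenClass_ok
  simp only [Bool.and_eq_true, beq_iff_eq, decide_eq_true_eq, List.contains_iff_mem] at h
  obtain ⟨⟨⟨⟨⟨⟨-, hlk⟩, hlu⟩, hnd⟩, hmem⟩, -⟩, -⟩ := h
  have hrep := fun i : Fin 165 => cenClass_props i.isLt
  choose k u hk hu hk11 huv huc hrel using hrep
  let f : Fin 165 × cenGrp → Spor.M11 := fun ic =>
    ⟨toPerm (k ic.1) * (ic.2 : Equiv.Perm GolayPt), Spor.M11.mul_mem (hk11 _) ic.2.2.1⟩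
  have hf : Function.Bijective f := by
    constructor
    · rintro ⟨i, c, hc⟩ ⟨j, d, hd⟩ he
      have he' : toPerm (k i) * c = toPerm (k j) * d := congrArg Subtype.val he
      have key : ∀ (l : Fin 165) (e : Equiv.Perm GolayPt), e * toPerm cenInv = toPerm cenInv * e →
          toPerm (k l) * e * toPerm cenInv = toPerm (u l) * (toPerm (k l) * e) := fun l e hl => by
        rw [mul_assoc, hl, ← mul_assoc, hrel l, mul_assoc]
      have h1 := key i c (mem_cenGrp.1 hc).2
      rw [he', key j d (mem_cenGrp.1 hd).2, mul_left_inj] at h1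
      have hu' := toPerm_inj (huv j) (huv i) (huc j) (huc i) h1
      rw [hu j, hu i, List.getD_eq_getElem _ _ (by omega), List.getD_eq_getElem _ _ (by omega)] at hu'
      have hij : i = j := Fin.ext ((List.Nodup.getElem_inj_iff hnd).1 hu'.symm)
      subst hij
      rw [mul_right_inj] at he'
      subst he'
      rfl
    · intro g
      obtain ⟨w, hw, he⟩ := M11_permutes g.2 cenInv hmem
      obtain ⟨i, hi, rfl⟩ := List.mem_iff_getElem.1 hw
      have hi' : i < 165 := by omega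
      have hui : u ⟨i, hi'⟩ = cenClass[i] := by
        rw [hu]; exact List.getD_eq_getElem _ _ hi
      set r := toPerm (k ⟨i, hi'⟩)
      have hr : r * toPerm cenInv = toPerm cenClass[i] * r := hui ▸ hrel ⟨i, hi'⟩
      refine ⟨(⟨i, hi'⟩, ⟨r⁻¹ * g, mem_cenGrp.2 ⟨Spor.M11.mul_mem (Spor.M11.inv_mem (hk11 _)) g.2, ?_⟩⟩),
        Subtype.ext (mul_inv_cancel_left r _)⟩
      have hr' : r⁻¹ * toPerm cenClass[i] = toPerm cenInv * r⁻¹ := by
        rw [inv_mul_eq_iff_eq_mul, ← mul_assoc, hr, mul_inv_cancel_right]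
      rw [mul_assoc, he, ← mul_assoc]
      exact (congrArg (· * (g : Equiv.Perm GolayPt)) hr').trans (mul_assoc _ _ _)
  have hc := Nat.card_congr (Equiv.ofBijective f hf)
  rw [Nat.card_prod, Nat.card_eq_fintype_card, Fintype.card_fin, card_M11] at hc
  omega

theorem ceCert_gens {g : ℕ} (hg : g ∈ ceGens) : toPerm g ∈ cenGrp := by
  have h := ceCert_ok
  simp only [Bool.and_eq_true, List.all_eq_true, beq_iff_eq] at h
  obtain ⟨⟨⟨hM, hd⟩, h0⟩, hc⟩ := h.2 g hg
  refine mem_cenGrp.2 ⟨m11_member hM hd h0, ?_⟩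
  rw [← toPerm_compP (valid_of_inM24 hM) cenInv_valid, hc, toPerm_compP cenInv_valid (valid_of_inM24 hM)]

theorem cenGrp_eq : cenGrp = ceCert.grp := by
  have h := ceCert_ok
  simp only [Bool.and_eq_true, beq_iff_eq] at h
  exact (ceCert.eq_of_card h.1.1.1 (fun g hg => ceCert_gens hg) h.1.1.2 card_cenGrp).1

/-- A matrix from a digit code. -/
def matOf (c : ℕ) : Matrix (Fin 2) (Fin 2) (ZMod 3) :=
  !![(c : ZMod 3), ((c / 3 : ℕ) : ZMod 3); ((c / 9 : ℕ) : ZMod 3), ((c / 27 : ℕ) : ZMod 3)]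

theorem ceImage_ok : (∀ i : Fin 48, matOf (ceImage.getD i 0) * matOf (ceImageInv.getD i 0) = 1 ∧
      matOf (ceImageInv.getD i 0) * matOf (ceImage.getD i 0) = 1) ∧
    (∀ i j : Fin 48, ceImage.getD i 0 = ceImage.getD j 0 → i = j) ∧
    (∀ i : Fin 48, ceImage.getD i 0 < 81) ∧ matOf (ceImage.getD 0 0) = 1 ∧
    (∀ a ∈ [1, 2], ∀ i ∈ List.range 48, ∃ j ∈ List.range 48,
      compP (ceElems.getD a 0) (ceElems.getD i 0) = ceElems.getD j 0 ∧
      matOf (ceImage.getD a 0) * matOf (ceImage.getD i 0) = matOf (ceImage.getD j 0)) ∧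
    ∀ g ∈ ceGens, ∃ a ∈ [1, 2], ceElems.getD a 0 = g := by
  decide +kernel

theorem matOf_inj : ∀ a ∈ List.range 81, ∀ b ∈ List.range 81, matOf a = matOf b → a = b := by
  decide +kernel

/-- The table of images. -/
def ceMat (i : Fin 48) : GL (Fin 2) (ZMod 3) :=
  ⟨matOf (ceImage.getD i 0), matOf (ceImageInv.getD i 0), (ceImage_ok.1 i).1, (ceImage_ok.1 i).2⟩

theorem cenGrp_iso : Nonempty (cenGrp ≃* GL (Fin 2) (ZMod 3)) := by
  have : Fact (Nat.Prime 3) := ⟨Nat.prime_three⟩
  have h := ceCert_ok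
  simp only [Bool.and_eq_true, beq_iff_eq] at h
  have hok : ceCert.ok = true := h.1.1.1
  have hlen : ceElems.length = 48 := h.1.1.2
  have hmem : ∀ i : Fin 48, ceElems.getD i 0 ∈ ceElems := fun i => by
    rw [List.getD_eq_getElem _ _ (by omega)]; exact List.getElem_mem _
  have hprops := fun i : Fin 48 => ceCert.props hok (hmem i)
  let f : Fin 48 → cenGrp := fun i => ⟨toPerm (ceElems.getD i 0), cenGrp_eq ▸ (hprops i).2.2⟩
  simp only [ListCert.ok, Bool.and_eq_true, decide_eq_true_eq, beq_iff_eq] at hok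
  have hnd : ceElems.Nodup := hok.1.1.1.2
  have hfinj : Function.Injective f := by
    intro i j e
    have he := toPerm_inj (hprops i).1 (hprops j).1 (hprops i).2.1 (hprops j).2.1
      (congrArg Subtype.val e)
    rw [List.getD_eq_getElem _ _ (by omega), List.getD_eq_getElem _ _ (by omega)] at he
    exact Fin.ext ((List.Nodup.getElem_inj_iff hnd).1 he)
  have hf : Function.Bijective f := (Nat.bijective_iff_injective_and_card f).2
    ⟨hfinj, by rw [card_cenGrp, Nat.card_eq_fintype_card, Fintype.card_fin]⟩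
  obtain ⟨-, hinj, hlt, hone, hstep, hgens⟩ := ceImage_ok
  have hk : Function.Bijective ceMat := by
    refine (Nat.bijective_iff_injective_and_card ceMat).2 ⟨fun i j e => hinj i j
      (matOf_inj _ (List.mem_range.2 (hlt i)) _ (List.mem_range.2 (hlt j)) (congrArg Units.val e)), ?_⟩
    refine Eq.trans ?_ (Matrix.card_GL_field (𝔽 := ZMod 3) 2).symm
    rw [Fin.prod_univ_two, ZMod.card, Nat.card_eq_fintype_card, Fintype.card_fin]
    norm_num
  refine equiv_of_table f ceMat hf hk ⟨0, by norm_num⟩ (Subtype.ext ?_) (Units.ext hone)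
    {⟨1, by norm_num⟩, ⟨2, by norm_num⟩} ?_ ?_
  · show toPerm (ceElems.getD 0 0) = 1
    rw [show ceElems.getD 0 0 = idP from hok.1.1.2, toPerm_idP]
  · rw [eq_top_iff]
    rintro ⟨g, hg⟩ -
    have hle : ceCert.grp ≤ (Subgroup.closure (f '' {(⟨1, by norm_num⟩ : Fin 48), ⟨2, by norm_num⟩})).map
        cenGrp.subtype := by
      rw [ListCert.grp, Subgroup.closure_le]
      rintro _ ⟨u, hu, rfl⟩
      obtain ⟨a, ha, rfl⟩ := hgens u hu
      simp only [List.mem_cons, List.not_mem_nil, or_false] at ha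
      rcases ha with rfl | rfl
      · exact ⟨f ⟨1, by norm_num⟩, Subgroup.subset_closure ⟨_, Or.inl rfl, rfl⟩, rfl⟩
      · exact ⟨f ⟨2, by norm_num⟩, Subgroup.subset_closure ⟨_, Or.inr rfl, rfl⟩, rfl⟩
    obtain ⟨u, hu, hug⟩ := hle (cenGrp_eq.le hg)
    exact (Subtype.ext hug : u = ⟨g, hg⟩) ▸ hu
  · intro a ha i
    have ha' : (a : ℕ) ∈ [1, 2] := by rcases ha with rfl | rfl <;> simp
    obtain ⟨j, hj, h1, h2⟩ := hstep a ha' i (List.mem_range.2 i.isLt)
    refine ⟨⟨j, List.mem_range.1 hj⟩, Subtype.ext ?_, Units.ext h2⟩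
    show toPerm (ceElems.getD a 0) * toPerm (ceElems.getD i 0) = toPerm (ceElems.getD j 0)
    rw [← toPerm_compP (hprops a).1 (hprops i).1, h1]

/-- In the small Mathieu group all involutions are conjugate to the representative. -/
theorem m11_involution_conj {x : Spor.M11} (hx : orderOf x = 2) :
    ∃ k ∈ Spor.M11, k * (x : Equiv.Perm GolayPt) * k⁻¹ = toPerm cenInv := by
  haveI : Fact (Nat.Prime 2) := ⟨Nat.prime_two⟩
  have hP : IsPGroup 2 (Subgroup.zpowers x) :=
    IsPGroup.of_card (n := 1) (by rw [Nat.card_zpowers, hx, pow_one])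
  obtain ⟨S, hS⟩ := hP.exists_le_sylow
  obtain ⟨k₀, hk₀⟩ := MulAction.exists_smul_eq Spor.M11 S m11SylHyp.sylow
  have hmem : (k₀ * x * k₀⁻¹ : Spor.M11) ∈ (m11SylHyp.sylow : Subgroup Spor.M11) := by
    rw [← hk₀, Sylow.coe_subgroup_smul, Subgroup.mem_pointwise_smul_iff_inv_smul_mem]
    simpa [MulAut.smul_def, mul_assoc] using hS (Subgroup.mem_zpowers _)
  rw [m11SylHyp.mem_sylow, m11Syl.mem_grp_iff m11SylHyp.grp] at hmem
  obtain ⟨p, hp, hpe⟩ := hmem
  simp only [Subgroup.coe_mul, Subgroup.coe_inv] at hpe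
  have hv := (m11Syl.valid m11SylHyp.grp hp).1
  have hord : orderOf (toPerm p) = 2 := by
    rw [hpe, ← hx, ← Subgroup.orderOf_coe]
    exact MulEquiv.orderOf_eq (MulAut.conj (k₀ : Equiv.Perm GolayPt)) _
  have h := cenClass_ok
  simp only [Bool.and_eq_true, List.all_eq_true, Bool.or_eq_true, Bool.not_eq_true',
    List.any_eq_true, beq_iff_eq] at h
  obtain ⟨⟨⟨⟨⟨⟨-, -⟩, hlu⟩, -⟩, -⟩, -⟩, hsyl⟩ := h
  have hsq : isIdP (compP p p) = true := by
    have e : toPerm p * toPerm p = 1 := by rw [← pow_two, ← hord, pow_orderOf_eq_one]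
    simp only [isIdP, List.all_eq_true, List.mem_range, beq_iff_eq]
    intro i hi
    have := congrArg (fun σ : Equiv.Perm GolayPt => (idx (σ (pt ⟨i, hi⟩)) : ℕ)) e
    rw [app_compP p p hi]
    simpa [idx_toPerm hv, idx_pt] using this
  rcases hsyl p hp with ((hid | hnot) | ⟨u, hu, he⟩)
  · rw [toPerm_eq_one_of_isIdP hv hid, orderOf_one] at hord; omega
  · rw [hsq] at hnot; exact absurd hnot (by simp)
  obtain ⟨i, hi, rfl⟩ := List.mem_iff_getElem.1 hu
  obtain ⟨k, u', hk, hu', hk11, huv, -, hrel⟩ := cenClass_props (i := i) (by omega)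
  rw [List.getD_eq_getElem _ _ hi] at hu'
  subst hu'
  have hpu : toPerm p = toPerm cenClass[i] := by
    rw [← he, toPerm_compP hv idP_spec.1, toPerm_idP, mul_one]
  refine ⟨(toPerm k)⁻¹ * k₀, Spor.M11.mul_mem (Spor.M11.inv_mem hk11) k₀.2, ?_⟩
  rw [mul_inv_rev, inv_inv, show (toPerm k)⁻¹ * (k₀ : Equiv.Perm GolayPt) * x * ((k₀ : Equiv.Perm GolayPt)⁻¹ * toPerm k) =
    (toPerm k)⁻¹ * ((k₀ : Equiv.Perm GolayPt) * x * (k₀ : Equiv.Perm GolayPt)⁻¹) * toPerm k by group,
    ← hpe, hpu, mul_assoc, ← hrel, inv_mul_cancel_left]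

theorem m11_centralizer_iso {x : Spor.M11} (hx : orderOf x = 2) :
    Nonempty (↥(Subgroup.centralizer ({x} : Set Spor.M11)) ≃* GL (Fin 2) (ZMod 3)) := by
  obtain ⟨k, hk, hkx⟩ := m11_involution_conj hx
  obtain ⟨e⟩ := cenGrp_iso
  let φ := MulAut.conj k
  have hφM : ∀ c, φ c ∈ Spor.M11 ↔ c ∈ Spor.M11 := fun c => by
    rw [MulAut.conj_apply]
    refine ⟨fun h => ?_, fun h => Spor.M11.mul_mem (Spor.M11.mul_mem hk h) (Spor.M11.inv_mem hk)⟩
    simpa [mul_assoc] using Spor.M11.mul_mem (Spor.M11.mul_mem (Spor.M11.inv_mem hk) h) hk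
  have hto : ∀ c : Spor.M11, c ∈ Subgroup.centralizer ({x} : Set Spor.M11) ↔
      φ (c : Equiv.Perm GolayPt) ∈ cenGrp := fun c => by
    rw [mem_cenGrp, hφM, ← hkx, ← MulAut.conj_apply, ← map_mul, ← map_mul, φ.injective.eq_iff,
      Subgroup.mem_centralizer_singleton_iff, Subtype.ext_iff]
    simp
  refine ⟨MulEquiv.trans ?_ e⟩
  exact
    { toFun := fun c => ⟨φ (c : Spor.M11), (hto c).1 c.2⟩
      invFun := fun d => ⟨⟨φ.symm d, (hφM _).1 (by rw [MulEquiv.apply_symm_apply]; exact d.2.1)⟩,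
        (hto _).2 (by simp only [MulEquiv.apply_symm_apply]; exact d.2)⟩
      left_inv := fun c => Subtype.ext (Subtype.ext (φ.symm_apply_apply _))
      right_inv := fun d => Subtype.ext (φ.apply_symm_apply _)
      map_mul' := fun a b => Subtype.ext (map_mul φ _ _) }

theorem dodecad_point_centralizer {d : Finset GolayPt} (hd : d ∈ dodecads) {p : GolayPt} (hp : p ∈ d)
    (x : ↥(MulAction.stabilizer M24 d ⊓ MulAction.stabilizer M24 p)) (hx : orderOf x = 2) :
    Nonempty (↥(Subgroup.centralizer ({x} :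
      Set ↥(MulAction.stabilizer M24 d ⊓ MulAction.stabilizer M24 p))) ≃* GL (Fin 2) (ZMod 3)) := by
  obtain ⟨ψ⟩ := stab_dodecad_point_equiv d hd p hp
  obtain ⟨e⟩ := m11_centralizer_iso (x := ψ x) (by rw [MulEquiv.orderOf_eq, hx])
  refine ⟨MulEquiv.trans ?_ e⟩
  have hto : ∀ c, c ∈ Subgroup.centralizer ({x} : Set _) ↔
      ψ c ∈ Subgroup.centralizer ({ψ x} : Set Spor.M11) := fun c => by
    rw [Subgroup.mem_centralizer_singleton_iff, Subgroup.mem_centralizer_singleton_iff, ← map_mul,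
      ← map_mul, ψ.injective.eq_iff]
  exact
    { toFun := fun c => ⟨ψ c.1, (hto _).1 c.2⟩
      invFun := fun d => ⟨ψ.symm d.1, (hto _).2 (by rw [MulEquiv.apply_symm_apply]; exact d.2)⟩
      left_inv := fun c => Subtype.ext (ψ.symm_apply_apply _)
      right_inv := fun d => Subtype.ext (ψ.apply_symm_apply _)
      map_mul' := fun a b => Subtype.ext (map_mul ψ _ _) }

end

end Cfsg.Agent.Golay24.Suborbits
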