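import Cfsg.Agent.Lib.Golay.Suborbits.OctadSplitData
import Cfsg.Agent.Lib.Golay.TrioStab
import Cfsg.Agent.Lib.Golay.SextetStab
import Cfsg.Agent.Lib.Golay.Trans

/-!
The orbits of sextet and trio stabilisers on the octads.
-/

set_option autoImplicit false

namespace Cfsg.Agent.Golay24.Suborbits

noncomputable section

open Cfsg MulAction
open scoped Pointwise

attribute [local irreducible] weightList codeList

theorem sxOct_ok : sxOctSplit.ok img sextGC.gens 24 (weightList 8) = true := by decide +kernel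

theorem trOct_ok : trOctSplit.ok img trioGC.gens 24 (weightList 8) = true := by decide +kernel

theorem sxOct_sizes : sxOctSplit.orbs.map (·.orb.length) = [15, 360, 384] := by decide +kernel

theorem trOct_sizes : trOctSplit.orbs.map (·.orb.length) = [3, 84, 672] := by decide +kernel

theorem octads_eq : octads = Golay24.setOf '' {m | m ∈ weightList 8} := by
  ext s
  rw [mem_octads_iff]
  constructor
  · exact fun h => ⟨maskOf s, h, setOf_maskOf s⟩
  · rintro ⟨m, hm, rfl⟩
    rwa [maskOf_setOf (weightList_lt hm)]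

theorem setOf_injOn : Set.InjOn Golay24.setOf {m | m ∈ weightList 8} :=
  fun _ ha _ hb h => setOf_inj (weightList_lt ha) (weightList_lt hb) h

theorem setOf_acts (L : List ℕ) : ActsLike Golay24.setOf img L :=
  fun _ hg x _ => (smul_setOf (valid_of_inM24 hg) x).symm

theorem octads_invariant : ∀ g ∈ M24, ∀ a ∈ octads, g • a ∈ octads :=
  fun _ hg _ ha => smul_mem_octads hg ha

theorem sxOct_decomp {S : Finset (Finset GolayPt)} (hS : S ∈ sextets) :
    ∃ L : List (Finset GolayPt × ℕ), L.map Prod.snd = [15, 360, 384] ∧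
      Decomp (K := ↥(stabilizer M24 S)) octads L := by
  obtain ⟨σ, hσ, rfl⟩ := exists_sextet_map hS
  have h := sxOctSplit.decomp sxOct_ok (fun g hg => (sextGC_gens hg).1) (setOf_acts _) setOf_injOn
    sextStab_eq
  rw [← octads_eq] at h
  refine ⟨_, ?_, h.transport hσ octads_invariant⟩
  rw [← sxOct_sizes, List.map_map, List.map_map]
  rfl

theorem trOct_decomp {T : Finset (Finset GolayPt)} (hT : T ∈ trios) :
    ∃ L : List (Finset GolayPt × ℕ), L.map Prod.snd = [3, 84, 672] ∧
      Decomp (K := ↥(stabilizer M24 T)) octads L := by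
  obtain ⟨σ, hσ, rfl⟩ := exists_trio_map hT
  have h := trOctSplit.decomp trOct_ok (fun g hg => (trioGC_gens hg).1) (setOf_acts _) setOf_injOn
    trioStab_eq
  rw [← octads_eq] at h
  refine ⟨_, ?_, h.transport hσ octads_invariant⟩
  rw [← trOct_sizes, List.map_map, List.map_map]
  rfl

theorem orbit_octad {o : Finset GolayPt} (ho : o ∈ octads) : orbit M24 o = octads := by
  ext x
  constructor
  · rintro ⟨g, rfl⟩
    exact smul_mem_octads g.2 ho
  · intro hx
    obtain ⟨σ, hσ, h⟩ := exists_octad_map ho hx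
    exact ⟨⟨σ, hσ⟩, h⟩

theorem orbit_sextet {S : Finset (Finset GolayPt)} (hS : S ∈ sextets) : orbit M24 S = sextets := by
  obtain ⟨σ, hσ, rfl⟩ := exists_sextet_map hS
  ext x
  constructor
  · rintro ⟨g, rfl⟩
    exact smul_mem_sextets g.2 (smul_mem_sextets hσ stdSextet_mem)
  · intro hx
    obtain ⟨τ, hτ, h⟩ := exists_sextet_map hx
    refine ⟨⟨τ * σ⁻¹, M24.mul_mem hτ (M24.inv_mem hσ)⟩, ?_⟩
    show (τ * σ⁻¹) • σ • stdSextet = x
    rw [mul_smul, inv_smul_smul, h]

theorem orbit_trio {T : Finset (Finset GolayPt)} (hT : T ∈ trios) : orbit M24 T = trios := by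
  obtain ⟨σ, hσ, rfl⟩ := exists_trio_map hT
  ext x
  constructor
  · rintro ⟨g, rfl⟩
    exact smul_mem_trios g.2 (smul_mem_trios hσ stdTrio_mem)
  · intro hx
    obtain ⟨τ, hτ, h⟩ := exists_trio_map hx
    refine ⟨⟨τ * σ⁻¹, M24.mul_mem hτ (M24.inv_mem hσ)⟩, ?_⟩
    show (τ * σ⁻¹) • σ • stdTrio = x
    rw [mul_smul, inv_smul_smul, h]

end

end Cfsg.Agent.Golay24.Suborbits
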