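import Cfsg.Agent.Lib.Golay.Suborbits.TrioSplitData
import Cfsg.Agent.Lib.Golay.Suborbits.OctadSplit

/-!
The orbits of a trio stabiliser on the sextets.
-/

set_option autoImplicit false

namespace Cfsg.Agent.Golay24.Suborbits

noncomputable section

open Cfsg MulAction
open scoped Pointwise

theorem sextList_fourB : (sextList.all fourB) = true := by decide +kernel

theorem semSext_acts : ActsLike semSext sextAct sextList :=
  fun _ hg x hx => semSext_act hg (List.all_eq_true.1 sextList_fourB x hx)

theorem trSext_ok : trSextSplit.ok sextAct trioGC.gens 24 sextList = true := by decide +kernel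

theorem trSext_sizes : trSextSplit.orbs.map (·.orb.length) = [7, 84, 336, 1344] := by decide +kernel

theorem trSext_decomp {T : Finset (Finset GolayPt)} (hT : T ∈ trios) :
    ∃ L : List (Finset (Finset GolayPt) × ℕ), L.map Prod.snd = [7, 84, 336, 1344] ∧
      Decomp (K := ↥(stabilizer M24 T)) sextets L := by
  obtain ⟨σ, hσ, rfl⟩ := exists_trio_map hT
  have h := trSextSplit.decomp trSext_ok (fun g hg => (trioGC_gens hg).1) semSext_acts semSext_injOn
    trioStab_eq
  rw [← sextets_eq] at h
  refine ⟨_, ?_, h.transport hσ fun g hg a ha => smul_mem_sextets hg ha⟩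
  rw [← trSext_sizes, List.map_map, List.map_map]
  rfl

end

end Cfsg.Agent.Golay24.Suborbits
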