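import Cfsg.Agent.Lib.Golay.Suborbits.DodSplitData
import Cfsg.Agent.Lib.Golay.Suborbits.TrioSplit
import Cfsg.Agent.Lib.Golay.Mathieu

/-!
The orbits of the stabiliser of a complementary pair of dodecads on the sextets.
-/

set_option autoImplicit false

namespace Cfsg.Agent.Golay24.Suborbits

noncomputable section

open Cfsg MulAction
open scoped Pointwise

/-- Generators of the stabiliser of the standard pair of dodecads. -/
def ddGens : List ℕ := m12Cert.gens ++ [dodSwap]

theorem ddSwap_ok : (inM24 dodSwap && (img dodSwap sqDod == Nat.xor 16777215 sqDod) &&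
    (img dodSwap (Nat.xor 16777215 sqDod) == sqDod)) = true := by decide +kernel

theorem ddSext_ok : ddSextSplit.ok sextAct ddGens 24 sextList = true := by decide +kernel

theorem ddSext_sizes : ddSextSplit.orbs.map (·.orb.length) = [396, 495, 880] := by decide +kernel

theorem setOf_compl_sqDod : setOf (Nat.xor 16777215 sqDod) = Finset.univ \ setOf sqDod := by
  show setOf (16777215 ^^^ sqDod) = _
  rw [setOf_xor, setOf_full]
  ext x
  simp [Finset.mem_symmDiff]

/-- The stabiliser of the standard pair. -/
abbrev ddStab : Subgroup (Equiv.Perm GolayPt) :=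
  M24 ⊓ stabilizer (Equiv.Perm GolayPt) ({setOf sqDod, Finset.univ \ setOf sqDod} : Finset (Finset GolayPt))

theorem ddStab_eq : ddStab = Subgroup.closure {τ | ∃ g ∈ ddGens, toPerm g = τ} := by
  have hs := ddSwap_ok
  simp only [Bool.and_eq_true, beq_iff_eq] at hs
  obtain ⟨⟨hi, h1⟩, h2⟩ := hs
  have e1 : toPerm dodSwap • setOf sqDod = Finset.univ \ setOf sqDod := by
    rw [smul_setOf (valid_of_inM24 hi), h1, setOf_compl_sqDod]
  have e2 : toPerm dodSwap • (Finset.univ \ setOf sqDod) = setOf sqDod := by
    rw [← setOf_compl_sqDod, smul_setOf (valid_of_inM24 hi), h2]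
  have hcompl : ∀ g : Equiv.Perm GolayPt, g • setOf sqDod = setOf sqDod →
      g • (Finset.univ \ setOf sqDod) = Finset.univ \ setOf sqDod := fun g hg => by
    rw [Finset.smul_finset_sdiff, hg, Finset.smul_finset_univ]
  refine le_antisymm (fun g hg => ?_) ?_
  · have hswap : toPerm dodSwap ∈ Subgroup.closure {τ | ∃ g ∈ ddGens, toPerm g = τ} :=
      Subgroup.subset_closure ⟨dodSwap, List.mem_append_right _ (List.mem_singleton_self _), rfl⟩
    have hm12 : ∀ u ∈ M24, u • setOf sqDod = setOf sqDod →
        u ∈ Subgroup.closure {τ | ∃ g ∈ ddGens, toPerm g = τ} := fun u hu hfix => by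
      have : u ∈ m12Cert.grp := by
        rw [m12_grp]
        exact ⟨hu, by rw [← setOf_sqDod]; exact hfix⟩
      refine (Subgroup.closure_le _).2 ?_ this
      rintro _ ⟨y, hy, rfl⟩
      exact Subgroup.subset_closure ⟨y, List.mem_append_left _ hy, rfl⟩
    have hgs : g • ({setOf sqDod, Finset.univ \ setOf sqDod} : Finset (Finset GolayPt)) =
        {setOf sqDod, Finset.univ \ setOf sqDod} := hg.2
    have : g • setOf sqDod ∈ ({setOf sqDod, Finset.univ \ setOf sqDod} : Finset (Finset GolayPt)) :=
      hgs ▸ Finset.smul_mem_smul_finset (Finset.mem_insert_self _ _)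
    rw [Finset.mem_insert, Finset.mem_singleton] at this
    rcases this with h | h
    · exact hm12 g hg.1 h
    · have := hm12 ((toPerm dodSwap)⁻¹ * g) (M24.mul_mem (M24.inv_mem (toPerm_mem_M24 hi)) hg.1)
        (by rw [mul_smul, h, inv_smul_eq_iff, e1])
      simpa using Subgroup.mul_mem _ hswap this
  · rw [Subgroup.closure_le]
    rintro _ ⟨y, hy, rfl⟩
    rcases List.mem_append.1 hy with hy | hy
    · have hm : toPerm y ∈ Spor.M12 := m12_gens hy
      have hfix : toPerm y • setOf sqDod = setOf sqDod := by rw [setOf_sqDod]; exact hm.2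
      refine ⟨hm.1, ?_⟩
      show toPerm y • ({setOf sqDod, Finset.univ \ setOf sqDod} : Finset (Finset GolayPt)) = _
      rw [Finset.smul_finset_insert, Finset.smul_finset_singleton, hfix, hcompl _ hfix]
    · rw [List.mem_singleton] at hy
      subst hy
      refine ⟨toPerm_mem_M24 hi, ?_⟩
      show toPerm dodSwap • ({setOf sqDod, Finset.univ \ setOf sqDod} : Finset (Finset GolayPt)) = _
      rw [Finset.smul_finset_insert, Finset.smul_finset_singleton, e1, e2, Finset.pair_comm]

theorem ddSext_decomp {d : Finset GolayPt} (hd : d ∈ dodecads) :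
    ∃ L : List (Finset (Finset GolayPt) × ℕ), L.map Prod.snd = [396, 495, 880] ∧
      Decomp (K := ↥(stabilizer M24 ({d, Finset.univ \ d} : Finset (Finset GolayPt)))) sextets L := by
  obtain ⟨σ, hσ, rfl⟩ := exists_sqDod_map hd
  have hgens : ∀ g ∈ ddGens, inM24 g = true := by
    have : (ddGens.all inM24) = true := by decide +kernel
    exact List.all_eq_true.1 this
  have h := ddSextSplit.decomp ddSext_ok hgens semSext_acts semSext_injOn ddStab_eq
  rw [← sextets_eq] at h
  have e : ({σ • setOf sqDod, Finset.univ \ σ • setOf sqDod} : Finset (Finset GolayPt)) =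
      σ • ({setOf sqDod, Finset.univ \ setOf sqDod} : Finset (Finset GolayPt)) := by
    rw [Finset.smul_finset_insert, Finset.smul_finset_singleton, Finset.smul_finset_sdiff,
      Finset.smul_finset_univ]
  rw [e]
  refine ⟨_, ?_, h.transport hσ fun g hg a ha => smul_mem_sextets hg ha⟩
  rw [← ddSext_sizes, List.map_map, List.map_map]
  rfl

end

end Cfsg.Agent.Golay24.Suborbits
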