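import Cfsg.Agent.Lib.Golay.Suborbits.TrioSplit

/-!
Suborbits read in both directions.
-/

set_option autoImplicit false

namespace Cfsg.Agent.Golay24.Suborbits

noncomputable section

open Cfsg MulAction
open scoped Pointwise

theorem exists_three {β : Type*} {L : List (β × ℕ)} {a b c : ℕ} (h : L.map Prod.snd = [a, b, c]) :
    ∃ x y z, L = [(x, a), (y, b), (z, c)] := by
  match L, h with
  | [(x, _), (y, _), (z, _)], h =>
    simp only [List.map_cons, List.map_nil, List.cons.injEq, and_true] at h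
    obtain ⟨rfl, rfl, rfl⟩ := h
    exact ⟨x, y, z, rfl⟩

theorem exists_four {β : Type*} {L : List (β × ℕ)} {a b c d : ℕ}
    (h : L.map Prod.snd = [a, b, c, d]) : ∃ x y z w, L = [(x, a), (y, b), (z, c), (w, d)] := by
  match L, h with
  | [(x, _), (y, _), (z, _), (w, _)], h =>
    simp only [List.map_cons, List.map_nil, List.cons.injEq, and_true] at h
    obtain ⟨rfl, rfl, rfl, rfl⟩ := h
    exact ⟨x, y, z, w, rfl⟩

theorem trios_nonempty : trios.Nonempty := ⟨_, stdTrio_mem⟩

theorem sextets_nonempty : sextets.Nonempty := ⟨_, stdSextet_mem⟩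

theorem octad_trios {o : Finset GolayPt} (ho : o ∈ octads) :
    ∃ x y z, Decomp (K := ↥(stabilizer M24 o)) trios [(x, 15), (y, 420), (z, 3360)] := by
  obtain ⟨T, hT⟩ := trios_nonempty
  obtain ⟨L, hL, hd⟩ := trOct_decomp hT
  obtain ⟨x, y, z, rfl⟩ := exists_three hL
  obtain ⟨L', hL', hd'⟩ := decomp_dual (G := M24) (b := T) (B := trios)
    (fun g _ ha => smul_mem_octads g.2 ha) (orbit_trio hT) hd (orbit_octad ho) octads_ncard
    trios_ncard (by norm_num) [15, 420, 3360]
    (.cons (by norm_num) (.cons (by norm_num) (.cons (by norm_num) .nil)))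
  obtain ⟨x', y', z', rfl⟩ := exists_three hL'
  exact ⟨x', y', z', hd'⟩

theorem octad_sextets {o : Finset GolayPt} (ho : o ∈ octads) :
    ∃ x y z, Decomp (K := ↥(stabilizer M24 o)) sextets [(x, 35), (y, 840), (z, 896)] := by
  obtain ⟨S, hS⟩ := sextets_nonempty
  obtain ⟨L, hL, hd⟩ := sxOct_decomp hS
  obtain ⟨x, y, z, rfl⟩ := exists_three hL
  obtain ⟨L', hL', hd'⟩ := decomp_dual (G := M24) (b := S) (B := sextets)
    (fun g _ ha => smul_mem_octads g.2 ha) (orbit_sextet hS) hd (orbit_octad ho) octads_ncard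
    sextets_ncard (by norm_num) [35, 840, 896]
    (.cons (by norm_num) (.cons (by norm_num) (.cons (by norm_num) .nil)))
  obtain ⟨x', y', z', rfl⟩ := exists_three hL'
  exact ⟨x', y', z', hd'⟩

theorem sextet_trios {S : Finset (Finset GolayPt)} (hS : S ∈ sextets) :
    ∃ x y z w, Decomp (K := ↥(stabilizer M24 S)) trios [(x, 15), (y, 180), (z, 720), (w, 2880)] := by
  obtain ⟨T, hT⟩ := trios_nonempty
  obtain ⟨L, hL, hd⟩ := trSext_decomp hT
  obtain ⟨x, y, z, w, rfl⟩ := exists_four hL
  obtain ⟨L', hL', hd'⟩ := decomp_dual (G := M24) (b := T) (B := trios)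
    (fun g _ ha => smul_mem_sextets g.2 ha) (orbit_trio hT) hd (orbit_sextet hS) sextets_ncard
    trios_ncard (by norm_num) [15, 180, 720, 2880]
    (.cons (by norm_num) (.cons (by norm_num) (.cons (by norm_num) (.cons (by norm_num) .nil))))
  obtain ⟨x', y', z', w', rfl⟩ := exists_four hL'
  exact ⟨x', y', z', w', hd'⟩

end

end Cfsg.Agent.Golay24.Suborbits
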