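import Cfsg.Agent.Lib.Golay.Conj

/-!
The two classes of the point stabilisers in the dodecad stabiliser.
-/

set_option autoImplicit false

namespace Cfsg.Agent.Golay24.Suborbits

noncomputable section

open Cfsg MulAction
open scoped Pointwise

attribute [local irreducible] weightList codeList

theorem compl_sqDod_facts : ((weightList 12).contains (Nat.xor sqDod 16777215) &&
    !Nat.testBit sqDod 23 &&
    (List.range 24).all (fun i => Nat.testBit sqDod i ||
      m11Cert.gens.any (fun g => validP g && (app g i != i)))) = true := by decide +kernel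

theorem setOf_sqDod_xor :
    setOf (Nat.xor sqDod 16777215) = Finset.univ \ Spor.squareDodecad := by decide +kernel

theorem compl_mem_dodecads : Finset.univ \ Spor.squareDodecad ∈ dodecads := by
  have h := compl_sqDod_facts
  simp only [Bool.and_eq_true, List.contains_iff_mem] at h
  rw [← setOf_sqDod_xor, mem_dodecads_iff, maskOf_setOf (weightList_lt h.1.1)]
  exact h.1.1

theorem M11_moves {x : GolayPt} (hx : x ∉ Spor.squareDodecad) : ∃ g ∈ Spor.M11, g x ≠ x := by
  have h := compl_sqDod_facts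
  simp only [Bool.and_eq_true, List.all_eq_true, List.mem_range, Bool.or_eq_true,
    List.any_eq_true, bne_iff_ne] at h
  rcases h.2 (idx x) (idx x).isLt with hb | ⟨g, hg, hv, hne⟩
  · exact absurd (by rw [← setOf_sqDod]; exact mem_setOf.2 hb) hx
  · refine ⟨toPerm g, m11_gens hg, fun e => hne ?_⟩
    have := congrArg (fun z => (idx z : ℕ)) e
    simpa [idx_toPerm hv] using this

theorem two_eleven_classes :
    Nonempty (↥(Spor.M12 ⊓ MulAction.stabilizer (Equiv.Perm GolayPt) (none : GolayPt)) ≃* ↥Spor.M11) ∧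
    (¬ ∃ k ∈ Spor.M12, MulAut.conj k • Spor.M11 =
      Spor.M12 ⊓ MulAction.stabilizer (Equiv.Perm GolayPt) (none : GolayPt)) ∧
    ∃ g ∈ M24, g • Spor.squareDodecad = Finset.univ \ Spor.squareDodecad ∧
      MulAut.conj g • Spor.M11 =
        Spor.M12 ⊓ MulAction.stabilizer (Equiv.Perm GolayPt) (none : GolayPt) := by
  have hn : (none : GolayPt) ∈ Finset.univ \ Spor.squareDodecad := by decide +kernel
  obtain ⟨σ, hσ, hσd, hσ0⟩ := exists_sqDod_point_map _ compl_mem_dodecads none hn
  rw [setOf_sqDod] at hσd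
  have hσd' : σ⁻¹ • Spor.squareDodecad = Finset.univ \ Spor.squareDodecad := by
    rw [inv_smul_eq_iff, Finset.smul_finset_sdiff, Finset.smul_finset_univ, hσd,
      Finset.sdiff_sdiff_eq_self (Finset.subset_univ _)]
  have key : MulAut.conj σ • Spor.M11 =
      Spor.M12 ⊓ MulAction.stabilizer (Equiv.Perm GolayPt) (none : GolayPt) := by
    ext k
    rw [Subgroup.mem_pointwise_smul_iff_inv_smul_mem, MulAut.smul_def, MulAut.conj_inv_apply]
    simp only [Spor.M11, Spor.M12, Subgroup.mem_inf, MulAction.mem_stabilizer_iff]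
    refine and_congr (and_congr ⟨fun h => ?_, fun h => ?_⟩ ⟨fun h => ?_, fun h => ?_⟩)
      ⟨fun h => ?_, fun h => ?_⟩
    · have := M24.mul_mem (M24.mul_mem hσ h) (M24.inv_mem hσ)
      simpa [mul_assoc] using this
    · exact M24.mul_mem (M24.mul_mem (M24.inv_mem hσ) h) hσ
    · rw [mul_smul, mul_smul, hσd, inv_smul_eq_iff, hσd, Finset.smul_finset_sdiff,
        Finset.smul_finset_univ] at h
      have h' := congrArg (fun s => Finset.univ \ s) h
      simpa only [Finset.sdiff_sdiff_eq_self (Finset.subset_univ _)] using h'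
    · rw [mul_smul, mul_smul, hσd, inv_smul_eq_iff, hσd, Finset.smul_finset_sdiff,
        Finset.smul_finset_univ, h]
    · rw [mul_smul, mul_smul, Equiv.Perm.smul_def σ, hσ0, inv_smul_eq_iff, Equiv.Perm.smul_def σ,
        hσ0] at h
      exact h
    · rw [mul_smul, mul_smul, Equiv.Perm.smul_def σ, hσ0, inv_smul_eq_iff, Equiv.Perm.smul_def σ,
        hσ0, h]
  refine ⟨⟨((Subgroup.equivSMul (MulAut.conj σ) Spor.M11).trans (MulEquiv.subgroupCongr key)).symm⟩,
    ?_, σ, hσ, hσd, key⟩
  rintro ⟨k, hk, he⟩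
  have hk0 : k (some 0) ∈ Spor.squareDodecad := by
    have h : (some 0 : GolayPt) ∈ Spor.squareDodecad := by decide +kernel
    have := Finset.smul_mem_smul_finset (a := k) h
    rwa [hk.2] at this
  have hx : σ⁻¹ (k (some 0)) ∉ Spor.squareDodecad := by
    have h := Finset.smul_mem_smul_finset (a := σ⁻¹) hk0
    rw [hσd'] at h
    exact (Finset.mem_sdiff.1 h).2
  obtain ⟨g, hg, hne⟩ := M11_moves hx
  have hmem : σ * g * σ⁻¹ ∈ MulAut.conj k • Spor.M11 := by
    rw [he, ← key, Subgroup.mem_pointwise_smul_iff_inv_smul_mem, MulAut.smul_def,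
      MulAut.conj_inv_apply]
    simpa [mul_assoc] using hg
  rw [Subgroup.mem_pointwise_smul_iff_inv_smul_mem, MulAut.smul_def, MulAut.conj_inv_apply] at hmem
  have hfix : k⁻¹ (σ (g (σ⁻¹ (k (some 0))))) = some 0 := hmem.2
  rw [Equiv.Perm.inv_eq_iff_eq] at hfix
  exact hne (σ.injective (by rw [hfix]; exact (Equiv.apply_symm_apply σ _).symm))

end

end Cfsg.Agent.Golay24.Suborbits
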