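import Cfsg.Agent.Lib.Golay.Suborbits.ElevenData
import Cfsg.Agent.Lib.Golay.ListGroup
import Cfsg.Agent.Lib.Golay.Suborbits.TwoEleven
import Cfsg.Agent.Lib.Golay.Suborbits.Hexad
import Cfsg.Agent.Lib.SmallSimple.RecognizePrime
import Mathlib.GroupTheory.Perm.Closure

/-!
The stabilisers of a dodecad, one of its points and one or two points outside.
-/

set_option autoImplicit false

namespace Cfsg.Agent.Golay24.Suborbits

noncomputable section

open Cfsg MulAction ListGroup
open scoped Pointwise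

attribute [local irreducible] weightList codeList combTo

theorem m11_facts {g : ℕ} (h : inM24 g = true) (hd : img g sqDod = sqDod) (h0 : app g 0 = 0) :
    toPerm g ∈ Spor.M11 := by
  have hv := valid_of_inM24 h
  refine ⟨⟨toPerm_mem_M24 h, ?_⟩, toPerm_mem_stabilizer (b := 0) (by norm_num) hv h0⟩
  show toPerm g • Spor.squareDodecad = Spor.squareDodecad
  rw [← setOf_sqDod, smul_setOf hv, hd]

/-- The outside of the standard dodecad. -/
def outMask : ℕ := Nat.xor sqDod 16777215

theorem mem_out {x : GolayPt} : x ∈ setOf outMask ↔ x ∉ setOf sqDod := by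
  rw [show setOf outMask = Finset.univ \ Spor.squareDodecad from setOf_sqDod_xor, ← setOf_sqDod,
    Finset.mem_sdiff]
  simp

theorem M11_keeps_out {g : Equiv.Perm GolayPt} (hg : g ∈ Spor.M11) {x : GolayPt}
    (hx : x ∈ setOf outMask) : g x ∈ setOf outMask := by
  rw [mem_out] at hx ⊢
  intro h
  rw [setOf_sqDod, ← show g • Spor.squareDodecad = Spor.squareDodecad from hg.1.2,
    ← Equiv.Perm.smul_def, Finset.smul_mem_smul_finset_iff, ← setOf_sqDod] at h
  exact hx h

theorem reach_ok : ((elReach.all fun g => inM24 g && (img g sqDod == sqDod) && (app g 0 == 0)) &&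
    ((List.range 24).all fun i => Nat.testBit sqDod i || elReach.any fun g => app g 23 == i)) = true := by
  decide +kernel

theorem M11_trans_out {x : GolayPt} (hx : x ∈ setOf outMask) :
    ∃ g ∈ Spor.M11, g (none : GolayPt) = x := by
  have h := reach_ok
  simp only [Bool.and_eq_true, List.all_eq_true, List.any_eq_true, List.mem_range, Bool.or_eq_true,
    beq_iff_eq] at h
  rcases h.2 (idx x) (idx x).isLt with hb | ⟨g, hg, he⟩
  · exact absurd (mem_setOf.2 hb) (mem_out.1 hx)
  · obtain ⟨⟨hM, hd⟩, h0⟩ := h.1 g hg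
    exact ⟨toPerm g, m11_facts hM hd h0, idx_inj.1 (Fin.ext (by
      rw [← pt23, idx_toPerm (valid_of_inM24 hM), idx_pt, he]))⟩

/-- The stabiliser of the extra point in the small Mathieu group. -/
abbrev elevenGrp : Subgroup (Equiv.Perm GolayPt) :=
  Spor.M11 ⊓ stabilizer (Equiv.Perm GolayPt) (none : GolayPt)

theorem outCard : (setOf outMask).card = 12 := by rw [card_setOf]; decide +kernel

theorem none_out : (none : GolayPt) ∈ setOf outMask := by decide +kernel

theorem card_elevenGrp : Nat.card elevenGrp = 660 := by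
  refine card_inf_stabilizer (S := (↑(setOf outMask) : Set GolayPt)) Spor.M11 (none : GolayPt) (n := 12)
    none_out (fun g hg y hy => M11_keeps_out hg hy) (fun y hy => M11_trans_out hy) ?_ card_M11
    (by norm_num)
  rw [Set.ncard_coe_finset, outCard]

/-- All elements of the stabiliser of the extra point. -/
def elCert : ListCert := ⟨elGens, elElems, elTree⟩

theorem elCert_ok : (elCert.ok && (elElems.length == 660) &&
    elGens.all (fun g => inM24 g && (img g sqDod == sqDod) && (app g 0 == 0) && (app g 23 == 23) &&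
      isIdP (powP g 11))) = true := by decide +kernel

theorem elCert_gens {g : ℕ} (hg : g ∈ elGens) :
    validP g = true ∧ toPerm g ∈ elevenGrp ∧ toPerm g ^ 11 = 1 := by
  have h := elCert_ok
  simp only [Bool.and_eq_true, List.all_eq_true, beq_iff_eq] at h
  obtain ⟨⟨⟨⟨hM, hd⟩, h0⟩, h23⟩, h11⟩ := h.2 g hg
  have hv := valid_of_inM24 hM
  obtain ⟨h11v, h11e⟩ := toPerm_powP hv 10
  refine ⟨hv, ⟨m11_facts hM hd h0, ?_⟩, ?_⟩
  · rw [← pt23]; exact toPerm_mem_stabilizer (b := 23) (by norm_num) hv h23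
  · rw [← h11e]; exact toPerm_eq_one_of_isIdP h11v h11

theorem elevenGrp_eq : elevenGrp = elCert.grp ∧ ∀ g ∈ elevenGrp, ∃ x ∈ elElems, toPerm x = g := by
  have h := elCert_ok
  simp only [Bool.and_eq_true, beq_iff_eq] at h
  exact elCert.eq_of_card h.1.1 (fun g hg => (elCert_gens hg).2.1) h.1.2 card_elevenGrp

theorem el_pairs : ∀ c ∈ List.range 23, ∀ d ∈ List.range 23, Nat.testBit sqDod c = false →
    Nat.testBit sqDod d = false → c ≠ d → ∃ x ∈ elElems, app x 5 = c ∧ app x 7 = d := by
  decide +kernel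

theorem compl_fix {g : Equiv.Perm GolayPt} (hg : g ∈ Spor.M11) :
    g • (Finset.univ \ Spor.squareDodecad) = Finset.univ \ Spor.squareDodecad := by
  rw [Finset.smul_finset_sdiff, Finset.smul_finset_univ,
    show g • Spor.squareDodecad = Spor.squareDodecad from hg.1.2]

theorem elevenGrp_twoTrans :
    TwoTransOn elevenGrp (↑((setOf outMask).erase none) : Set GolayPt) where
  maps g x hx := by
    simp only [Finset.coe_erase, Set.mem_sdiff, Finset.mem_coe, Set.mem_singleton_iff] at hx ⊢
    refine ⟨M11_keeps_out g.2.1 hx.1, fun e => hx.2 ?_⟩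
    exact MulAction.injective (g : Equiv.Perm GolayPt) (e.trans g.2.2.symm)
  pairs a ha b hb c hc d hd hab hcd := by
    have key : ∀ u v : GolayPt, u ∈ (setOf outMask).erase none → v ∈ (setOf outMask).erase none →
        u ≠ v → ∃ g : elevenGrp, (g : Equiv.Perm GolayPt) (pt ⟨5, by norm_num⟩) = u ∧
          (g : Equiv.Perm GolayPt) (pt ⟨7, by norm_num⟩) = v := by
      intro u v hu hv huv
      have hin : ∀ w, w ∈ (setOf outMask).erase none →
          (idx w : ℕ) ∈ List.range 23 ∧ Nat.testBit sqDod (idx w) = false := by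
        intro w hw
        obtain ⟨hne, hout⟩ := Finset.mem_erase.1 hw
        rw [mem_out, mem_setOf] at hout
        refine ⟨List.mem_range.2 ?_, by simpa using hout⟩
        have h24 := (idx w).isLt
        by_contra hge
        refine hne ?_
        rw [← pt_idx w, show idx w = ⟨23, by norm_num⟩ from Fin.ext (by simp; omega), pt23]
      obtain ⟨x, hx, h5, h7⟩ := el_pairs _ (hin u hu).1 _ (hin v hv).1 (hin u hu).2 (hin v hv).2
        fun e => huv (idx_inj.1 (Fin.ext e))
      have hc := elCert_ok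
      simp only [Bool.and_eq_true] at hc
      obtain ⟨hv', -, hmem⟩ := elCert.props hc.1.1 hx
      refine ⟨⟨toPerm x, elevenGrp_eq.1 ▸ hmem⟩, idx_inj.1 (Fin.ext ?_), idx_inj.1 (Fin.ext ?_)⟩
      · show (idx (toPerm x _) : ℕ) = _
        rw [idx_toPerm hv', idx_pt, h5]
      · show (idx (toPerm x _) : ℕ) = _
        rw [idx_toPerm hv', idx_pt, h7]
    obtain ⟨g, hga, hgb⟩ := key a b ha hb hab
    obtain ⟨k, hkc, hkd⟩ := key c d hc hd hcd
    refine ⟨k * g⁻¹, ?_, ?_⟩
    · show ((k * g⁻¹ : elevenGrp) : Equiv.Perm GolayPt) a = c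
      rw [← hga, ← hkc]; simp
    · show ((k * g⁻¹ : elevenGrp) : Equiv.Perm GolayPt) b = d
      rw [← hgb, ← hkd]; simp
  faithful g h := by
    refine Subtype.ext (eq_one_of_fix_five compl_mem_dodecads g.2.1.1.1 (compl_fix g.2.1)
      (s := (setOf outMask).erase none) ?_ ?_ fun x hx => h x hx)
    · refine (Finset.erase_subset _ _).trans (le_of_eq ?_)
      exact setOf_sqDod_xor
    · rw [Finset.card_erase_of_mem none_out, outCard]; norm_num

theorem elevenGrp_simple : IsSimpleGroup elevenGrp := by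
  have := nontrivial_of_card card_elevenGrp (by norm_num)
  refine isSimple_of_prime_gen (p := 11) elevenGrp_twoTrans (a := pt ⟨5, by norm_num⟩)
    (by decide +kernel) (by norm_num) ?_ (by rw [card_elevenGrp]; norm_num) ?_
  · rw [Set.ncard_coe_finset, Finset.card_erase_of_mem none_out, outCard]
  · rw [eq_top_iff]
    rintro ⟨g, hg⟩ -
    have hle : elCert.grp ≤ (Subgroup.closure {g : elevenGrp | g ^ 11 = 1}).map elevenGrp.subtype := by
      rw [ListCert.grp, Subgroup.closure_le]
      rintro _ ⟨u, hu, rfl⟩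
      exact ⟨⟨toPerm u, (elCert_gens hu).2.1⟩,
        Subgroup.subset_closure (Subtype.ext (elCert_gens hu).2.2), rfl⟩
    obtain ⟨u, hu, hug⟩ := hle (elevenGrp_eq.1.le hg)
    exact (Subtype.ext hug : u = ⟨g, hg⟩) ▸ hu

set_option maxRecDepth 8000 in
set_option synthInstance.maxSize 2000 in
set_option synthInstance.maxHeartbeats 200000 in
theorem check_eleven : RecognizePSL.Cover (ZMod 11) 4 2 5 ∧
    RecognizePSL.Check (ZMod 11) 4 2 5 (fun _ => true) := by
  unfold RecognizePSL.Cover RecognizePSL.Check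
  decide +kernel

theorem elevenGrp_psl : Nonempty (elevenGrp ≃* Matrix.ProjectiveSpecialLinearGroup (Fin 2) (ZMod 11)) := by
  have : Fact (Nat.Prime 11) := ⟨by norm_num⟩
  have := elevenGrp_simple
  have hnc : ¬ IsMulCommutative elevenGrp :=
    SmallSimple.not_isMulCommutative (by rw [card_elevenGrp]; norm_num)
  obtain ⟨P⟩ : Nonempty (Sylow 11 elevenGrp) := inferInstance
  have hPc : Nat.card P = 11 := by
    rw [SmallSimple.card_sylow_of_eq (k := 1) (m := 60) P (by rw [card_elevenGrp]; norm_num)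
      (by norm_num), pow_one]
  have hdvd : Nat.card (Sylow 11 elevenGrp) ∣ 60 := by
    have h1 := P.card_dvd_index
    have h2 := Subgroup.card_mul_index (P : Subgroup elevenGrp)
    rw [hPc, card_elevenGrp] at h2
    rwa [show (P : Subgroup elevenGrp).index = 60 by omega] at h1
  have hn : Nat.card (Sylow 11 elevenGrp) = 11 + 1 := by
    have key : ∀ n ∈ Nat.divisors 60, n % 11 = 1 → n = 1 ∨ n = 11 + 1 := by decide
    exact (key _ (Nat.mem_divisors.2 ⟨hdvd, by norm_num⟩)
      (card_sylow_modEq_one 11 elevenGrp)).resolve_left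
      (SmallSimple.card_sylow_ne_one hnc (by rw [card_elevenGrp]; norm_num))
  exact RecognizePSL.mulEquiv_PSL_prime hnc hn (m := 5) rfl (by rw [card_elevenGrp]) (4 : ZMod 11) 2
    (fun _ => true) check_eleven.1 check_eleven.2 (fun _ _ _ _ _ _ _ _ _ _ _ _ => rfl)
    (ZMod.card 11)

theorem exists_point_out_map {d : Finset GolayPt} (hd : d ∈ dodecads) {p q : GolayPt} (hp : p ∈ d)
    (hq : q ∉ d) : ∃ σ ∈ M24, σ • setOf sqDod = d ∧ σ (some 0) = p ∧ σ (none : GolayPt) = q := by
  obtain ⟨σ, hσ, h, h0⟩ := exists_sqDod_point_map d hd p hp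
  have hout : σ⁻¹ q ∈ setOf outMask := by
    rw [mem_out]
    intro hm
    apply hq
    rw [← h, ← Finset.inv_smul_mem_iff]
    exact hm
  obtain ⟨a, ha, hae⟩ := M11_trans_out hout
  refine ⟨σ * a, M24.mul_mem hσ ha.1.1, ?_, ?_, ?_⟩
  · rw [mul_smul, setOf_sqDod, show a • Spor.squareDodecad = Spor.squareDodecad from ha.1.2,
      ← setOf_sqDod, h]
  · rw [Equiv.Perm.mul_apply, show a (some 0) = some 0 from ha.2, h0]
  · rw [Equiv.Perm.mul_apply, hae]; simp

theorem stab_d_p_q {d : Finset GolayPt} (hd : d ∈ dodecads) {p q : GolayPt} (hp : p ∈ d) (hq : q ∉ d) :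
    Nonempty (↥(stabilizer M24 d ⊓ stabilizer M24 p ⊓ stabilizer M24 q) ≃*
      Matrix.ProjectiveSpecialLinearGroup (Fin 2) (ZMod 11)) := by
  obtain ⟨σ, hσ, hσd, h0, hn⟩ := exists_point_out_map hd hp hq
  obtain ⟨e⟩ := elevenGrp_psl
  rw [← stab_pair_eq, ← stab_pair_eq]
  have hg : ((d, p), q) = (⟨σ, hσ⟩ : M24) •
      ((Spor.squareDodecad, (some 0 : GolayPt)), (none : GolayPt)) := by
    rw [← setOf_sqDod]
    exact Prod.ext (Prod.ext hσd.symm h0.symm) hn.symm
  exact ⟨((MulAction.stabilizerEquivStabilizer hg).symm.trans ((stabInfEquiv M24 _).trans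
    (MulEquiv.subgroupCongr (by rw [stab_pair_eq, stab_pair_eq, elevenGrp, Spor.M11, Spor.M12, inf_assoc,
      inf_assoc, inf_assoc])))).trans e⟩

end

end Cfsg.Agent.Golay24.Suborbits
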