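import Cfsg.Agent.Lib.Golay.Suborbits.InvCentData
import Cfsg.Agent.Lib.Golay.SextetStab
import Cfsg.Agent.Lib.Golay.Classes

/-!
The centraliser of a fixed-point-free involution of M24.
-/

set_option autoImplicit false

namespace Cfsg.Agent.Golay24.Suborbits

noncomputable section

open Cfsg
open scoped Pointwise

attribute [local irreducible] weightList codeList combTo m24Prog m24Levels m24Stages

theorem invStd_ok : (inM24 invStd && inM24 invStdConj &&
    (compP invStd invStdConj == compP invStdConj invNone) &&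
    (img invStd invPair.1 == invPair.1) && (img invStd invPair.2 == invPair.2) &&
    isOct invPair.1 && isOct invPair.2 &&
    (pop24 (Nat.land invPair.1 invPair.2) == 4) &&
    (((weightList 8).filter fun o => img invStd o == o).all fun a =>
      ((weightList 8).filter fun o => img invStd o == o).all fun b =>
        !(pop24 (Nat.land a b) == 4) || (canon4 (Nat.land a b) == 8388615))) = true := by
  decide +kernel

theorem invConj_ok : ((invConjugators.zip invConjugates).all (fun ku =>
      inM24 ku.1 && inM24 ku.2 && (sextAct ku.1 8388615 == 8388615) &&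
      (compP ku.1 invStd == compP ku.2 ku.1) && (compP ku.2 idP == ku.2)) &&
    (invConjugators.length == 18) && (invConjugates.length == 18) && decide invConjugates.Nodup &&
    invConjugates.contains invStd &&
    sextGC.gens.all (fun g => invConjugates.all fun u =>
      invConjugates.any fun u' => compP g u == compP u' g)) = true := by decide +kernel

theorem invTrans_ok : ∀ i ∈ List.range 24, ∃ c ∈ invTrans, inM24 c = true ∧
    compP c invStd = compP invStd c ∧ app c 23 = i := by decide +kernel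

/-- The permutations of the code's group commuting with a given one. -/
def commSet (t : Equiv.Perm GolayPt) : Set (Equiv.Perm GolayPt) :=
  {c | c ∈ M24 ∧ c * t = t * c}

theorem invStd_valid : validP invStd = true := by
  have h := invStd_ok
  simp only [Bool.and_eq_true] at h
  exact valid_of_inM24 h.1.1.1.1.1.1.1.1

theorem comm_fixes_sextet {c : Equiv.Perm GolayPt} (hc : c ∈ M24)
    (h : c * toPerm invStd = toPerm invStd * c) : c • stdSextet = stdSextet := by
  have hok := invStd_ok
  simp only [Bool.and_eq_true, List.all_eq_true, beq_iff_eq, List.mem_filter, Bool.or_eq_true,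
    Bool.not_eq_true', beq_eq_false_iff_ne] at hok
  obtain ⟨⟨⟨⟨⟨⟨⟨⟨-, -⟩, -⟩, hA⟩, hB⟩, hoA⟩, hoB⟩, h4⟩, hall⟩ := hok
  have mem : ∀ X, isOct X = true → img invStd X = X →
      maskOf (c • setOf X) ∈ weightList 8 ∧ img invStd (maskOf (c • setOf X)) = maskOf (c • setOf X) := by
    intro X hX hfix
    refine ⟨mem_octads_iff.1 (smul_mem_octads hc (setOf_mem_octads hX)), ?_⟩
    rw [← maskOf_smul invStd_valid, ← mul_smul, ← h, mul_smul, smul_setOf invStd_valid, hfix]
  set A := invPair.1
  set B := invPair.2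
  have hAlt : A < 2 ^ 24 := by decide +kernel
  have hfixA := mem A hoA hA
  have hfixB := mem B hoB hB
  have hsem : semSext (Nat.land A B) = stdSextet := by
    have hA8 : A ∈ weightList 8 := by
      have := mem_octads_iff.1 (setOf_mem_octads hoA)
      rwa [maskOf_setOf hAlt] at this
    have hB8 : B ∈ weightList 8 := by
      have := mem_octads_iff.1 (setOf_mem_octads hoB)
      rwa [maskOf_setOf (by decide +kernel)] at this
    have hlt : Nat.land A B < 2 ^ 24 := lt_of_le_of_lt Nat.and_le_left hAlt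
    rw [← (canon4_spec hlt h4).2.2.2, (hall A ⟨hA8, hA⟩ B ⟨hB8, hB⟩).resolve_left (fun e => e h4)]
    rfl
  set a := maskOf (c • setOf A)
  set b := maskOf (c • setOf B)
  have e : c • setOf (Nat.land A B) = setOf (Nat.land a b) := by
    show c • setOf (A &&& B) = setOf (a &&& b)
    rw [setOf_land, Finset.smul_finset_inter, setOf_land, setOf_maskOf, setOf_maskOf]
  have h4' : pop24 (Nat.land a b) = 4 := by
    rw [← card_setOf, ← e, Finset.card_smul_finset, card_setOf, h4]
  have hlt' : Nat.land a b < 2 ^ 24 := lt_of_le_of_lt Nat.and_le_left (maskOf_lt _)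
  conv_lhs => rw [← hsem]
  rw [semSext, smul_sextOf hc (by rw [card_setOf, h4]), e]
  show semSext (Nat.land a b) = stdSextet
  rw [← (canon4_spec hlt' h4').2.2.2, (hall a hfixA b hfixB).resolve_left (fun e => e h4')]
  rfl

theorem conjugates_valid {u : ℕ} (hu : u ∈ invConjugates) :
    validP u = true ∧ compP u idP = u := by
  have h := invConj_ok
  simp only [Bool.and_eq_true, List.all_eq_true, beq_iff_eq] at h
  obtain ⟨i, hi, rfl⟩ := List.mem_iff_getElem.1 hu
  have hz : (invConjugators[i]'(by omega), invConjugates[i]) ∈ invConjugators.zip invConjugates :=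
    List.mem_iff_getElem.2 ⟨i, by simp [List.length_zip]; omega, by simp⟩
  have h' := h.1.1.1.1.1 _ hz
  exact ⟨valid_of_inM24 h'.1.1.1.2, h'.2⟩

theorem sextStab_permutes {k : Equiv.Perm GolayPt} (hk : k ∈ sextStab) :
    ∀ u ∈ invConjugates, ∃ u' ∈ invConjugates, k * toPerm u = toPerm u' * k := by
  rw [sextStab_eq, ← SetLike.mem_coe, ← Subgroup.coe_toSubmonoid,
    Subgroup.closure_toSubmonoid_of_finite, SetLike.mem_coe] at hk
  induction hk using Submonoid.closure_induction with
  | mem x hx =>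
    obtain ⟨g, hg, rfl⟩ := hx
    intro u hu
    have h := invConj_ok
    simp only [Bool.and_eq_true, List.all_eq_true, List.any_eq_true, beq_iff_eq] at h
    obtain ⟨u', hu', he⟩ := h.2 g hg u hu
    have hv := valid_of_inM24 (sextGC_gens hg).1
    exact ⟨u', hu', by rw [← toPerm_compP hv (conjugates_valid hu).1,
      ← toPerm_compP (conjugates_valid hu').1 hv, he]⟩
  | one => exact fun u hu => ⟨u, hu, by simp⟩
  | mul x y _ _ hx hy =>
    intro u hu
    obtain ⟨u', hu', e'⟩ := hy u hu
    obtain ⟨u'', hu'', e''⟩ := hx u' hu'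
    exact ⟨u'', hu'', by rw [mul_assoc, e', ← mul_assoc, e'', mul_assoc]⟩

theorem card_commSet_std : Nat.card (commSet (toPerm invStd)) = 7680 := by
  have h := invConj_ok
  simp only [Bool.and_eq_true, List.all_eq_true, beq_iff_eq, decide_eq_true_eq,
    List.contains_iff_mem] at h
  obtain ⟨⟨⟨⟨⟨hz, hlk⟩, hlu⟩, hnd⟩, hmem⟩, -⟩ := h
  have hrep : ∀ i : Fin 18, toPerm (invConjugators[i.1]'(by omega)) ∈ sextStab ∧
      toPerm (invConjugators[i.1]'(by omega)) * toPerm invStd =
        toPerm (invConjugates[i.1]'(by omega)) * toPerm (invConjugators[i.1]'(by omega)) := by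
    intro i
    have hz' : (invConjugators[i.1]'(by omega), invConjugates[i.1]'(by omega)) ∈
        invConjugators.zip invConjugates :=
      List.mem_iff_getElem.2 ⟨i, by simp [List.length_zip]; omega, by simp⟩
    obtain ⟨⟨⟨⟨hk, hu⟩, hs⟩, he⟩, -⟩ := hz _ hz'
    refine ⟨⟨toPerm_mem_M24 hk, ?_⟩, ?_⟩
    · show toPerm _ • stdSextet = stdSextet
      rw [stdSextet, ← semSext_act hk (by decide +kernel), hs]
    · rw [← toPerm_compP (valid_of_inM24 hk) invStd_valid,
        ← toPerm_compP (valid_of_inM24 hu) (valid_of_inM24 hk), he]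
  have hsub : ∀ c ∈ commSet (toPerm invStd), c ∈ sextStab :=
    fun c hc => ⟨hc.1, comm_fixes_sextet hc.1 hc.2⟩
  let f : Fin 18 × commSet (toPerm invStd) → sextStab := fun ic =>
    ⟨toPerm (invConjugators[ic.1.1]'(by omega)) * (ic.2 : Equiv.Perm GolayPt),
      sextStab.mul_mem (hrep ic.1).1 (hsub _ ic.2.2)⟩
  have hf : Function.Bijective f := by
    constructor
    · rintro ⟨i, c, hc⟩ ⟨j, d, hd⟩ he
      have he' : toPerm (invConjugators[i.1]'(by omega)) * c =
          toPerm (invConjugators[j.1]'(by omega)) * d := congrArg Subtype.val he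
      have key : ∀ (l : Fin 18) (e : Equiv.Perm GolayPt), e * toPerm invStd = toPerm invStd * e →
          toPerm (invConjugators[l.1]'(by omega)) * e * toPerm invStd =
            toPerm (invConjugates[l.1]'(by omega)) *
              (toPerm (invConjugators[l.1]'(by omega)) * e) := fun l e hl => by
        rw [mul_assoc, hl, ← mul_assoc, (hrep l).2, mul_assoc]
      have h1 := key i c hc.2
      rw [he', key j d hd.2, mul_left_inj] at h1
      have hu := toPerm_inj (conjugates_valid (List.getElem_mem _)).1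
        (conjugates_valid (List.getElem_mem _)).1 (conjugates_valid (List.getElem_mem _)).2
        (conjugates_valid (List.getElem_mem _)).2 h1.symm
      have hij : i = j := Fin.ext ((List.Nodup.getElem_inj_iff hnd).1 hu)
      subst hij
      rw [mul_right_inj] at he'
      subst he'
      rfl
    · intro k
      obtain ⟨u, hu, he⟩ := sextStab_permutes k.2 invStd hmem
      obtain ⟨i, hi, rfl⟩ := List.mem_iff_getElem.1 hu
      obtain ⟨hr, hre⟩ := hrep ⟨i, by omega⟩
      set r := toPerm (invConjugators[i]'(by omega))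
      refine ⟨(⟨i, by omega⟩, ⟨r⁻¹ * k, M24.mul_mem (M24.inv_mem hr.1) k.2.1, ?_⟩),
        Subtype.ext (mul_inv_cancel_left r _)⟩
      have hre' : r⁻¹ * toPerm invConjugates[i] = toPerm invStd * r⁻¹ := by
        rw [inv_mul_eq_iff_eq_mul, ← mul_assoc, hre, mul_inv_cancel_right]
      rw [mul_assoc, he, ← mul_assoc, hre', mul_assoc]
  have hc := Nat.card_congr (Equiv.ofBijective f hf)
  rw [Nat.card_prod, Nat.card_eq_fintype_card, Fintype.card_fin, card_sextStab] at hc
  omega

theorem commSet_trans_std (p q : GolayPt) :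
    ∃ c ∈ commSet (toPerm invStd), c p = q := by
  have key : ∀ x : GolayPt, ∃ c ∈ commSet (toPerm invStd), c (pt ⟨23, by norm_num⟩) = x := by
    intro x
    obtain ⟨c, -, hM, he, hx⟩ := invTrans_ok (idx x) (List.mem_range.2 (idx x).isLt)
    have hv := valid_of_inM24 hM
    refine ⟨toPerm c, ⟨toPerm_mem_M24 hM, ?_⟩, idx_inj.1 (Fin.ext ?_)⟩
    · rw [← toPerm_compP hv invStd_valid, ← toPerm_compP invStd_valid hv, he]
    · rw [idx_toPerm hv, idx_pt, hx]
  obtain ⟨a, ⟨ha, hac⟩, rfl⟩ := key p
  obtain ⟨b, ⟨hb, hbc⟩, rfl⟩ := key q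
  refine ⟨b * a⁻¹, ⟨M24.mul_mem hb (M24.inv_mem ha), ?_⟩, by simp⟩
  exact (Commute.mul_left hbc (Commute.inv_left hac)).eq

theorem involution_centraliser {t : Equiv.Perm GolayPt} (ht : t ∈ M24) (h₂ : orderOf t = 2)
    (h₀ : ∀ p, t p ≠ p) :
    Nat.card {c : Equiv.Perm GolayPt // c ∈ M24 ∧ c * t = t * c} = 7680 ∧
    (∀ p q : GolayPt, ∃ c ∈ M24, c * t = t * c ∧ c p = q) ∧
    ∃ S ∈ sextets, t • S = S ∧ ∀ c ∈ M24, c * t = t * c → c • S = S := by
  obtain ⟨k, hk, hkt⟩ := conj_none ht h₂ ((fixCount_eq_zero_iff t).2 h₀)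
  have hok := invStd_ok
  simp only [Bool.and_eq_true, beq_iff_eq] at hok
  obtain ⟨⟨⟨⟨⟨⟨⟨⟨-, hσ⟩, hσe⟩, -⟩, -⟩, -⟩, -⟩, -⟩, -⟩ := hok
  have hvN : validP invNone = true := by
    have h := classReps_ok
    simp only [Bool.and_eq_true, List.all_eq_true] at h
    exact valid_of_inM24 (h.1.1.1.1.1 invNone (by simp)).1
  set s := toPerm invStdConj
  have hs : s ∈ M24 := toPerm_mem_M24 hσ
  have hst : toPerm invStd * s = s * toPerm invNone := by
    rw [← toPerm_compP invStd_valid (valid_of_inM24 hσ), ← toPerm_compP (valid_of_inM24 hσ) hvN, hσe]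
  set κ := s * k with hκ
  have hκM : κ ∈ M24 := M24.mul_mem hs hk
  have ht0 : κ * t * κ⁻¹ = toPerm invStd := by
    rw [hκ, mul_inv_rev,
      show s * k * t * (k⁻¹ * s⁻¹) = s * (k * t * k⁻¹) * s⁻¹ by group, hkt, ← hst,
      mul_inv_cancel_right]
  have hto : ∀ c, c ∈ M24 ∧ c * t = t * c → κ * c * κ⁻¹ ∈ commSet (toPerm invStd) := by
    rintro c ⟨hc, he⟩
    refine ⟨M24.mul_mem (M24.mul_mem hκM hc) (M24.inv_mem hκM), ?_⟩
    rw [← ht0]
    calc κ * c * κ⁻¹ * (κ * t * κ⁻¹) = κ * (c * t) * κ⁻¹ := by group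
      _ = κ * t * κ⁻¹ * (κ * c * κ⁻¹) := by rw [he]; group
  have hfrom : ∀ c, c ∈ commSet (toPerm invStd) → κ⁻¹ * c * κ ∈ M24 ∧
      κ⁻¹ * c * κ * t = t * (κ⁻¹ * c * κ) := by
    rintro c ⟨hc, he⟩
    refine ⟨M24.mul_mem (M24.mul_mem (M24.inv_mem hκM) hc) hκM, ?_⟩
    rw [← ht0] at he
    calc κ⁻¹ * c * κ * t = κ⁻¹ * (c * (κ * t * κ⁻¹)) * κ := by group
      _ = t * (κ⁻¹ * c * κ) := by rw [he]; group
  have hS : ∀ c ∈ M24, c * t = t * c → c • (κ⁻¹ • stdSextet) = κ⁻¹ • stdSextet := fun c hc he => by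
    have h := comm_fixes_sextet (hto c ⟨hc, he⟩).1 (hto c ⟨hc, he⟩).2
    rw [mul_smul, mul_smul] at h
    exact eq_inv_smul_iff.2 h
  refine ⟨?_, fun p q => ?_, κ⁻¹ • stdSextet, smul_mem_sextets (M24.inv_mem hκM) stdSextet_mem,
    hS t ht rfl, hS⟩
  · rw [← card_commSet_std]
    exact Nat.card_congr
      { toFun := fun c => ⟨κ * c.1 * κ⁻¹, hto c.1 c.2⟩
        invFun := fun c => ⟨κ⁻¹ * c.1 * κ, hfrom c.1 c.2⟩
        left_inv := fun c => Subtype.ext (by group)
        right_inv := fun c => Subtype.ext (by group) }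
  · obtain ⟨c, hc, he⟩ := commSet_trans_std (κ p) (κ q)
    refine ⟨κ⁻¹ * c * κ, (hfrom c hc).1, (hfrom c hc).2, ?_⟩
    simp [he]

end

end Cfsg.Agent.Golay24.Suborbits
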