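import Cfsg.Agent.Lib.Golay.M24

/-! Data for the centraliser of a fixed-point-free involution (from an offline script). -/

set_option autoImplicit false

namespace Cfsg.Agent.Golay24.Suborbits

/-- A conjugate of the representative whose sextet is the standard one. -/
def invStd : ℕ := 17131322563941782780614511264466007

/-- The conjugating element. -/
def invStdConj : ℕ := 963276769393077616987268640141942947

/-- Two fixed octads meeting in a tetrad. -/
def invPair : ℕ × ℕ := (12656663, 8536111)

/-- The conjugates under the sextet stabiliser. -/
def invConjugates : List ℕ := [
  17131322563941782780614511264466007, 21064801546226450623669850930086999,
  100734696945008953747646909761674241, 17665557174438149324336018692932695,
  100248596190316129319380533109120001, 88531741395152432619144554048084993,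
  5495518024292395953547195890304087, 104149153821129901086249850554735617,
  47027549764763033801098060336923362, 89053301974695481301600181090966529,
  5447382388983081592886053788877911, 58708955334971165046248774589121250,
  62563919208128639077930020080091874, 104101027238228805653690046702214145,
  63098155598130777866857538834072290, 21553437447306391113730797094863959,
  47513657792358304912259763912868578, 58676030656508056853854093711016674]

/-- Elements realising them. -/
def invConjugators : List ℕ := [
  984818244535754528103549039458486304, 66410247111762057678090365411099362,
  172951420325031271211232674607847856, 973889782816882625043273540770760736,
  564747226216243969145635132105113750, 128089262355028070594103694564169262,
  65719214497384805601825236698268386, 267417336981013829109136821314835699,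
  731710129357364965191711451465922661, 70403556597652023706560068046064352,
  968540104338107175955812700454029344, 566692116528500635359325063504937110,
  517434284437574343013950928734275944, 980180963012261529998410391906287650,
  647010356227088345766076561600162100, 374621459898690775105378738767483215,
  190867619684742880034807313938563510, 478466680287529460985953224031357196]

/-- Commuting elements moving the last position to each position. -/
def invTrans : List ℕ := [
  22440753630946395903715567916811351, 58708955334971165046248774589121250,
  111092151746246574687504266033824481, 150667896123585423428128026496538158,
  166789406217808103173818540751182256, 235327054441692762472924607596214385,
  267740974757292994742172935536069877, 290935570506673248125728068557231315,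
  359747107897901374132876186983477835, 392751441301674996420904716307288399,
  444455118764830435607741446242739700, 462342725129773030468994162658888072,
  519332376991511217692406521777040658, 563935334619687995903666943297208470,
  592185793381725795705524285826647203, 644356008810616166703067379948114249,
  688794791137167688867020779090565540, 723436124623103538442216037136316517,
  750433377159711098953035845283946860, 803650607787996276189134212179925671,
  860773469645199094668201997613940010, 885633161353233421225071429776055910,
  926224252512302025497798524654370957, 984818244535754528103549039458486304]

end Cfsg.Agent.Golay24.Suborbits
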