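import Cfsg.Agent.Lib.Golay.Suborbits.NineData
import Cfsg.Agent.Lib.Golay.Suborbits.Hexad
import Cfsg.Agent.Lib.Golay.Conj
import Mathlib.GroupTheory.SpecificGroups.Quaternion

/-!
The stabiliser of a dodecad and three of its points.
-/

set_option autoImplicit false

namespace Cfsg.Agent.Golay24.Suborbits

noncomputable section

open Cfsg MulAction
open scoped Pointwise

attribute [local irreducible] weightList codeList combTo

/-- A group of order 72 with a normal exponent three subgroup of order 9 and a quaternion subgroup. -/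
theorem structure_72 {G : Type*} [Group G] [Finite G] (hc : Nat.card G = 72) (N : Subgroup G)
    [hN : N.Normal] (h9 : Nat.card N = 9) (h3 : ∀ x ∈ N, x ^ 3 = 1) (φ : QuaternionGroup 2 →* G)
    (hφ : Function.Injective φ) :
    (∀ Q : Sylow 3 G, (Q : Subgroup G).Normal ∧ Nat.card ↥Q = 9 ∧
        ∀ x ∈ (Q : Subgroup G), x ^ 3 = 1) ∧
      ∀ P : Sylow 2 G, Nonempty (↥P ≃* QuaternionGroup 2) := by
  have : Fact (Nat.Prime 3) := ⟨Nat.prime_three⟩
  have h72 : (72 : ℕ).factorization 3 = 2 ∧ (72 : ℕ).factorization 2 = 3 := by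
    have e : (72 : ℕ) = 2 ^ 3 * 3 ^ 2 := by norm_num
    rw [e, Nat.factorization_mul (by norm_num) (by norm_num), Finsupp.add_apply, Finsupp.add_apply,
      Nat.Prime.factorization_pow Nat.prime_two, Nat.Prime.factorization_pow Nat.prime_three]
    simp
  constructor
  · intro Q
    have hQ : Nat.card ↥Q = 9 := Q.card_eq_multiplicity.trans (by rw [hc, h72.1]; norm_num)
    have hp : IsPGroup 3 N := IsPGroup.of_card (n := 2) (by rw [h9]; norm_num)
    obtain ⟨R, hR⟩ := hp.exists_le_sylow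
    have hRN : N = (R : Subgroup G) := Subgroup.eq_of_le_of_card_ge hR (by
      rw [h9]; exact le_of_eq (R.card_eq_multiplicity.trans (by rw [hc, h72.1]; norm_num)))
    have hRn : (R : Subgroup G).Normal := hRN ▸ hN
    have hQN : (Q : Subgroup G) = N := by
      have := Sylow.unique_of_normal R hRn
      rw [hRN, Subsingleton.elim Q R]
    exact ⟨hQN ▸ hN, hQ, hQN ▸ h3⟩
  · intro P
    have h8 : Nat.card φ.range = 8 := by
      rw [← Nat.card_congr (MonoidHom.ofInjective hφ).toEquiv, Nat.card_eq_fintype_card,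
        QuaternionGroup.card]
    let R : Sylow 2 G := Sylow.ofCard φ.range (by rw [h8, hc, h72.2]; norm_num)
    exact ⟨(Sylow.equiv P R).trans (MonoidHom.ofInjective hφ).symm⟩

/-- The images of the two moving positions. -/
def keyP (g : ℕ) : ℕ × ℕ := (app g 3, app g 4)

/-- Whether two listed permutations compose to a third. -/
def mulKey (g h : ℕ) : ℕ × ℕ := (app g (app h 3), app g (app h 4))

/-- The index of a quaternion element in the table. -/
def quatIx : QuaternionGroup 2 → ℕ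
  | .a i => i.val
  | .xa i => 4 + i.val

/-- The code of a quaternion element. -/
def quatCode (q : QuaternionGroup 2) : ℕ := nineQuat.getD (quatIx q) 0

theorem nine_ok : (nineAll.all (fun g => inM24 g && (img g sqDod == sqDod) && (app g 0 == 0) &&
      (app g 1 == 1) && (app g 2 == 2)) &&
    (nineAll.length == 72) && decide (nineAll.map keyP).Nodup &&
    [0, 1, 2, 3, 4].all (fun i => Nat.testBit sqDod i) &&
    nineKer.all (fun g => nineAll.contains g) && (nineKer.length == 9) &&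
    decide (nineKer.map keyP).Nodup && (nineKer.map keyP).contains (3, 4) &&
    nineKer.all (fun m => nineKer.all fun n => (nineKer.map keyP).contains (mulKey m n)) &&
    nineKer.all (fun m => (app m (app m (app m 3)) == 3) && (app m (app m (app m 4)) == 4)) &&
    nineAll.all (fun g => nineKer.all fun n => nineKer.any fun m => mulKey g n == mulKey m g)) = true := by
  decide +kernel

theorem quat_ok : (∀ q r : QuaternionGroup 2, keyP (quatCode (q * r)) = mulKey (quatCode q) (quatCode r)) ∧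
    (∀ q, quatCode q ∈ nineAll) ∧ ∀ q r : QuaternionGroup 2, keyP (quatCode q) = keyP (quatCode r) → q = r := by
  decide +kernel

/-- The standard stabiliser. -/
abbrev nineGrp : Subgroup M24 :=
  stabilizer M24 (setOf sqDod) ⊓ stabilizer M24 (pt ⟨0, by norm_num⟩) ⊓ stabilizer M24 (pt ⟨1, by norm_num⟩) ⊓
    stabilizer M24 (pt ⟨2, by norm_num⟩)

/-- The keys reachable inside the dodecad. -/
theorem nine_cover : ∀ i ∈ List.range 24, ∀ j ∈ List.range 24, Nat.testBit sqDod i = true →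
    Nat.testBit sqDod j = true → 2 < i → 2 < j → i ≠ j → (i, j) ∈ nineAll.map keyP := by
  decide +kernel

theorem sqDod_mem : setOf sqDod ∈ dodecads := by
  have h : (weightList 12).contains sqDod = true := by decide +kernel
  rw [List.contains_iff_mem] at h
  rw [mem_dodecads_iff, maskOf_setOf (weightList_lt h)]
  exact h

/-- The listed element in the standard stabiliser. -/
def nineEl {g : ℕ} (hg : g ∈ nineAll) : nineGrp :=
  have hd := (by
    have h := nine_ok
    simp only [Bool.and_eq_true, List.all_eq_true, beq_iff_eq] at h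
    exact h.1.1.1.1.1.1.1.1.1.1 g hg :
    (((inM24 g = true ∧ img g sqDod = sqDod) ∧ app g 0 = 0) ∧ app g 1 = 1) ∧ app g 2 = 2)
  ⟨⟨toPerm g, toPerm_mem_M24 hd.1.1.1.1⟩, ⟨⟨⟨(smul_setOf (valid_of_inM24 hd.1.1.1.1) sqDod).trans
      (congrArg Golay24.setOf hd.1.1.1.2),
    toPerm_mem_stabilizer (b := 0) (by norm_num) (valid_of_inM24 hd.1.1.1.1) hd.1.1.2⟩,
    toPerm_mem_stabilizer (b := 1) (by norm_num) (valid_of_inM24 hd.1.1.1.1) hd.1.2⟩,
    toPerm_mem_stabilizer (b := 2) (by norm_num) (valid_of_inM24 hd.1.1.1.1) hd.2⟩⟩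

theorem nine_valid {g : ℕ} (hg : g ∈ nineAll) : validP g = true := by
  have h := nine_ok
  simp only [Bool.and_eq_true, List.all_eq_true, beq_iff_eq] at h
  exact valid_of_inM24 (h.1.1.1.1.1.1.1.1.1.1 g hg).1.1.1.1

/-- The pair of images of the two moving points. -/
def nineKey (u : nineGrp) : ℕ × ℕ :=
  ((idx (((u : M24) : Equiv.Perm GolayPt) (pt ⟨3, by norm_num⟩)) : ℕ),
    (idx (((u : M24) : Equiv.Perm GolayPt) (pt ⟨4, by norm_num⟩)) : ℕ))

theorem nineKey_el {g : ℕ} (hg : g ∈ nineAll) : nineKey (nineEl hg) = keyP g := by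
  simp [nineKey, nineEl, keyP, idx_toPerm (nine_valid hg), idx_pt]

theorem nineKey_mul {g h : ℕ} (hg : g ∈ nineAll) (hh : h ∈ nineAll) :
    nineKey (nineEl hg * nineEl hh) = mulKey g h := by
  simp [nineKey, nineEl, mulKey, idx_toPerm (nine_valid hg), idx_toPerm (nine_valid hh), idx_pt]

theorem nineKey_injective : Function.Injective nineKey := by
  intro u v h
  obtain ⟨h3, h4⟩ := Prod.ext_iff.1 h
  have e3 := idx_inj.1 (Fin.ext h3)
  have e4 := idx_inj.1 (Fin.ext h4)
  have hw := (nineGrp).mul_mem ((nineGrp).inv_mem v.2) u.2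
  obtain ⟨⟨⟨hd, h0⟩, h1⟩, h2⟩ := hw
  have hsub : setOf 31 ⊆ setOf sqDod := by decide +kernel
  have hone := eq_one_of_fix_five sqDod_mem ((v : M24)⁻¹ * u).2 hd hsub (by decide +kernel)
    (fun p hp => by
      rw [mem_setOf] at hp
      have : ∀ i : Fin 24, Nat.testBit 31 i = true → i = ⟨0, by norm_num⟩ ∨ i = ⟨1, by norm_num⟩ ∨
        i = ⟨2, by norm_num⟩ ∨ i = ⟨3, by norm_num⟩ ∨ i = ⟨4, by norm_num⟩ := by decide
      rw [← pt_idx p]
      rcases this _ hp with e | e | e | e | e <;> rw [e]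
      · exact h0
      · exact h1
      · exact h2
      · show ((v : M24) : Equiv.Perm GolayPt)⁻¹ (((u : M24) : Equiv.Perm GolayPt) (pt _)) = pt _
        rw [e3]; exact Equiv.symm_apply_apply _ _
      · show ((v : M24) : Equiv.Perm GolayPt)⁻¹ (((u : M24) : Equiv.Perm GolayPt) (pt _)) = pt _
        rw [e4]; exact Equiv.symm_apply_apply _ _)
  have hone' : (v : M24)⁻¹ * u = 1 := Subtype.ext hone
  exact Subtype.ext (inv_mul_eq_one.1 hone').symm

theorem nineKey_mem (u : nineGrp) : nineKey u ∈ nineAll.map keyP := by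
  obtain ⟨⟨⟨hd, h0⟩, h1⟩, h2⟩ := u.2
  have hin : ∀ i : Fin 24, Nat.testBit sqDod i = true →
      Nat.testBit sqDod (idx (((u : M24) : Equiv.Perm GolayPt) (pt i))) = true := by
    intro i hi
    rw [← mem_setOf, ← Equiv.Perm.smul_def,
      show setOf sqDod = ((u : M24) : Equiv.Perm GolayPt) • setOf sqDod from hd.symm,
      Finset.smul_mem_smul_finset_iff, mem_setOf, idx_pt]
    exact hi
  have hout : ∀ i : Fin 24, 2 < (i : ℕ) →
      2 < (idx (((u : M24) : Equiv.Perm GolayPt) (pt i)) : ℕ) := by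
    intro i hi
    by_contra hle
    have key : ∀ (j : Fin 24), ((u : M24) : Equiv.Perm GolayPt) (pt j) = pt j →
        (idx (((u : M24) : Equiv.Perm GolayPt) (pt i)) : ℕ) = (j : ℕ) → False := by
      intro j hj he
      have e : ((u : M24) : Equiv.Perm GolayPt) (pt i) = ((u : M24) : Equiv.Perm GolayPt) (pt j) := by
        rw [hj]; exact idx_inj.1 (Fin.ext (by rw [he, idx_pt]))
      have e' := congrArg (fun z => (idx z : ℕ)) (Equiv.injective _ e)
      simp only [idx_pt] at e'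
      omega
    rcases (show _ = 0 ∨ _ = 1 ∨ _ = 2 by omega :
      (idx (((u : M24) : Equiv.Perm GolayPt) (pt i)) : ℕ) = 0 ∨
      (idx (((u : M24) : Equiv.Perm GolayPt) (pt i)) : ℕ) = 1 ∨
      (idx (((u : M24) : Equiv.Perm GolayPt) (pt i)) : ℕ) = 2) with e | e | e
    · exact key ⟨0, by norm_num⟩ h0 e
    · exact key ⟨1, by norm_num⟩ h1 e
    · exact key ⟨2, by norm_num⟩ h2 e
  refine nine_cover _ (List.mem_range.2 (Fin.isLt _)) _ (List.mem_range.2 (Fin.isLt _))
    (hin _ (by decide +kernel)) (hin _ (by decide +kernel)) (hout _ (by norm_num))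
    (hout _ (by norm_num)) fun e => ?_
  have := Equiv.injective _ (idx_inj.1 (Fin.ext e))
  exact absurd this (by decide +kernel)

theorem exists_nineEl (u : nineGrp) : ∃ g, ∃ hg : g ∈ nineAll, nineEl hg = u := by
  obtain ⟨g, hg, he⟩ := List.mem_map.1 (nineKey_mem u)
  exact ⟨g, hg, nineKey_injective ((nineKey_el hg).trans he)⟩

theorem card_nineGrp : Nat.card nineGrp = 72 := by
  have h := nine_ok
  simp only [Bool.and_eq_true, beq_iff_eq, decide_eq_true_eq] at h
  rw [Nat.card_congr (Equiv.ofInjective _ nineKey_injective), Nat.card_coe_set_eq,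
    show Set.range nineKey = ↑(nineAll.map keyP).toFinset from ?_, Set.ncard_coe_finset,
    List.toFinset_card_of_nodup h.1.1.1.1.1.1.1.1.2, List.length_map, h.1.1.1.1.1.1.1.1.1.2]
  ext k
  simp only [Set.mem_range, List.coe_toFinset, Set.mem_ofPred_eq]
  constructor
  · rintro ⟨u, rfl⟩
    exact nineKey_mem u
  · intro hk
    obtain ⟨g, hg, rfl⟩ := List.mem_map.1 hk
    exact ⟨nineEl hg, nineKey_el hg⟩

/-- The elements of the standard stabiliser whose keys are those of the nine listed ones. -/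
def nineSub : Subgroup nineGrp :=
  Subgroup.closure {u | nineKey u ∈ nineKer.map keyP}

theorem mem_nineSub {u : nineGrp} : u ∈ nineSub ↔ nineKey u ∈ nineKer.map keyP := by
  have h := nine_ok
  simp only [Bool.and_eq_true, List.all_eq_true, beq_iff_eq, List.contains_iff_mem] at h
  refine ⟨fun hu => ?_, fun hu => Subgroup.subset_closure hu⟩
  obtain ⟨⟨⟨⟨⟨⟨⟨-, hsub⟩, -⟩, -⟩, hone⟩, hmul⟩, -⟩, -⟩ := h
  rw [nineSub, ← SetLike.mem_coe, ← Subgroup.coe_toSubmonoid,
    Subgroup.closure_toSubmonoid_of_finite, SetLike.mem_coe] at hu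
  induction hu using Submonoid.closure_induction with
  | mem x hx => exact hx
  | one => simpa [nineKey, idx_pt] using hone
  | mul x y _ _ hx hy =>
    obtain ⟨m, hm, hem⟩ := List.mem_map.1 hx
    obtain ⟨n, hn, hen⟩ := List.mem_map.1 hy
    rw [← nineKey_injective ((nineKey_el (hsub m hm)).trans hem),
      ← nineKey_injective ((nineKey_el (hsub n hn)).trans hen), nineKey_mul]
    exact hmul m hm n hn

theorem nineSub_normal : nineSub.Normal := by
  have h := nine_ok
  simp only [Bool.and_eq_true, List.all_eq_true, List.any_eq_true, beq_iff_eq,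
    List.contains_iff_mem] at h
  obtain ⟨⟨⟨⟨⟨⟨⟨-, hsub⟩, -⟩, -⟩, -⟩, -⟩, -⟩, hconj⟩ := h
  refine ⟨fun n hn a => ?_⟩
  rw [mem_nineSub] at hn ⊢
  obtain ⟨g, hg, rfl⟩ := exists_nineEl a
  obtain ⟨k, hk, hek⟩ := List.mem_map.1 hn
  obtain ⟨m, hm, hem⟩ := hconj g hg k hk
  rw [← nineKey_injective ((nineKey_el (hsub k hk)).trans hek)]
  have e : nineEl hg * nineEl (hsub k hk) = nineEl (hsub m hm) * nineEl hg :=
    nineKey_injective (by rw [nineKey_mul, nineKey_mul, hem])
  rw [e, mul_inv_cancel_right, nineKey_el]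
  exact List.mem_map.2 ⟨m, hm, rfl⟩

theorem card_nineSub : Nat.card nineSub = 9 := by
  have h := nine_ok
  simp only [Bool.and_eq_true, List.all_eq_true, beq_iff_eq, decide_eq_true_eq,
    List.contains_iff_mem] at h
  obtain ⟨⟨⟨⟨⟨⟨⟨-, hsub⟩, hlen⟩, hnd⟩, -⟩, -⟩, -⟩, -⟩ := h
  rw [Nat.card_congr (Equiv.ofInjective (fun u : nineSub => nineKey u)
      (nineKey_injective.comp Subtype.val_injective)), Nat.card_coe_set_eq,
    show Set.range (fun u : nineSub => nineKey u) = ↑(nineKer.map keyP).toFinset from ?_,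
    Set.ncard_coe_finset, List.toFinset_card_of_nodup hnd, List.length_map, hlen]
  ext k
  simp only [Set.mem_range, List.coe_toFinset, Set.mem_ofPred_eq]
  constructor
  · rintro ⟨u, rfl⟩
    exact mem_nineSub.1 u.2
  · intro hk
    obtain ⟨g, hg, rfl⟩ := List.mem_map.1 hk
    exact ⟨⟨nineEl (hsub g hg), mem_nineSub.2 (by rw [nineKey_el]; exact hk)⟩, nineKey_el (hsub g hg)⟩

theorem nineSub_cube {u : nineGrp} (hu : u ∈ nineSub) : u ^ 3 = 1 := by
  have h := nine_ok
  simp only [Bool.and_eq_true, List.all_eq_true, beq_iff_eq, List.contains_iff_mem] at h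
  obtain ⟨⟨⟨⟨⟨⟨⟨-, hsub⟩, -⟩, -⟩, -⟩, -⟩, hcube⟩, -⟩ := h
  obtain ⟨g, hg, he⟩ := List.mem_map.1 (mem_nineSub.1 hu)
  rw [← nineKey_injective ((nineKey_el (hsub g hg)).trans he)]
  refine nineKey_injective ?_
  obtain ⟨a, b⟩ := hcube g hg
  simp [nineKey, nineEl, pow_succ, idx_toPerm (nine_valid (hsub g hg)), idx_pt, a, b]

/-- The quaternion subgroup. -/
def nineQ8 : QuaternionGroup 2 →* nineGrp :=
  MonoidHom.mk' (fun q => nineEl (quat_ok.2.1 q)) fun q r => nineKey_injective (by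
    rw [nineKey_el, nineKey_mul, quat_ok.1])

theorem nineQ8_injective : Function.Injective nineQ8 := fun q r e =>
  quat_ok.2.2 q r (by
    have := congrArg nineKey e
    simpa [nineQ8, nineKey_el] using this)

theorem exists_nine_map {d : Finset GolayPt} (hd : d ∈ dodecads) {p q r : GolayPt} (hp : p ∈ d)
    (hq : q ∈ d) (hr : r ∈ d) (hpq : p ≠ q) (hpr : p ≠ r) (hqr : q ≠ r) :
    ∃ σ ∈ M24, σ • setOf sqDod = d ∧ σ (pt ⟨0, by norm_num⟩) = p ∧
      σ (pt ⟨1, by norm_num⟩) = q ∧ σ (pt ⟨2, by norm_num⟩) = r := by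
  obtain ⟨σ, hσ, h⟩ := exists_sqDod_map hd
  have hin : ∀ z ∈ d, σ⁻¹ z ∈ setOf sqDod := fun z hz => by
    rw [← h, ← Finset.inv_smul_mem_iff] at hz; exact hz
  have hc := m12Cert_ok
  simp only [Bool.and_eq_true, beq_iff_eq] at hc
  let x : Fin 3 ↪ GolayPt := ⟨![pt ⟨0, by norm_num⟩, pt ⟨1, by norm_num⟩, pt ⟨2, by norm_num⟩],
    by decide +kernel⟩
  let y : Fin 3 ↪ GolayPt := (⟨![p, q, r], List.nodup_ofFn.1 (by simp [hpq, hpr, hqr])⟩ :
    Fin 3 ↪ GolayPt).trans (σ⁻¹ : Equiv.Perm GolayPt).toEmbedding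
  obtain ⟨τ, hτ, -, hh⟩ := m12Cert.exists_map_one hc.1.1.1.1 m12_grp.le m12Cert_cover (by rw [hc.2])
    (by norm_num : 3 ≤ 5) x y (by decide +kernel) (fun i => hin _ (by fin_cases i <;> simpa))
  refine ⟨σ * τ, M24.mul_mem hσ hτ.1, ?_, ?_, ?_, ?_⟩
  · rw [mul_smul, setOf_sqDod, hτ.2, ← setOf_sqDod, h]
  · rw [Equiv.Perm.mul_apply, show τ (pt ⟨0, by norm_num⟩) = σ⁻¹ p from hh 0]; simp
  · rw [Equiv.Perm.mul_apply, show τ (pt ⟨1, by norm_num⟩) = σ⁻¹ q from hh 1]; simp
  · rw [Equiv.Perm.mul_apply, show τ (pt ⟨2, by norm_num⟩) = σ⁻¹ r from hh 2]; simp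

theorem mathieu_nine {d : Finset GolayPt} (hd : d ∈ dodecads) {p q r : GolayPt} (hp : p ∈ d)
    (hq : q ∈ d) (hr : r ∈ d) (hpq : p ≠ q) (hpr : p ≠ r) (hqr : q ≠ r) :
    (∀ Q : Sylow 3 ↥(stabilizer M24 d ⊓ stabilizer M24 p ⊓ stabilizer M24 q ⊓ stabilizer M24 r),
      (Q : Subgroup ↥(stabilizer M24 d ⊓ stabilizer M24 p ⊓ stabilizer M24 q ⊓
        stabilizer M24 r)).Normal ∧ Nat.card ↥Q = 9 ∧
      ∀ x ∈ (Q : Subgroup ↥(stabilizer M24 d ⊓ stabilizer M24 p ⊓ stabilizer M24 q ⊓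
        stabilizer M24 r)), x ^ 3 = 1) ∧
    ∀ P : Sylow 2 ↥(stabilizer M24 d ⊓ stabilizer M24 p ⊓ stabilizer M24 q ⊓ stabilizer M24 r),
      Nonempty (↥P ≃* QuaternionGroup 2) := by
  obtain ⟨σ, hσ, h, h0, h1, h2⟩ := exists_nine_map hd hp hq hr hpq hpr hqr
  obtain ⟨e⟩ : Nonempty (↥(stabilizer M24 d ⊓ stabilizer M24 p ⊓ stabilizer M24 q ⊓
      stabilizer M24 r) ≃* nineGrp) := by
    rw [nineGrp, ← stab_pair_eq, ← stab_pair_eq, ← stab_pair_eq, ← stab_pair_eq, ← stab_pair_eq,
      ← stab_pair_eq]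
    have hg : (((d, p), q), r) = (⟨σ, hσ⟩ : M24) •
        (((setOf sqDod, pt ⟨0, by norm_num⟩), pt ⟨1, by norm_num⟩), pt ⟨2, by norm_num⟩) :=
      Prod.ext (Prod.ext (Prod.ext h.symm h0.symm) h1.symm) h2.symm
    exact ⟨(MulAction.stabilizerEquivStabilizer hg).symm⟩
  have hN : (nineSub.map e.symm.toMonoidHom).Normal :=
    nineSub_normal.map e.symm.toMonoidHom e.symm.surjective
  refine structure_72 ((Nat.card_congr e.toEquiv).trans card_nineGrp) (nineSub.map e.symm.toMonoidHom)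
    ?_ ?_ (e.symm.toMonoidHom.comp nineQ8) (e.symm.injective.comp nineQ8_injective)
  · rw [Subgroup.card_map_of_injective e.symm.injective, card_nineSub]
  · rintro x ⟨u, hu, rfl⟩
    rw [← map_pow, nineSub_cube hu, map_one]

end

end Cfsg.Agent.Golay24.Suborbits
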