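import Cfsg.Agent.Lib.Golay.M24

/-! The elements of the stabiliser of a dodecad and three of its points (data from an offline
script). -/

set_option autoImplicit false

namespace Cfsg.Agent.Golay24.Suborbits

/-- Three fixed positions and two moving ones in the dodecad. -/
def ninePts : List ℕ := [0, 1, 2, 3, 4]

/-- All 72 elements. -/
def nineAll : List ℕ := [
  984818244535754528103549039458486304, 609744425604512129277147896769742880,
  719923664328491199848526586197411872, 891385682027558266148352467872712736,
  849887890532701421127722391426172960, 929000492124499343650182431580424224,
  890954976140709938678640932563453984, 858988336336270505570052787752405024,
  313063593285160742836699179059316768, 227578386318009578406903204956702752,
  609271311764373893382231684089481248, 425085878865583144827023905643726880,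
  227866200190482962309748417481934880, 796422664143520048046740322637776928,
  944293816565412651426207388111472672, 891440084380668137666183104591693856,
  486073779993727295785104656607348768, 313626468097149398198142802389895200,
  715461294005770680473893921775552544, 630264916018297267747726081680246816,
  233054687951835244750033064009402400, 944569772236290697579231267829188640,
  648154481660236051385864952584734752, 858502712789113075489201924125100064,
  425260589770023667920228681599158304, 437673696385666828435562741295908896,
  796025918939784314627536738561984544, 648441755269428208718993426702993440,
  970531819526550031117983620406741024, 899214583888558003150069357295700000,
  858934107515357207598970770041374752, 849862808090484735685470734032308256,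
  970254902120350598020240965873371168, 719748774308089385568610015441717280,
  424698032726113400716592269113985056, 809399594410595785774724965859756064,
  607974513007959930786473204517505056, 313451266620471430272303061907212320,
  232652365823391711183829569059784736, 487655643029606470073469406179395616,
  899189355044933402820830013086107680, 928952864966028496604741530750814240,
  928718206277989008510816407558424608, 609718671646466476278175549440296992,
  809127892823755776035426641505355808, 716016777081418520089506884598499360,
  796134455581813252778404696041064480, 304527279934878073638008567181674528,
  232783362388564428185213343297439776, 629863500390412654982178157189269536,
  849414919297944031155053626894092320, 898742143189044893377746329054414880,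
  808997782816701570676445371466909728, 487607080158395075740321133224921120,
  608460305594945736333983948957190176, 629994123837064240816195434993748000,
  227468939079694360949178429167896608, 303972014349329906305369256209090592,
  648045425277649902928402440926824480, 970499966350631336865513127433832480,
  608405391266436187982588441666881568, 304382488815307602047787978285647904,
  438084364835391119001047119775926304, 715872302521680643580706198532491296,
  486349973926430203268823274221996064, 719360590536681843314903822610073632,
  487373122709212905255923294881187872, 984769902586367543974814854303385632,
  438228640608320839931147656307705888, 486317894067777385906476470720956448,
  984534996141977609297800625156032544, 944538627742660781242037951888164896]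

/-- The nine elements of the regular normal subgroup. -/
def nineKer : List ℕ := [
  984818244535754528103549039458486304, 929000492124499343650182431580424224,
  487655643029606470073469406179395616, 928952864966028496604741530750814240,
  928718206277989008510816407558424608, 487607080158395075740321133224921120,
  487373122709212905255923294881187872, 984769902586367543974814854303385632,
  984534996141977609297800625156032544]

/-- The quaternion elements: powers of `a`, then `x` times them. -/
def nineQuat : List ℕ := [
  984818244535754528103549039458486304, 609744425604512129277147896769742880,
  944293816565412651426207388111472672, 891385682027558266148352467872712736,
  648154481660236051385864952584734752, 719748774308089385568610015441717280,
  809399594410595785774724965859756064, 438228640608320839931147656307705888]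

end Cfsg.Agent.Golay24.Suborbits
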