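import Mathlib.Data.ZMod.Basic
import Mathlib.Algebra.Field.ZMod
import Mathlib.Algebra.Module.ZMod
import Mathlib.LinearAlgebra.Matrix.GeneralLinearGroup.Card
import Mathlib.GroupTheory.QuotientGroup.Basic

/-!
A self-centralising normal plane over the field of three elements.
-/

set_option autoImplicit false

namespace Cfsg.Agent.Golay24.Suborbits

noncomputable section

theorem quotient_GL23 {G : Type*} [Group G] [Finite G] (hG : Nat.card G = 432)
    (ψ : Multiplicative (Fin 2 → ZMod 3) →* G) (hψ : Function.Injective ψ)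
    (hnorm : ψ.range.Normal) (hcent : ∀ g : G, (∀ v, g * ψ v = ψ v * g) → g ∈ ψ.range) :
    ∃ (N : Subgroup G) (_ : N.Normal), Nat.card N = 9 ∧
      Nonempty (G ⧸ N ≃* GL (Fin 2) (ZMod 3)) := by
  have : Fact (Nat.Prime 3) := ⟨Nat.prime_three⟩
  have h9 : Nat.card ψ.range = 9 := by
    rw [← Nat.card_congr (MonoidHom.ofInjective hψ).toEquiv,
      Nat.card_congr (Multiplicative.toAdd : Multiplicative (Fin 2 → ZMod 3) ≃ _), Nat.card_fun,
      Nat.card_zmod, Nat.card_eq_fintype_card, Fintype.card_fin]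
    norm_num
  have hex : ∀ (g : G) (v : Fin 2 → ZMod 3), ∃ w : Fin 2 → ZMod 3,
      ψ (Multiplicative.ofAdd w) = g * ψ (Multiplicative.ofAdd v) * g⁻¹ := fun g v => by
    obtain ⟨w, hw⟩ := hnorm.conj_mem _ ⟨_, rfl⟩ g
    exact ⟨Multiplicative.toAdd w, by simpa using hw⟩
  choose f hf using hex
  have inj : ∀ {a b : Fin 2 → ZMod 3},
      ψ (Multiplicative.ofAdd a) = ψ (Multiplicative.ofAdd b) → a = b :=
    fun h => Multiplicative.ofAdd.injective (hψ h)
  let F : G → Module.End (ZMod 3) (Fin 2 → ZMod 3) := fun g =>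
    AddMonoidHom.toZModLinearMap 3
      (AddMonoidHom.mk' (f g) fun a b => inj (by
        rw [ofAdd_add, map_mul, hf g a, hf g b, hf, ofAdd_add, map_mul]
        group))
  let Φ : G →* Module.End (ZMod 3) (Fin 2 → ZMod 3) :=
    { toFun := F
      map_one' := LinearMap.ext fun v => inj (by
        show ψ (Multiplicative.ofAdd (f 1 v)) = ψ (Multiplicative.ofAdd v)
        rw [hf, one_mul, inv_one, mul_one])
      map_mul' := fun a b => LinearMap.ext fun v => inj (by
        show ψ (Multiplicative.ofAdd (f (a * b) v)) = ψ (Multiplicative.ofAdd (f a (f b v)))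
        rw [hf, hf, hf]
        group) }
  let φ : G →* GL (Fin 2) (ZMod 3) :=
    Matrix.GeneralLinearGroup.toLin.symm.toMonoidHom.comp Φ.toHomUnits
  have hker : φ.ker = ψ.range := by
    ext g
    rw [MonoidHom.mem_ker, MonoidHom.comp_apply, MulEquiv.coe_toMonoidHom,
      MulEquiv.map_eq_one_iff, Units.ext_iff, MonoidHom.coe_toHomUnits, Units.val_one]
    constructor
    · intro h
      refine hcent g fun v => ?_
      have hv : f g (Multiplicative.toAdd v) = Multiplicative.toAdd v := LinearMap.congr_fun h _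
      have e := hf g (Multiplicative.toAdd v)
      rw [hv, ofAdd_toAdd] at e
      conv_rhs => rw [e]
      group
    · rintro ⟨u, rfl⟩
      refine LinearMap.ext fun v => inj ?_
      show ψ (Multiplicative.ofAdd (f (ψ u) v)) = ψ (Multiplicative.ofAdd v)
      rw [hf, ← map_mul, mul_comm, map_mul, mul_inv_cancel_right]
  have hGL : Nat.card (GL (Fin 2) (ZMod 3)) = 48 := by
    refine (Matrix.card_GL_field (𝔽 := ZMod 3) 2).trans ?_
    rw [Fin.prod_univ_two, ZMod.card]
    norm_num
  have hr : φ.range = ⊤ := by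
    refine Subgroup.eq_top_of_card_eq _ ?_
    have h := φ.ker.index_mul_card
    rw [Subgroup.index_ker, hker, h9, hG] at h
    omega
  refine ⟨ψ.range, hnorm, h9, ?_⟩
  exact ⟨(QuotientGroup.quotientMulEquivOfEq hker.symm).trans
    (QuotientGroup.quotientKerEquivOfSurjective φ (MonoidHom.range_eq_top.1 hr))⟩

end

end Cfsg.Agent.Golay24.Suborbits
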