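import Cfsg.Agent.S1556
import Cfsg.Agent.Lib.Golay.OctadStab
import Cfsg.Agent.Lib.Golay.SixSets

/-!
Pairs of octads: normal forms and joint stabilisers.
-/

set_option autoImplicit false

namespace Cfsg.Agent.Golay24.Suborbits

noncomputable section

open Cfsg MulAction
open scoped Pointwise

attribute [local irreducible] weightList codeList combTo

theorem std_octad : setOf m24Octad ∈ octads := setOf_mem_octads (by decide +kernel)

/-- A pair of octads is the image of any standard pair meeting in as many points. -/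
theorem exists_pair_map {o o' : Finset GolayPt} (ho : o ∈ octads) (ho' : o' ∈ octads) {e : ℕ}
    (he : isOct e = true) (h : (o ∩ o').card = pop24 (Nat.land m24Octad e)) :
    ∃ τ ∈ M24, τ • setOf m24Octad = o ∧ τ • setOf e = o' := by
  obtain ⟨σ, hσ, hσe⟩ := exists_octad_map std_octad ho
  subst hσe
  obtain ⟨g, hg, hg1, hg2⟩ := Cfsg.Agent.S1556.result (setOf m24Octad) (setOf e) (σ⁻¹ • o') std_octad
    (setOf_mem_octads he) (smul_mem_octads (M24.inv_mem hσ) ho') (by
      rw [← setOf_land, card_setOf, ← card_smul_inter σ, smul_inv_smul, h]; rfl)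
  exact ⟨σ * g, M24.mul_mem hσ hg, by rw [mul_smul, hg1], by rw [mul_smul, hg2, smul_inv_smul]⟩

theorem count_meet {o : Finset GolayPt} (ho : o ∈ octads) (k : ℕ) :
    {x | x ∈ octads ∧ (o ∩ x).card = k}.ncard = (cutList (weightList 8) ([m24Octad].zip [k])).length := by
  obtain ⟨σ, hσ⟩ := carries_octad ho
  rw [ncard_of_pullback (σ := σ) (cutList (weightList 8) ([m24Octad].zip [k]))
    (cutList_nodup (weightList_nodup 8) _) (cutList_lt (fun _ => weightList_lt) _) fun x => by
      rw [mem_cutList_carries (ks := [k]) hσ (by rfl), inv_smul_mem_octads_iff hσ.1]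
      simp]

theorem count_meet_std : (cutList (weightList 8) ([m24Octad].zip [0])).length = 30 ∧
    (cutList (weightList 8) ([m24Octad].zip [4])).length = 280 ∧
    (cutList (weightList 8) ([m24Octad].zip [2])).length = 448 := by decide +kernel

theorem card_joint {o o' : Finset GolayPt} (ho : o ∈ octads) (ho' : o' ∈ octads) {k n m : ℕ}
    (hk : (o ∩ o').card = k) (hn : (cutList (weightList 8) ([m24Octad].zip [k])).length = n)
    (hnm : n * m = 322560) (hn0 : n ≠ 0) :
    Nat.card ↥(stabilizer M24 o ⊓ stabilizer M24 o') = m := by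
  have horb : orbit ↥(stabilizer M24 o) o' = {x | x ∈ octads ∧ (o ∩ x).card = k} := by
    ext x
    constructor
    · rintro ⟨g, rfl⟩
      have hgo : ((g : M24) : Equiv.Perm GolayPt) • o = o := g.2
      refine ⟨smul_mem_octads (g : M24).2 ho', ?_⟩
      show (o ∩ ((g : M24) : Equiv.Perm GolayPt) • o').card = k
      nth_rewrite 1 [← hgo]
      rw [card_smul_inter, hk]
    · rintro ⟨hx, hxk⟩
      obtain ⟨g, hg, hg1, hg2⟩ := Cfsg.Agent.S1556.result o o' x ho ho' hx (hk.trans hxk.symm)
      exact ⟨⟨⟨g, hg⟩, hg1⟩, hg2⟩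
  have hstab : Nat.card ↥(stabilizer M24 o) = 322560 := by
    rw [← card_octStab ho]
    exact Nat.card_congr
      { toFun := fun g => ⟨g.1.1, g.1.2, g.2⟩
        invFun := fun g => ⟨⟨g.1, g.2.1⟩, g.2.2⟩
        left_inv := fun _ => rfl
        right_inv := fun _ => rfl }
  have h := (stabilizer ↥(stabilizer M24 o) o').index_mul_card
  rw [index_stabilizer, horb, count_meet ho, hn, hstab, ← hnm] at h
  rw [← Nat.eq_of_mul_eq_mul_left (Nat.pos_of_ne_zero hn0) h]
  exact (Nat.card_congr
    { toFun := fun g => ⟨g.1.1, g.1.2, g.2⟩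
      invFun := fun g => ⟨⟨g.1, g.2.1⟩, g.2.2⟩
      left_inv := fun _ => rfl
      right_inv := fun _ => rfl }).symm

theorem octad_joint_orders {o o' : Finset GolayPt} (ho : o ∈ octads) (ho' : o' ∈ octads) :
    ((o ∩ o').card = 0 → Nat.card ↥(stabilizer M24 o ⊓ stabilizer M24 o') = 10752) ∧
    ((o ∩ o').card = 4 → Nat.card ↥(stabilizer M24 o ⊓ stabilizer M24 o') = 1152) ∧
    ((o ∩ o').card = 2 → Nat.card ↥(stabilizer M24 o ⊓ stabilizer M24 o') = 720) :=
  ⟨fun h => card_joint ho ho' h count_meet_std.1 (by norm_num) (by norm_num),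
    fun h => card_joint ho ho' h count_meet_std.2.1 (by norm_num) (by norm_num),
    fun h => card_joint ho ho' h count_meet_std.2.2 (by norm_num) (by norm_num)⟩

/-- An octad meeting the standard one in its two points outside six chosen positions. -/
def twoMeet : ℕ := 252432

theorem twoMeet_facts : (isOct twoMeet && (pop24 (Nat.land m24Octad twoMeet) == 2) &&
    sixIn.all (fun i => Nat.testBit m24Octad i && !Nat.testBit twoMeet i) &&
    fiveFix.all (fun g => !(sixIn.all (fun i => app g i == i) && (img g twoMeet == twoMeet) &&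
      (img g m24Octad == m24Octad)) || isIdP g)) = true := by decide +kernel

/-- Fixing an octad's six points outside a second octad meeting it twice, and both octads,
forces the identity. -/
theorem eq_one_of_two_meet {o o' : Finset GolayPt} (ho : o ∈ octads) (ho' : o' ∈ octads)
    (h2 : (o ∩ o').card = 2) {g : Equiv.Perm GolayPt} (hg : g ∈ M24) (hgo : g • o = o)
    (hgo' : g • o' = o') (hfix : ∀ x ∈ o \ o', g x = x) : g = 1 := by
  have hf := twoMeet_facts
  simp only [Bool.and_eq_true, beq_iff_eq, List.all_eq_true] at hf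
  obtain ⟨⟨⟨hi, hc⟩, hsix⟩, hall⟩ := hf
  obtain ⟨τ, hτ, rfl, rfl⟩ := exists_pair_map ho ho' hi (h2.trans hc.symm)
  set u := τ⁻¹ * g * τ with hu
  have huM : u ∈ M24 := M24.mul_mem (M24.mul_mem (M24.inv_mem hτ) hg) hτ
  have hu1 : u • setOf m24Octad = setOf m24Octad := by
    rw [hu, mul_smul, mul_smul, hgo, inv_smul_smul]
  have hu2 : u • setOf twoMeet = setOf twoMeet := by
    rw [hu, mul_smul, mul_smul, hgo', inv_smul_smul]
  have hlt : ∀ i ∈ sixIn, i < 24 := by decide
  have hufix : ∀ i ∈ sixIn, u (ptOf i) = ptOf i := by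
    intro i hi'
    obtain ⟨hb1, hb2⟩ := hsix i hi'
    have hm : τ (ptOf i) ∈ τ • setOf m24Octad \ τ • setOf twoMeet := by
      rw [← Equiv.Perm.smul_def, ← Finset.smul_finset_sdiff, Finset.smul_mem_smul_finset_iff,
        Finset.mem_sdiff, mem_setOf, mem_setOf, idx_ptOf (hlt i hi')]
      exact ⟨hb1, by simpa using hb2⟩
    simp only [hu, Equiv.Perm.mul_apply, hfix _ hm]
    exact Equiv.symm_apply_apply τ _
  obtain ⟨p, hp, hv, hpu⟩ := mem_fiveFix huM fun i hi' => hufix i (List.mem_of_mem_take hi')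
  have hid : isIdP p = true := by
    have h := hall p hp
    rw [Bool.or_eq_true] at h
    refine h.resolve_left ?_
    have a : sixIn.all (fun i => app p i == i) = true := List.all_eq_true.2 fun i hi' => by
      have h' := congrArg (fun z => (idx z : ℕ)) (hufix i hi')
      rw [← hpu] at h'
      simpa [idx_toPerm hv, idx_ptOf (hlt i hi')] using h'
    have b : img p twoMeet = twoMeet := by
      have := congrArg maskOf hu2
      rwa [← hpu, maskOf_smul hv, maskOf_setOf (by decide +kernel)] at this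
    have c : img p m24Octad = m24Octad := by
      have := congrArg maskOf hu1
      rwa [← hpu, maskOf_smul hv, maskOf_setOf (by decide +kernel)] at this
    simp [a, b, c]
  have hu1' : u = 1 := by rw [← hpu, toPerm_eq_one_of_isIdP hv hid]
  calc g = τ * u * τ⁻¹ := by rw [hu]; group
    _ = 1 := by rw [hu1']; group

theorem two_meet_iso {o o' : Finset GolayPt} (ho : o ∈ octads) (ho' : o' ∈ octads)
    (h2 : (o ∩ o').card = 2) :
    Nonempty (↥(stabilizer M24 o ⊓ stabilizer M24 o') ≃* Equiv.Perm (Fin 6)) := by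
  set J := stabilizer M24 o ⊓ stabilizer M24 o'
  have hmem : ∀ g : J, ∀ x, ((g : M24) : Equiv.Perm GolayPt) x ∈ o \ o' ↔ x ∈ o \ o' := by
    intro g x
    have h1 : ((g : M24) : Equiv.Perm GolayPt) • o = o := g.2.1
    have h2 : ((g : M24) : Equiv.Perm GolayPt) • o' = o' := g.2.2
    conv_lhs => rw [← h1, ← h2, ← Finset.smul_finset_sdiff, ← Equiv.Perm.smul_def,
      Finset.smul_mem_smul_finset_iff]
  let f : J →* Equiv.Perm ↥(o \ o') :=
    { toFun := fun g => ((g : M24) : Equiv.Perm GolayPt).subtypePerm (hmem g)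
      map_one' := by ext; rfl
      map_mul' := fun a b => by ext; rfl }
  have hinj : Function.Injective f := by
    refine (injective_iff_map_eq_one f).2 fun g hg => Subtype.ext (Subtype.ext ?_)
    exact eq_one_of_two_meet ho ho' h2 (g : M24).2 g.2.1 g.2.2 fun x hx =>
      congrArg Subtype.val (Equiv.ext_iff.1 hg ⟨x, hx⟩)
  have hc6 : (o \ o').card = 6 := by
    have := Finset.card_inter_add_card_sdiff o o'
    have := ho.2
    omega
  have hcard : Nat.card J = Nat.card (Equiv.Perm ↥(o \ o')) := by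
    rw [(octad_joint_orders ho ho').2.2 h2, Nat.card_perm, Nat.card_eq_fintype_card, Fintype.card_coe,
      hc6]
    rfl
  have hb : Function.Bijective f := (Nat.bijective_iff_injective_and_card f).2 ⟨hinj, hcard⟩
  exact ⟨(MulEquiv.ofBijective f hb).trans
    (Equiv.permCongrHom (Finset.equivFinOfCardEq hc6))⟩

/-- Paths in the disjointness graph. -/
theorem graph_examples : (isOct 337856 && isOct 5279 && isOct 4038912 && isOct 832080 && isOct 13631886 &&
    (pop24 (Nat.land m24Octad 5279) == 4) && (Nat.land m24Octad 4038912 == 0) &&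
    (Nat.land 4038912 5279 == 0) && (Nat.land m24Octad 832080 == 0) && (Nat.land 832080 13631886 == 0) &&
    (Nat.land 13631886 twoMeet == 0) &&
    ((weightList 8).all fun z => !((Nat.land m24Octad z == 0) && (Nat.land z twoMeet == 0)))) = true := by
  decide +kernel

theorem disjoint_smul_of_land {τ : Equiv.Perm GolayPt} {a b : ℕ} (h : Nat.land a b = 0) :
    Disjoint (τ • setOf a) (τ • setOf b) := by
  rw [Finset.disjoint_iff_inter_eq_empty, ← Finset.smul_finset_inter, ← setOf_land,
    show a &&& b = 0 from h, setOf_zero, Finset.smul_finset_empty]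

theorem common_four {o o' : Finset GolayPt} (ho : o ∈ octads) (ho' : o' ∈ octads)
    (h : (o ∩ o').card = 4) : ∃ z ∈ octads, Disjoint o z ∧ Disjoint z o' := by
  have hf := graph_examples
  simp only [Bool.and_eq_true, beq_iff_eq] at hf
  obtain ⟨⟨⟨⟨⟨⟨⟨⟨⟨⟨⟨-, h4⟩, hz⟩, -⟩, -⟩, hc⟩, hd1⟩, hd2⟩, -⟩, -⟩, -⟩, -⟩ := hf
  obtain ⟨τ, hτ, rfl, rfl⟩ := exists_pair_map ho ho' h4 (h.trans hc.symm)
  exact ⟨τ • setOf 4038912, smul_mem_octads hτ (setOf_mem_octads hz), disjoint_smul_of_land hd1,
    disjoint_smul_of_land hd2⟩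

theorem path_two {o o' : Finset GolayPt} (ho : o ∈ octads) (ho' : o' ∈ octads)
    (h : (o ∩ o').card = 2) : (∃ z ∈ octads, ∃ w ∈ octads, Disjoint o z ∧ Disjoint z w ∧ Disjoint w o') ∧
      ∀ z ∈ octads, Disjoint o z → Disjoint z o' → False := by
  have hf := graph_examples
  have ht := twoMeet_facts
  simp only [Bool.and_eq_true, beq_iff_eq] at hf ht
  obtain ⟨⟨⟨⟨⟨⟨⟨⟨⟨⟨⟨-, -⟩, -⟩, hz⟩, hw⟩, -⟩, -⟩, -⟩, hd1⟩, hd2⟩, hd3⟩, hno⟩ := hf
  obtain ⟨τ, hτ, rfl, rfl⟩ := exists_pair_map ho ho' ht.1.1.1 (h.trans ht.1.1.2.symm)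
  refine ⟨⟨_, smul_mem_octads hτ (setOf_mem_octads hz), _, smul_mem_octads hτ (setOf_mem_octads hw),
    disjoint_smul_of_land hd1, disjoint_smul_of_land hd2, disjoint_smul_of_land hd3⟩, ?_⟩
  intro x hx hxo hxo'
  have hx' := mem_octads_iff.1 (smul_mem_octads (M24.inv_mem hτ) hx)
  have h' := List.all_eq_true.1 hno _ hx'
  have key : ∀ a b : Finset GolayPt, Disjoint (τ • a) (τ • b) → Disjoint a b := fun a b hd => by
    rwa [Finset.disjoint_iff_inter_eq_empty, ← Finset.smul_finset_inter, Finset.smul_finset_eq_empty,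
      ← Finset.disjoint_iff_inter_eq_empty] at hd
  have d1 : Nat.land m24Octad (maskOf (τ⁻¹ • x)) = 0 := by
    have := Finset.disjoint_iff_inter_eq_empty.1 (key (setOf m24Octad) (τ⁻¹ • x) (by rwa [smul_inv_smul]))
    have e := congrArg maskOf this
    rw [maskOf_inter, maskOf_setOf (by decide +kernel), ← setOf_zero, maskOf_setOf (by norm_num)] at e
    exact e
  have d2 : Nat.land (maskOf (τ⁻¹ • x)) twoMeet = 0 := by
    have := Finset.disjoint_iff_inter_eq_empty.1 (key (τ⁻¹ • x) (setOf twoMeet) (by rwa [smul_inv_smul]))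
    have e := congrArg maskOf this
    rw [maskOf_inter, maskOf_setOf (by decide +kernel), ← setOf_zero, maskOf_setOf (by norm_num)] at e
    exact e
  rw [d1, d2] at h'
  simp at h'

theorem graph_adj {o o' : Finset GolayPt} (ho : o ∈ octads) (ho' : o' ∈ octads) :
    (blockGraph octads).Adj ⟨o, ho⟩ ⟨o', ho'⟩ ↔ Disjoint o o' := by
  rw [blockGraph, SimpleGraph.fromRel_adj]
  constructor
  · rintro ⟨-, h | h⟩
    exacts [h, h.symm]
  · intro h
    refine ⟨fun e => ?_, Or.inl h⟩
    have e' : o = o' := congrArg Subtype.val e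
    subst e'
    have := ho.2
    rw [disjoint_self.1 h] at this
    simp at this

theorem exists_middle {V : Type*} {Γ : SimpleGraph V} {x y : V} (hc : Γ.Connected)
    (hd : Γ.dist x y = 2) : ∃ v, Γ.Adj x v ∧ Γ.Adj v y := by
  obtain ⟨p, hp⟩ := hc.exists_walk_length_eq_dist x y
  rw [hd] at hp
  match p, hp with
  | .cons (v := v) a (.cons b .nil), _ => exact ⟨v, a, b⟩

theorem octad_graph {o o' : Finset GolayPt} (ho : o ∈ octads) (ho' : o' ∈ octads) (hne : o ≠ o') :
    (blockGraph octads).Connected ∧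
    ((blockGraph octads).dist ⟨o, ho⟩ ⟨o', ho'⟩ = 1 ↔ (o ∩ o').card = 0) ∧
    ((blockGraph octads).dist ⟨o, ho⟩ ⟨o', ho'⟩ = 2 ↔ (o ∩ o').card = 4) ∧
    ((blockGraph octads).dist ⟨o, ho⟩ ⟨o', ho'⟩ = 3 ↔ (o ∩ o').card = 2) := by
  set Γ := blockGraph octads with hΓ
  have hconn : Γ.Connected := by
    refine (SimpleGraph.connected_iff _).2 ⟨?_, ⟨⟨o, ho⟩⟩⟩
    rintro ⟨a, ha⟩ ⟨b, hb⟩
    rcases card_octad_inter_cases ha hb with h | h | h | h
    · exact ((graph_adj ha hb).2 (Finset.disjoint_iff_inter_eq_empty.2 (Finset.card_eq_zero.1 h))).reachable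
    · obtain ⟨⟨z, hz, w, hw, d1, d2, d3⟩, -⟩ := path_two ha hb h
      exact ((graph_adj ha hz).2 d1).reachable.trans
        (((graph_adj hz hw).2 d2).reachable.trans ((graph_adj hw hb).2 d3).reachable)
    · obtain ⟨z, hz, d1, d2⟩ := common_four ha hb h
      exact ((graph_adj ha hz).2 d1).reachable.trans ((graph_adj hz hb).2 d2).reachable
    · subst h; exact SimpleGraph.Reachable.refl _
  refine ⟨hconn, ?_⟩
  set x : octads := ⟨o, ho⟩
  set y : octads := ⟨o', ho'⟩
  have hxy : x ≠ y := fun e => hne (congrArg Subtype.val e)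
  have h0 : Γ.dist x y ≠ 0 := fun e => hxy (hconn.dist_eq_zero_iff.1 e)
  have h1 : Γ.dist x y = 1 ↔ (o ∩ o').card = 0 := by
    rw [SimpleGraph.dist_eq_one_iff_adj, Finset.card_eq_zero, ← Finset.disjoint_iff_inter_eq_empty]
    exact graph_adj ho ho'
  have htwo : Γ.dist x y = 2 → ∃ z ∈ octads, Disjoint o z ∧ Disjoint z o' := by
    intro hd
    obtain ⟨v, a, b⟩ := exists_middle hconn hd
    exact ⟨v.1, v.2, (graph_adj ho v.2).1 a, (graph_adj v.2 ho').1 b⟩
  have h4 : (o ∩ o').card = 4 → Γ.dist x y = 2 := by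
    intro h
    obtain ⟨z, hz, d1, d2⟩ := common_four ho ho' h
    have hle : Γ.dist x y ≤ 2 := SimpleGraph.dist_le
      (SimpleGraph.Walk.cons ((graph_adj ho hz).2 d1) (SimpleGraph.Walk.cons ((graph_adj hz ho').2 d2) .nil))
    have hne1 : Γ.dist x y ≠ 1 := fun e => by
      have := h1.1 e
      omega
    omega
  have h2 : (o ∩ o').card = 2 → Γ.dist x y = 3 := by
    intro h
    obtain ⟨⟨z, hz, w, hw, d1, d2, d3⟩, hno⟩ := path_two ho ho' h
    have hle : Γ.dist x y ≤ 3 := SimpleGraph.dist_le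
      (SimpleGraph.Walk.cons ((graph_adj ho hz).2 d1) (SimpleGraph.Walk.cons ((graph_adj hz hw).2 d2)
        (SimpleGraph.Walk.cons ((graph_adj hw ho').2 d3) .nil)))
    have hne1 : Γ.dist x y ≠ 1 := fun e => by
      have := h1.1 e
      omega
    have hne2 : Γ.dist x y ≠ 2 := fun e => by
      obtain ⟨u, hu, e1, e2⟩ := htwo e
      exact hno u hu e1 e2
    omega
  refine ⟨h1, ⟨fun e => ?_, h4⟩, ⟨fun e => ?_, h2⟩⟩
  · rcases card_octad_inter_cases ho ho' with h | h | h | h
    · have := h1.2 h; omega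
    · have := h2 h; omega
    · exact h
    · exact absurd h hne
  · rcases card_octad_inter_cases ho ho' with h | h | h | h
    · have := h1.2 h; omega
    · exact h
    · have := h4 h; omega
    · exact absurd h hne

end

end Cfsg.Agent.Golay24.Suborbits
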