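import Cfsg.Agent.Lib.Golay.Suborbits.PairData
import Cfsg.Agent.Lib.Golay.OctadStab
import Cfsg.Agent.Lib.Golay.SixSets
import Cfsg.Agent.Lib.Golay.TrioStab
import Cfsg.Agent.Lib.Golay.FixedObjects
import Mathlib.GroupTheory.SpecificGroups.Alternating.Simple

/-!
The fifteen trios through an octad.
-/

set_option autoImplicit false

namespace Cfsg.Agent.Golay24.Suborbits

noncomputable section

open Cfsg
open scoped Pointwise

attribute [local irreducible] weightList codeList combTo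

theorem triosThrough_std :
    (trioAll.orb.filter fun x => (trioMembers x).contains m24Octad).length = 15 := by decide +kernel

theorem ncard_trios_through {o : Finset GolayPt} (ho : o ∈ octads) :
    {T : Finset (Finset GolayPt) | T ∈ trios ∧ o ∈ T}.ncard = 15 := by
  obtain ⟨σ, hσ, hσe⟩ := carries_octad ho
  simp only [List.map_cons, List.map_nil, List.cons.injEq, and_true] at hσe
  have h := trioAll_ok
  simp only [Bool.and_eq_true, List.all_eq_true] at h
  have hok : ∀ x ∈ trioAll.orb, trioNameOk x = true := h.1.1.2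
  have hnd : trioAll.orb.Nodup := trioAll.nodup h.1.1.1
  have hm : m24Octad < 2 ^ 24 := by decide +kernel
  have key : ∀ x ∈ trioAll.orb,
      ((trioMembers x).contains m24Octad = true ↔ o ∈ σ • semTrio x) := by
    intro x hx
    rw [← hσe, Finset.smul_mem_smul_finset_iff, List.contains_iff_mem, semTrio, List.mem_toFinset,
      List.mem_map]
    exact ⟨fun h => ⟨_, h, rfl⟩, fun ⟨u, hu, e⟩ =>
      setOf_inj (trioMembers_lt (hok x hx) u hu) hm e ▸ hu⟩
  rw [← triosThrough_std, ← List.toFinset_card_of_nodup (hnd.filter _), ← Set.ncard_coe_finset,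
    ← Set.InjOn.ncard_image (f := fun x => σ • semTrio x) (fun a ha b hb e => semTrio_injOn
      (List.mem_filter.1 (List.mem_toFinset.1 ha)).1 (List.mem_filter.1 (List.mem_toFinset.1 hb)).1
      (MulAction.injective σ e))]
  congr 1
  ext T
  simp only [Set.mem_image, Set.mem_ofPred_eq, List.coe_toFinset, List.mem_filter]
  constructor
  · rintro ⟨hT, hmem⟩
    have hT' := smul_mem_trios (M24.inv_mem hσ) hT
    rw [trios_eq] at hT'
    obtain ⟨x, hx, he⟩ := hT'
    have he' : σ • semTrio x = T := by rw [he, smul_inv_smul]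
    exact ⟨x, ⟨hx, (key x hx).2 (by rw [he']; exact hmem)⟩, he'⟩
  · rintro ⟨x, ⟨hx, hc⟩, rfl⟩
    exact ⟨smul_mem_trios hσ (by rw [trios_eq]; exact ⟨x, hx, rfl⟩), (key x hx).1 hc⟩

/-- A trio is determined by two of its octads. -/
theorem trio_eq_of_two {T T' : Finset (Finset GolayPt)} (hT : T ∈ trios) (hT' : T' ∈ trios)
    {a b : Finset GolayPt} (ha : a ∈ T) (hb : b ∈ T) (ha' : a ∈ T') (hb' : b ∈ T') (hab : a ≠ b) :
    T = T' := by
  refine Finset.eq_of_subset_of_card_le (fun x hx => ?_) (by rw [hT.1, hT'.1])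
  by_cases hxa : x = a
  · rwa [hxa]
  by_cases hxb : x = b
  · rwa [hxb]
  obtain ⟨y, hy, hyn⟩ : ∃ y ∈ T', y ∉ ({a, b} : Finset (Finset GolayPt)) :=
    Finset.exists_mem_notMem_of_card_lt_card (by rw [hT'.1, Finset.card_pair hab]; norm_num)
  simp only [Finset.mem_insert, Finset.mem_singleton, not_or] at hyn
  rwa [trio_third hT ha hb hx hab (Ne.symm hxa) (Ne.symm hxb),
    ← trio_third hT' ha' hb' hy hab (Ne.symm hyn.1) (Ne.symm hyn.2)]

theorem exists_other {T : Finset (Finset GolayPt)} (hT : T ∈ trios) (o : Finset GolayPt) :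
    ∃ z ∈ T, z ≠ o :=
  Finset.exists_mem_ne (by rw [hT.1]; norm_num) o

theorem octad_ne_of_disjoint {a b : Finset GolayPt} (ha : a ∈ octads) (h : Disjoint a b) : a ≠ b := by
  rintro rfl
  have := ha.2
  rw [disjoint_self.1 h] at this
  simp at this

/-- No octad avoids one of two disjoint octads and meets the other twice. -/
theorem noTwoMeet : cutList (weightList 8) ([m24Octad, octOct0.root].zip [0, 2]) = [] := by
  decide +kernel

theorem trioNext_ok :
    trioNext.ok [m24Octad, octOct0.root]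
      (cutList (weightList 8) ([m24Octad, octOct0.root].zip [0, 4])) = true := by decide +kernel

/-- Normal form of two trios through an octad. -/
theorem carries_two_trios {o : Finset GolayPt} (ho : o ∈ octads) {T₁ T₂ : Finset (Finset GolayPt)}
    (h₁ : T₁ ∈ trios) (h₂ : T₂ ∈ trios) (m₁ : o ∈ T₁) (m₂ : o ∈ T₂) (hne : T₁ ≠ T₂) :
    ∃ σ z₁ z₂, z₁ ∈ T₁ ∧ z₂ ∈ T₂ ∧ z₁ ≠ o ∧ z₂ ≠ o ∧
      Carries σ [m24Octad, octOct0.root, trioNext.root] [o, z₁, z₂] := by
  obtain ⟨z₁, hz₁, hn₁⟩ := exists_other h₁ o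
  obtain ⟨z₂, hz₂, hn₂⟩ := exists_other h₂ o
  have hd₁ := h₁.2.2 o m₁ z₁ hz₁ (Ne.symm hn₁)
  have hd₂ := h₂.2.2 o m₂ z₂ hz₂ (Ne.symm hn₂)
  have oz₁ := h₁.2.1 z₁ hz₁
  have oz₂ := h₂.2.1 z₂ hz₂
  obtain ⟨σ₀, hσ₀⟩ := carries_octad ho
  obtain ⟨σ₁, hσ₁⟩ := octOct0.extend (fam := cutList (weightList 8) ([m24Octad].zip [0]))
    (by decide +kernel) hσ₀ (s := z₁) ((mem_cutList_carries (ks := [0]) hσ₀ (by rfl)).2
      ⟨(inv_smul_mem_octads_iff hσ₀.1 _).2 oz₁, by
        simp [Finset.disjoint_iff_inter_eq_empty.1 hd₁]⟩)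
  simp only [List.cons_append, List.nil_append] at hσ₁
  have h4 : (z₁ ∩ z₂).card = 4 := by
    rcases card_octad_inter_cases oz₁ oz₂ with h | h | h | h
    · exfalso
      have hd : Disjoint z₁ z₂ := Finset.disjoint_iff_inter_eq_empty.2 (Finset.card_eq_zero.1 h)
      have hn : z₁ ≠ z₂ := octad_ne_of_disjoint oz₁ hd
      have hT : ({o, z₁, z₂} : Finset (Finset GolayPt)) ∈ trios := by
        refine ⟨Finset.card_eq_three.2 ⟨_, _, _, Ne.symm hn₁, Ne.symm hn₂, hn, rfl⟩, ?_, ?_⟩
        · intro w hw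
          simp only [Finset.mem_insert, Finset.mem_singleton] at hw
          rcases hw with rfl | rfl | rfl
          exacts [ho, oz₁, oz₂]
        · intro x hx y hy hxy
          simp only [Finset.mem_insert, Finset.mem_singleton] at hx hy
          rcases hx with rfl | rfl | rfl <;> rcases hy with rfl | rfl | rfl
          exacts [absurd rfl hxy, hd₁, hd₂, hd₁.symm, absurd rfl hxy, hd, hd₂.symm, hd.symm,
            absurd rfl hxy]
      have e₁ := trio_eq_of_two h₁ hT m₁ hz₁ (by simp) (by simp) (Ne.symm hn₁)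
      have e₂ := trio_eq_of_two h₂ hT m₂ hz₂ (by simp) (by simp) (Ne.symm hn₂)
      exact hne (e₁.trans e₂.symm)
    · exfalso
      have := (mem_cutList_carries (ks := [0, 2]) (x := z₂) (base := weightList 8) hσ₁ (by rfl)).2
        ⟨(inv_smul_mem_octads_iff hσ₁.1 _).2 oz₂, by
          simp [Finset.disjoint_iff_inter_eq_empty.1 hd₂, h]⟩
      rw [noTwoMeet] at this
      simp at this
    · exact h
    · exfalso
      subst h
      exact hne (trio_eq_of_two h₁ h₂ m₁ hz₁ m₂ hz₂ (Ne.symm hn₁))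
  obtain ⟨σ₂, hσ₂⟩ := trioNext.extend trioNext_ok hσ₁ (s := z₂)
    ((mem_cutList_carries (ks := [0, 4]) hσ₁ (by rfl)).2
      ⟨(inv_smul_mem_octads_iff hσ₁.1 _).2 oz₂, by
        simp [Finset.disjoint_iff_inter_eq_empty.1 hd₂, h4]⟩)
  simp only [List.cons_append, List.nil_append] at hσ₂
  exact ⟨σ₂, z₁, z₂, hz₁, hz₂, hn₁, hn₂, hσ₂⟩

theorem trios_two_transitive {o : Finset GolayPt} (ho : o ∈ octads)
    {T₁ T₂ T₁' T₂' : Finset (Finset GolayPt)} (h₁ : T₁ ∈ trios) (h₂ : T₂ ∈ trios)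
    (h₁' : T₁' ∈ trios) (h₂' : T₂' ∈ trios) (m₁ : o ∈ T₁) (m₂ : o ∈ T₂) (m₁' : o ∈ T₁')
    (m₂' : o ∈ T₂') (hne : T₁ ≠ T₂) (hne' : T₁' ≠ T₂') :
    ∃ g ∈ M24, g • o = o ∧ g • T₁ = T₁' ∧ g • T₂ = T₂' := by
  obtain ⟨σ, z₁, z₂, hz₁, hz₂, hn₁, hn₂, hσ⟩ := carries_two_trios ho h₁ h₂ m₁ m₂ hne
  obtain ⟨τ, w₁, w₂, hw₁, hw₂, hk₁, hk₂, hτ⟩ := carries_two_trios ho h₁' h₂' m₁' m₂' hne'
  obtain ⟨g, hg, he⟩ := exists_map_of_carries hσ hτ
  simp only [List.map_cons, List.map_nil, List.cons.injEq, and_true] at he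
  obtain ⟨e0, e1, e2⟩ := he
  refine ⟨g, hg, e0, ?_, ?_⟩
  · refine trio_eq_of_two (smul_mem_trios hg h₁) h₁' ?_ ?_ m₁' hw₁ (Ne.symm hk₁)
    · rw [← e0]; exact Finset.smul_mem_smul_finset m₁
    · rw [← e1]; exact Finset.smul_mem_smul_finset hz₁
  · refine trio_eq_of_two (smul_mem_trios hg h₂) h₂' ?_ ?_ m₂' hw₂ (Ne.symm hk₂)
    · rw [← e0]; exact Finset.smul_mem_smul_finset m₂
    · rw [← e2]; exact Finset.smul_mem_smul_finset hz₂

theorem octFix_blocks : fiveFix.all (fun p =>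
    !((List.range 24).all fun i => !Nat.testBit m24Octad i || app p i == i) ||
      (cutList (weightList 8) ([m24Octad].zip [0])).all fun z =>
        img p z == z || img p z == Nat.xor (Nat.xor m24Octad z) 16777215) = true := by decide +kernel

/-- Fixing an octad pointwise fixes every trio through it. -/
theorem octFix_fixes_trio {o : Finset GolayPt} (ho : o ∈ octads) {g : Equiv.Perm GolayPt}
    (hg : g ∈ M24) (hfix : ∀ x ∈ o, g x = x) {T : Finset (Finset GolayPt)} (hT : T ∈ trios)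
    (hm : o ∈ T) : g • T = T := by
  obtain ⟨σ, hσ⟩ := carries_octad ho
  obtain ⟨hσM, hσe⟩ := id hσ
  simp only [List.map_cons, List.map_nil, List.cons.injEq, and_true] at hσe
  obtain ⟨z, hz, hzn⟩ := exists_other hT o
  have hd := hT.2.2 o hm z hz (Ne.symm hzn)
  obtain ⟨c, hc, hcn⟩ : ∃ c ∈ T, c ∉ ({o, z} : Finset (Finset GolayPt)) :=
    Finset.exists_mem_notMem_of_card_lt_card (by rw [hT.1, Finset.card_pair (Ne.symm hzn)]; norm_num)
  simp only [Finset.mem_insert, Finset.mem_singleton, not_or] at hcn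
  have ec := trio_third hT hm hz hc (Ne.symm hzn) (Ne.symm hcn.1) (Ne.symm hcn.2)
  set u := σ⁻¹ * g * σ with hu
  have huM : u ∈ M24 := M24.mul_mem (M24.mul_mem (M24.inv_mem hσM) hg) hσM
  have hufix : ∀ y ∈ setOf m24Octad, u y = y := by
    intro y hy
    have : g (σ y) = σ y := hfix _ (by
      rw [← hσe, ← Equiv.Perm.smul_def, Finset.smul_mem_smul_finset_iff]; exact hy)
    simp [hu, this]
  have hsub : ∀ i ∈ sixIn.take 5, m24Octad.testBit i = true ∧ i < 24 := by decide +kernel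
  obtain ⟨p, hp, hv, hpu⟩ := mem_fiveFix huM fun i hi => hufix _ (mem_setOf.2 (by
    rw [idx_ptOf (hsub i hi).2]; exact (hsub i hi).1))
  have hall := List.all_eq_true.1 octFix_blocks p hp
  rw [Bool.or_eq_true] at hall
  have hcase : ((List.range 24).all fun i => !Nat.testBit m24Octad i || app p i == i) = true := by
    simp only [List.all_eq_true, List.mem_range, Bool.or_eq_true, Bool.not_eq_true', beq_iff_eq]
    intro i hi
    by_cases hb : m24Octad.testBit i = true
    · right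
      have h' := congrArg (fun z => (idx z : ℕ))
        (hufix (ptOf i) (mem_setOf.2 (by rw [idx_ptOf hi]; exact hb)))
      rw [← hpu] at h'
      simpa [idx_toPerm hv, idx_ptOf hi] using h'
    · left; simpa using hb
  have hall' := hall.resolve_left (by rw [hcase]; simp)
  have hzmem : maskOf (σ⁻¹ • z) ∈ cutList (weightList 8) ([m24Octad].zip [0]) :=
    (mem_cutList_carries (ks := [0]) hσ (by rfl)).2 ⟨(inv_smul_mem_octads_iff hσM _).2 (hT.2.1 z hz),
      by simp [Finset.disjoint_iff_inter_eq_empty.1 hd]⟩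
  have hz' := List.all_eq_true.1 hall' _ hzmem
  simp only [Bool.or_eq_true, beq_iff_eq] at hz'
  have hgz : g • z ∈ ({z, c} : Finset (Finset GolayPt)) := by
    have e : g • z = σ • setOf (img p (maskOf (σ⁻¹ • z))) := by
      rw [← smul_setOf hv, setOf_maskOf, hpu, hu]
      simp only [← mul_smul]
      group
    rw [Finset.mem_insert, Finset.mem_singleton]
    rcases hz' with h | h
    · left; rw [e, h, setOf_maskOf, smul_inv_smul]
    · right
      rw [e, h, setOf_xor', setOf_xor', Finset.smul_finset_symmDiff, Finset.smul_finset_symmDiff,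
        setOf_maskOf, smul_inv_smul, hσe, setOf_full, Finset.smul_finset_univ, ← ec]
  have hgo : g • o = o := Finset.eq_of_subset_of_card_le (fun y hy => by
    obtain ⟨x, hx, rfl⟩ := Finset.mem_smul_finset.1 hy
    rwa [Equiv.Perm.smul_def, hfix x hx]) (le_of_eq (Finset.card_smul_finset g o).symm)
  have hgT := smul_mem_trios hg hT
  refine trio_eq_of_two hgT hT (a := o) (b := g • z) ?_ (Finset.smul_mem_smul_finset hz) hm ?_ ?_
  · have h := Finset.smul_mem_smul_finset (a := g) hm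
    rwa [hgo] at h
  · rcases Finset.mem_insert.1 hgz with h | h
    · rw [h]; exact hz
    · rw [Finset.mem_singleton.1 h]; exact hc
  · intro e
    exact hzn (MulAction.injective g (e.symm.trans hgo.symm))

/-- The elements of an octad stabiliser fixing all trios through the octad. -/
def trioKer (o : Finset GolayPt) : Subgroup (octStab o) where
  carrier := {u | ∀ T ∈ trios, o ∈ T → (u : Equiv.Perm GolayPt) • T = T}
  one_mem' := fun T _ _ => one_smul _ T
  mul_mem' := fun {a b} ha hb T hT hm => by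
    rw [Subgroup.coe_mul, mul_smul, hb T hT hm, ha T hT hm]
  inv_mem' := fun {a} ha T hT hm => by
    conv_lhs => rw [← ha T hT hm, Subgroup.coe_inv, inv_smul_smul]

theorem trioKer_normal (o : Finset GolayPt) : (trioKer o).Normal := by
  refine ⟨fun n hn a T hT hm => ?_⟩
  have hao : (a : Equiv.Perm GolayPt)⁻¹ • o = o := inv_smul_eq_iff.2 (a.2.2 : _ = o).symm
  have hm' : o ∈ (a : Equiv.Perm GolayPt)⁻¹ • T := by
    have h := Finset.smul_mem_smul_finset (a := (a : Equiv.Perm GolayPt)⁻¹) hm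
    rwa [hao] at h
  rw [Subgroup.coe_mul, Subgroup.coe_mul, Subgroup.coe_inv, mul_smul, mul_smul,
    hn _ (smul_mem_trios (M24.inv_mem a.2.1) hT) hm', smul_inv_smul]

theorem fix_of_fixes_trios {o : Finset GolayPt} (ho : o ∈ octads) {g : Equiv.Perm GolayPt}
    (hg : g ∈ M24) (hgo : g • o = o) (h : ∀ T ∈ trios, o ∈ T → g • T = T) : ∀ p ∈ o, g p = p := by
  set R := (octRes o).rangeRestrict
  have := trioKer_normal o
  have hsimple : IsSimpleGroup ↥(octRes o).range := by
    rw [octRes_range ho]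
    exact alternatingGroup.isSimpleGroup (by rw [Nat.card_eq_fintype_card, Fintype.card_coe, ho.2]; norm_num)
  have hN : ((trioKer o).map R).Normal :=
    Subgroup.Normal.map (trioKer_normal o) R (MonoidHom.rangeRestrict_surjective _)
  rcases hN.eq_bot_or_eq_top with hb | ht
  · have hmem : R ⟨g, hg, hgo⟩ ∈ (trioKer o).map R := Subgroup.mem_map_of_mem _ h
    rw [hb, Subgroup.mem_bot] at hmem
    have hker : (⟨g, hg, hgo⟩ : octStab o) ∈ (octRes o).ker := congrArg Subtype.val hmem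
    exact (mem_octFix.1 ((octRes_ker_iff _).1 hker)).2
  · exfalso
    have hall : ∀ u : octStab o, u ∈ trioKer o := by
      intro u
      obtain ⟨n, hn, he⟩ : R u ∈ (trioKer o).map R := by rw [ht]; trivial
      have hk : n⁻¹ * u ∈ (octRes o).ker := by
        rw [MonoidHom.mem_ker, map_mul, map_inv, inv_mul_eq_one]
        exact congrArg Subtype.val he
      have hk' : n⁻¹ * u ∈ trioKer o := fun T hT hm =>
        octFix_fixes_trio ho (mem_octFix.1 ((octRes_ker_iff _).1 hk)).1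
          (mem_octFix.1 ((octRes_ker_iff _).1 hk)).2 hT hm
      simpa using (trioKer o).mul_mem hn hk'
    have h15 := ncard_trios_through ho
    obtain ⟨A, B, ⟨hA, mA⟩, ⟨hB, mB⟩, hAB⟩ :=
      (Set.one_lt_ncard_iff (Set.toFinite _)).1 (by rw [h15]; norm_num :
        1 < {T : Finset (Finset GolayPt) | T ∈ trios ∧ o ∈ T}.ncard)
    obtain ⟨k, hk, hko, hkA, -⟩ :=
      trios_two_transitive ho hA hB hB hA mA mB mB mA hAB hAB.symm
    have := hall ⟨k, hk, hko⟩ A hA mA
    exact hAB (this.symm.trans hkA)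

theorem octad_trios_action {o : Finset GolayPt} (ho : o ∈ octads) :
    {T : Finset (Finset GolayPt) | T ∈ trios ∧ o ∈ T}.ncard = 15 ∧
    (∀ T₁ T₂ T₁' T₂' : Finset (Finset GolayPt), T₁ ∈ trios → T₂ ∈ trios → T₁' ∈ trios →
      T₂' ∈ trios → o ∈ T₁ → o ∈ T₂ → o ∈ T₁' → o ∈ T₂' → T₁ ≠ T₂ → T₁' ≠ T₂' →
      ∃ g ∈ M24, g • o = o ∧ g • T₁ = T₁' ∧ g • T₂ = T₂') ∧
    ∀ g ∈ M24, g • o = o → ((∀ T ∈ trios, o ∈ T → g • T = T) ↔ ∀ p ∈ o, g p = p) :=
  ⟨ncard_trios_through ho,
    fun _ _ _ _ h₁ h₂ h₁' h₂' m₁ m₂ m₁' m₂' hne hne' =>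
      trios_two_transitive ho h₁ h₂ h₁' h₂' m₁ m₂ m₁' m₂' hne hne',
    fun _ hg hgo => ⟨fix_of_fixes_trios ho hg hgo, fun h _ hT hm => octFix_fixes_trio ho hg h hT hm⟩⟩

end

end Cfsg.Agent.Golay24.Suborbits
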