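import Cfsg.Agent.Lib.Golay.Config

/-! Certificate data for two disjoint octads (produced by an offline script). -/

set_option autoImplicit false

namespace Cfsg.Agent.Golay24.Suborbits

/-- Octads disjoint from the first octad and meeting the second in four points. -/
def trioNext : StepCert where
  root := 4038912
  gens := [961365507626256404119956257276790816, 112500358700713719669561795999727790,
    232533414172495394588365602702771651, 152659528479380560822831953029595682]
  orb := [4038912, 2460752, 3216208, 1903248, 5780352, 3704512, 5538256, 5024896, 2890176, 4202192,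
    6337856, 1584464, 1161408, 4536592, 2702848, 2141072, 7612992, 5350928, 3421328, 832080, 6656640,
    7079696, 6100032, 628112, 7409024, 7903248, 4819776, 337856]
  tree := [(0, 1), (0, 2), (0, 3), (1, 0), (1, 1), (1, 2), (2, 0), (2, 1), (2, 2), (3, 0), (3, 1),
    (3, 2), (4, 1), (4, 2), (5, 1), (6, 3), (7, 1), (8, 1), (8, 3), (10, 1), (10, 2), (13, 1), (14, 3),
    (16, 1), (16, 2), (17, 1), (23, 2)]
  pos := [0, 6, 19, 20, 2, 4, 22, 18, 10, 23, 17, 5, 21, 27, 25, 12, 13, 8, 16, 3, 26, 15, 1, 7, 11,
    24, 14, 9]

end Cfsg.Agent.Golay24.Suborbits
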