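import Cfsg.Agent.Lib.Golay.Suborbits.ElevenSub

/-!
The stabiliser of a dodecad, one of its points and a pair outside: the symmetric group of degree 5.
-/

set_option autoImplicit false

namespace Cfsg.Agent.Golay24.Suborbits

noncomputable section

open Cfsg MulAction ListGroup
open scoped Pointwise

attribute [local irreducible] weightList codeList combTo

/-- The standard pair outside the dodecad. -/
def stdPair : Finset GolayPt := {none, pt ⟨5, by norm_num⟩}

/-- Its stabiliser in the small Mathieu group. -/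
abbrev pairGrp : Subgroup (Equiv.Perm GolayPt) :=
  Spor.M11 ⊓ stabilizer (Equiv.Perm GolayPt) stdPair

theorem M11_pair_map {q q' : GolayPt} (hq : q ∈ setOf outMask) (hq' : q' ∈ setOf outMask)
    (hne : q ≠ q') :
    ∃ g ∈ Spor.M11, g (none : GolayPt) = q ∧ g (pt ⟨5, by norm_num⟩) = q' := by
  obtain ⟨a, ha, hae⟩ := M11_trans_out hq
  have h5 : pt ⟨5, by norm_num⟩ ∈ (setOf outMask).erase (none : GolayPt) := by decide +kernel
  have h7 : pt ⟨7, by norm_num⟩ ∈ (setOf outMask).erase (none : GolayPt) := by decide +kernel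
  have hout : a⁻¹ q' ∈ (setOf outMask).erase (none : GolayPt) := by
    refine Finset.mem_erase.2 ⟨fun e => hne ?_, M11_keeps_out (Spor.M11.inv_mem ha) hq'⟩
    rw [← hae, ← e]
    exact Equiv.apply_symm_apply a q'
  obtain ⟨c, hc, hne'⟩ : ∃ c ∈ (setOf outMask).erase (none : GolayPt), c ≠ a⁻¹ q' :=
    Finset.exists_mem_ne (Finset.one_lt_card.2 ⟨_, h5, _, h7, by decide +kernel⟩) _
  obtain ⟨g, hg5, -⟩ := elevenGrp_twoTrans.pairs _ h5 _ h7 _ hout _ hc (by decide +kernel) hne'.symm
  refine ⟨a * (g : Equiv.Perm GolayPt), Spor.M11.mul_mem ha g.2.1, ?_, ?_⟩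
  · rw [Equiv.Perm.mul_apply, show (g : Equiv.Perm GolayPt) none = none from g.2.2, hae]
  · rw [Equiv.Perm.mul_apply,
      show (g : Equiv.Perm GolayPt) (pt ⟨5, by norm_num⟩) = a⁻¹ q' from hg5]
    exact Equiv.apply_symm_apply a q'

theorem smul_stdPair (g : Equiv.Perm GolayPt) :
    g • stdPair = {g none, g (pt ⟨5, by norm_num⟩)} := by
  simp [stdPair, Finset.smul_finset_insert]

theorem stdPair_sub : stdPair ⊆ setOf outMask ∧ stdPair.card = 2 := by decide +kernel

theorem card_pairGrp : Nat.card pairGrp = 120 := by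
  classical
  refine card_inf_stabilizer (S := (↑((setOf outMask).powersetCard 2) : Set (Finset GolayPt)))
    Spor.M11 stdPair (n := 66) ?_ (fun g hg y hy => ?_) (fun y hy => ?_) ?_ card_M11 (by norm_num)
  · exact Finset.mem_coe.2 (Finset.mem_powersetCard.2 stdPair_sub)
  · rw [Finset.mem_coe, Finset.mem_powersetCard] at hy ⊢
    refine ⟨fun z hz => ?_, (Finset.card_smul_finset g y).trans hy.2⟩
    obtain ⟨w, hw, rfl⟩ := Finset.mem_smul_finset.1 hz
    exact M11_keeps_out hg (hy.1 hw)
  · rw [Finset.mem_coe, Finset.mem_powersetCard] at hy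
    obtain ⟨u, v, huv, rfl⟩ := Finset.card_eq_two.1 hy.2
    obtain ⟨g, hg, hu, hv⟩ := M11_pair_map (hy.1 (by simp)) (hy.1 (by simp)) huv
    exact ⟨g, hg, by rw [smul_stdPair, hu, hv]⟩
  · rw [Set.ncard_coe_finset, Finset.card_powersetCard, outCard]
    decide

/-- All elements of the pair stabiliser. -/
def prCert : ListCert := ⟨prGens, prElems, prTree⟩

/-- The image of a point under a digit code. -/
def five (c : ℕ) (x : Fin 5) : Fin 5 :=
  ⟨(c / 8 ^ x.val) % 8 % 5, Nat.mod_lt _ (by norm_num)⟩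

theorem prCert_ok : (prCert.ok && (prElems.length == 120) &&
    prGens.all (fun g => inM24 g && (img g sqDod == sqDod) && (app g 0 == 0) &&
      (img g (Nat.lor (Nat.shiftLeft 1 23) 32) == Nat.lor (Nat.shiftLeft 1 23) 32))) = true := by
  decide +kernel

theorem prImage_ok : (prImage.length = 120 ∧ prImageInv.length = 120 ∧
    (∀ i ∈ List.range 120, ∀ x : Fin 5, five (prImage.getD i 0) (five (prImageInv.getD i 0) x) = x ∧
      five (prImageInv.getD i 0) (five (prImage.getD i 0) x) = x) ∧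
    ((List.range 120).map fun i => (List.finRange 5).map fun x => (five (prImage.getD i 0) x).val).Nodup) ∧
    (∀ x : Fin 5, five (prImage.getD 0 0) x = x) ∧
    (∀ a ∈ [1, 2], ∀ i ∈ List.range 120, ∃ j ∈ List.range 120,
      compP (prElems.getD a 0) (prElems.getD i 0) = prElems.getD j 0 ∧
      ∀ x : Fin 5, five (prImage.getD a 0) (five (prImage.getD i 0) x) = five (prImage.getD j 0) x) ∧
    ∀ g ∈ prGens, ∃ a ∈ [1, 2], prElems.getD a 0 = g := by
  decide +kernel

/-- The table of images. -/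
def prPerm (i : Fin 120) : Equiv.Perm (Fin 5) where
  toFun := five (prImage.getD i 0)
  invFun := five (prImageInv.getD i 0)
  left_inv x := (prImage_ok.1.2.2.1 i (List.mem_range.2 i.isLt) x).2
  right_inv x := (prImage_ok.1.2.2.1 i (List.mem_range.2 i.isLt) x).1

theorem stdPair_mask : setOf (Nat.lor (Nat.shiftLeft 1 23) 32) = stdPair := by decide +kernel

theorem prCert_gens {g : ℕ} (hg : g ∈ prGens) : toPerm g ∈ pairGrp := by
  have h := prCert_ok
  simp only [Bool.and_eq_true, List.all_eq_true, beq_iff_eq] at h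
  obtain ⟨⟨⟨hM, hd⟩, h0⟩, hp⟩ := h.2 g hg
  refine ⟨m11_facts hM hd h0, ?_⟩
  show toPerm g • stdPair = stdPair
  rw [← stdPair_mask, smul_setOf (valid_of_inM24 hM), hp]

theorem pairGrp_eq : pairGrp = prCert.grp ∧ ∀ g ∈ pairGrp, ∃ x ∈ prElems, toPerm x = g := by
  have h := prCert_ok
  simp only [Bool.and_eq_true, beq_iff_eq] at h
  exact prCert.eq_of_card h.1.1 (fun g hg => prCert_gens hg) h.1.2 card_pairGrp

theorem prElems_getD_mem {i : ℕ} (hi : i < 120) : prElems.getD i 0 ∈ prElems := by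
  have h := prCert_ok
  simp only [Bool.and_eq_true, beq_iff_eq] at h
  rw [List.getD_eq_getElem _ _ (by omega)]
  exact List.getElem_mem _

theorem prCert_props {i : ℕ} (hi : i < 120) :
    validP (prElems.getD i 0) = true ∧ compP (prElems.getD i 0) idP = prElems.getD i 0 ∧
      toPerm (prElems.getD i 0) ∈ pairGrp := by
  have h := prCert_ok
  simp only [Bool.and_eq_true] at h
  obtain ⟨a, b, c⟩ := prCert.props h.1.1 (prElems_getD_mem hi)
  exact ⟨a, b, pairGrp_eq.1 ▸ c⟩

theorem pairGrp_iso : Nonempty (pairGrp ≃* Equiv.Perm (Fin 5)) := by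
  let f : Fin 120 → pairGrp := fun i => ⟨toPerm (prElems.getD i 0), (prCert_props i.isLt).2.2⟩
  have h := prCert_ok
  simp only [Bool.and_eq_true, beq_iff_eq, ListCert.ok, List.all_eq_true, decide_eq_true_eq] at h
  obtain ⟨⟨⟨⟨⟨⟨-, hnd⟩, h0⟩, -⟩, -⟩, hlen⟩, -⟩ := h
  have hlen' : prElems.length = 120 := hlen
  have hfinj : Function.Injective f := by
    intro i j e
    have he := toPerm_inj (prCert_props i.isLt).1 (prCert_props j.isLt).1 (prCert_props i.isLt).2.1
      (prCert_props j.isLt).2.1 (congrArg Subtype.val e)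
    rw [List.getD_eq_getElem _ _ (by omega), List.getD_eq_getElem _ _ (by omega)] at he
    exact Fin.ext ((List.Nodup.getElem_inj_iff hnd).1 he)
  have hf : Function.Bijective f := (Nat.bijective_iff_injective_and_card f).2
    ⟨hfinj, by rw [card_pairGrp, Nat.card_eq_fintype_card, Fintype.card_fin]⟩
  obtain ⟨⟨-, -, hinv, hndi⟩, hid, hstep, hgens⟩ := prImage_ok
  have hk : Function.Bijective prPerm := (Nat.bijective_iff_injective_and_card prPerm).2
    ⟨fun i j e => Fin.ext (List.inj_on_of_nodup_map hndi (List.mem_range.2 i.isLt)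
      (List.mem_range.2 j.isLt) (List.map_congr_left fun x _ =>
        congrArg Fin.val (Equiv.ext_iff.1 e x))), by
      rw [Nat.card_perm, Nat.card_eq_fintype_card, Nat.card_eq_fintype_card, Fintype.card_fin,
        Fintype.card_fin]
      rfl⟩
  refine equiv_of_table f prPerm hf hk ⟨0, by norm_num⟩ (Subtype.ext ?_) (Equiv.ext hid)
    {⟨1, by norm_num⟩, ⟨2, by norm_num⟩} ?_ ?_
  · show toPerm (prElems.getD 0 0) = 1
    rw [show prElems.getD 0 0 = idP from h0, toPerm_idP]
  · rw [eq_top_iff]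
    rintro ⟨g, hg⟩ -
    have hle : prCert.grp ≤ (Subgroup.closure (f '' {(⟨1, by norm_num⟩ : Fin 120), ⟨2, by norm_num⟩})).map
        pairGrp.subtype := by
      rw [ListCert.grp, Subgroup.closure_le]
      rintro _ ⟨u, hu, rfl⟩
      obtain ⟨a, ha, rfl⟩ := hgens u hu
      simp only [List.mem_cons, List.not_mem_nil, or_false] at ha
      rcases ha with rfl | rfl
      · exact ⟨f ⟨1, by norm_num⟩, Subgroup.subset_closure ⟨_, Or.inl rfl, rfl⟩, rfl⟩
      · exact ⟨f ⟨2, by norm_num⟩, Subgroup.subset_closure ⟨_, Or.inr rfl, rfl⟩, rfl⟩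
    obtain ⟨u, hu, hug⟩ := hle (pairGrp_eq.1.le hg)
    exact (Subtype.ext hug : u = ⟨g, hg⟩) ▸ hu
  · intro a ha i
    have ha' : (a : ℕ) ∈ [1, 2] := by rcases ha with rfl | rfl <;> simp
    obtain ⟨j, hj, h1, h2⟩ := hstep a ha' i (List.mem_range.2 i.isLt)
    refine ⟨⟨j, List.mem_range.1 hj⟩, Subtype.ext ?_, Equiv.ext fun x => ?_⟩
    · show toPerm (prElems.getD a 0) * toPerm (prElems.getD i 0) = toPerm (prElems.getD j 0)
      rw [← toPerm_compP (prCert_props a.isLt).1 (prCert_props i.isLt).1, h1]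
    · exact h2 x

theorem stab_d_p_pair {d : Finset GolayPt} (hd : d ∈ dodecads) {p q q' : GolayPt} (hp : p ∈ d)
    (hq : q ∉ d) (hq' : q' ∉ d) (hne : q ≠ q') :
    Nonempty (↥(stabilizer M24 d ⊓ stabilizer M24 p ⊓ stabilizer M24 ({q, q'} : Finset GolayPt)) ≃*
      Equiv.Perm (Fin 5)) := by
  obtain ⟨σ, hσ, h, h0⟩ := exists_sqDod_point_map d hd p hp
  have hout : ∀ z, z ∉ d → σ⁻¹ z ∈ setOf outMask := fun z hz => by
    rw [mem_out]
    intro hm
    apply hz
    rw [← h, ← Finset.inv_smul_mem_iff]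
    exact hm
  obtain ⟨a, ha, hae, hae'⟩ := M11_pair_map (hout q hq) (hout q' hq')
    (fun e => hne (σ⁻¹.injective e))
  obtain ⟨e⟩ := pairGrp_iso
  rw [← stab_pair_eq, ← stab_pair_eq]
  have hg : ((d, p), ({q, q'} : Finset GolayPt)) = (⟨σ * a, M24.mul_mem hσ ha.1.1⟩ : M24) •
      ((Spor.squareDodecad, (some 0 : GolayPt)), stdPair) := by
    refine Prod.ext (Prod.ext ?_ ?_) ?_
    · show d = (σ * a) • Spor.squareDodecad
      rw [mul_smul, show a • Spor.squareDodecad = Spor.squareDodecad from ha.1.2, ← setOf_sqDod, h]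
    · show p = (σ * a) (some 0)
      rw [Equiv.Perm.mul_apply, show a (some 0) = some 0 from ha.2, h0]
    · show ({q, q'} : Finset GolayPt) = (σ * a) • stdPair
      rw [mul_smul, smul_stdPair, hae, hae', Finset.smul_finset_insert, Finset.smul_finset_singleton]
      simp
  exact ⟨((MulAction.stabilizerEquivStabilizer hg).symm.trans ((stabInfEquiv M24 _).trans
    (MulEquiv.subgroupCongr (by rw [stab_pair_eq, stab_pair_eq, pairGrp, Spor.M11, Spor.M12, inf_assoc,
      inf_assoc, inf_assoc])))).trans e⟩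

end

end Cfsg.Agent.Golay24.Suborbits
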