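import Cfsg.Agent.Lib.Golay.Suborbits.PlaneFourData
import Cfsg.Agent.Lib.Golay.Conj
import Cfsg.Agent.Lib.LinearGroups.PSL
import Cfsg.Agent.Lib.CoverL34.Main
import Mathlib.LinearAlgebra.Projectivization.Cardinality

/-!
The stabiliser of three points as the special linear group of a plane over four elements.
-/

set_option autoImplicit false

namespace Cfsg.Agent.Golay24.Suborbits

noncomputable section

open Cfsg
open scoped LinearAlgebra.Projectivization

attribute [local irreducible] weightList codeList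

/-- Multiplication of two-bit codes of field elements. -/
def mul4 (a b : ℕ) : ℕ :=
  [0, 0, 0, 0, 0, 1, 2, 3, 0, 2, 3, 1, 0, 3, 1, 2].getD (4 * a + b) 0

/-- Addition of two-bit codes of field elements. -/
def add4 (a b : ℕ) : ℕ :=
  [0, 1, 2, 3, 1, 0, 3, 2, 2, 3, 0, 1, 3, 2, 1, 0].getD (4 * a + b) 0

/-- A coordinate of a vector code. -/
def crd (v : ℕ × ℕ × ℕ) (i : ℕ) : ℕ :=
  if i = 0 then v.1 else if i = 1 then v.2.1 else v.2.2

theorem l34_ok : l34Vec.length = 21 ∧ l34Pos.length = 21 ∧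
    (∀ k ∈ List.range 21, ∀ i ∈ List.range 3, crd (l34Vec.getD k 0) i < 4) ∧
    (∀ k ∈ List.range 21, ∃ i ∈ List.range 3, crd (l34Vec.getD k 0) i ≠ 0) ∧
    (∀ k ∈ List.range 21, ∀ l ∈ List.range 21, ∀ c ∈ List.range 4,
      (∀ i ∈ List.range 3, crd (l34Vec.getD k 0) i = mul4 c (crd (l34Vec.getD l 0) i)) → k = l) ∧
    (∀ k ∈ List.range 21, l34Pos.getD k 0 < 24 ∧ Nat.testBit 8388604 (l34Pos.getD k 0) = true) ∧
    (∀ k ∈ List.range 21, ∀ l ∈ List.range 21, l34Pos.getD k 0 = l34Pos.getD l 0 → k = l) ∧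
    (∀ i ∈ List.range 3, ∀ j ∈ List.range 3, i ≠ j → ∀ a ∈ List.range 4,
      ∃ t ∈ l34Trans, t.1 = i ∧ t.2.1 = j ∧ t.2.2.1 = a) ∧
    ∀ t ∈ l34Trans, inM24 t.2.2.2 = true ∧ app t.2.2.2 0 = 0 ∧ app t.2.2.2 1 = 1 ∧
      app t.2.2.2 23 = 23 ∧ t.1 < 3 ∧ t.2.1 < 3 ∧
      ∀ k ∈ List.range 21, ∃ l ∈ List.range 21, ∃ c ∈ [1, 2, 3],
        app t.2.2.2 (l34Pos.getD k 0) = l34Pos.getD l 0 ∧
        ∀ m ∈ List.range 3,
          (if m = t.1 then add4 (crd (l34Vec.getD k 0) m)
              (mul4 t.2.2.1 (crd (l34Vec.getD k 0) t.2.1))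
            else crd (l34Vec.getD k 0) m) = mul4 c (crd (l34Vec.getD l 0) m) := by
  decide +kernel

variable {F : Type} [Field F] [Fintype F]

/-- The field element with a given code. -/
def fel (w : F) (n : ℕ) : F := if n = 0 then 0 else if n = 1 then 1 else if n = 2 then w else w * w

theorem fel_hom (w : F) (h2 : ∀ a : F, a + a = 0) (h3 : w ^ 3 = 1) (hq : w * w = w + 1) :
    ∀ a < 4, ∀ b < 4, fel w (add4 a b) = fel w a + fel w b ∧
      fel w (mul4 a b) = fel w a * fel w b := by
  intro a ha b hb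
  interval_cases a <;> interval_cases b <;> (simp [fel, mul4, add4]; try grind)

theorem fel_inj (w : F) (hall : ∀ a : F, a = 0 ∨ a = 1 ∨ a = w ∨ a = w * w)
    (hF : Fintype.card F = 4) : Function.Bijective (fun n : Fin 4 => fel w n) := by
  classical
  refine (Fintype.bijective_iff_surjective_and_card _).2 ⟨fun a => ?_, by rw [hF, Fintype.card_fin]⟩
  rcases hall a with rfl | rfl | rfl | rfl
  · exact ⟨0, rfl⟩
  · exact ⟨1, rfl⟩
  · exact ⟨2, rfl⟩
  · exact ⟨3, rfl⟩

theorem psl34_equiv_M21 (hF : Fintype.card F = 4) :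
    Nonempty (M21 ≃* Matrix.ProjectiveSpecialLinearGroup (Fin 3) F) := by
  classical
  obtain ⟨h2, w, h3, hq, hall⟩ := CoverL34.field_facts hF
  have hbij := fel_inj w hall hF
  have hom := fel_hom w h2 h3 hq
  obtain ⟨hlv, hlp, hlt, hnz, hsep, hpos, hposinj, htr, htrans⟩ := l34_ok
  have hr : ∀ k : Fin 21, (k : ℕ) ∈ List.range 21 := fun k => List.mem_range.2 k.isLt
  have hri : ∀ i : Fin 3, (i : ℕ) ∈ List.range 3 := fun i => List.mem_range.2 i.isLt
  let cv : Fin 21 → Fin 3 → ℕ := fun k i => crd (l34Vec.getD k 0) i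
  let v : Fin 21 → Fin 3 → F := fun k i => fel w (cv k i)
  have hcv : ∀ k i, cv k i < 4 := fun k i => hlt k (hr k) i (hri i)
  have felinj : ∀ {a b : ℕ}, a < 4 → b < 4 → fel w a = fel w b → a = b := fun {a b} ha hb h =>
    congrArg Fin.val (hbij.1 (a₁ := ⟨a, ha⟩) (a₂ := ⟨b, hb⟩) h)
  have hv0 : ∀ k, v k ≠ 0 := fun k h => by
    obtain ⟨i, hi, hne⟩ := hnz k (hr k)
    exact hne (felinj (hlt k (hr k) i hi) (by norm_num) (congrFun h ⟨i, List.mem_range.1 hi⟩))
  let P : Fin 21 → ℙ F (Fin 3 → F) := fun k => Projectivization.mk F (v k) (hv0 k)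
  have hmul : ∀ a < 4, ∀ b < 4, mul4 a b < 4 := by decide
  have hP : Function.Bijective P := by
    refine (Nat.bijective_iff_injective_and_card P).2 ⟨fun k l h => ?_, ?_⟩
    · obtain ⟨c, hc⟩ := (Projectivization.mk_eq_mk_iff' _ _ _ _ _).1 h
      obtain ⟨n, rfl⟩ := hbij.2 c
      refine Fin.ext (hsep k (hr k) l (hr l) n (List.mem_range.2 n.isLt) fun i hi => ?_)
      have hi' := List.mem_range.1 hi
      refine felinj (hlt k (hr k) i hi) (hmul _ n.isLt _ (hlt l (hr l) i hi)) ?_
      rw [(hom _ n.isLt _ (hlt l (hr l) i hi)).2]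
      exact (congrFun hc ⟨i, hi'⟩).symm
    · rw [Projectivization.card_of_finrank F (Fin 3 → F) (n := 3) (Module.finrank_fin_fun F),
        Nat.card_eq_fintype_card, Fintype.card_fin, Nat.card_eq_fintype_card, hF]
      rfl
  let q : Fin 21 → {x : GolayPt // x ∈ setOf 8388604} := fun k =>
    ⟨pt ⟨l34Pos.getD k 0, (hpos k (hr k)).1⟩, by rw [mem_setOf, idx_pt]; exact (hpos k (hr k)).2⟩
  have hqb : Function.Bijective q := by
    refine (Fintype.bijective_iff_injective_and_card q).2 ⟨fun k l h => ?_, ?_⟩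
    · have h' := congrArg (fun z : {x : GolayPt // x ∈ setOf 8388604} => (idx z.1 : ℕ)) h
      simp only [q, idx_pt] at h'
      exact Fin.ext (hposinj k (hr k) l (hr l) h')
    · rw [Fintype.card_fin, Fintype.card_coe]; decide +kernel
  let f : ℙ F (Fin 3 → F) ≃ {x : GolayPt // x ∈ setOf 8388604} :=
    (Equiv.ofBijective P hP).symm.trans (Equiv.ofBijective q hqb)
  have hfP : ∀ k, f (P k) = q k := fun k => by
    show (Equiv.ofBijective q hqb) ((Equiv.ofBijective P hP).symm (P k)) = q k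
    rw [Equiv.ofBijective_symm_apply_apply]; rfl
  let ρ : Matrix.ProjectiveSpecialLinearGroup (Fin 3) F →* Equiv.Perm GolayPt :=
    (Equiv.Perm.extendDomainHom f).comp (MulAction.toPermHom _ _)
  have hρ : Function.Injective ρ :=
    (Equiv.Perm.extendDomainHom_injective f).comp MulAction.toPerm_injective
  have hle : ρ.range ≤ M21 := by
    rw [MonoidHom.range_eq_map, ← Subgroup.map_top_of_surjective (QuotientGroup.mk' _)
      (QuotientGroup.mk'_surjective _), ← LinGrp.closure_transvectionSet, MonoidHom.map_closure,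
      MonoidHom.map_closure, Subgroup.closure_le]
    rintro _ ⟨_, ⟨_, ⟨i, j, hij, c, rfl⟩, rfl⟩, rfl⟩
    obtain ⟨a, rfl⟩ := hbij.2 c
    obtain ⟨⟨i', j', a', g⟩, ht, e1, e2, e3⟩ :=
      htr i (hri i) j (hri j) (fun e => hij (Fin.ext e)) a (List.mem_range.2 a.isLt)
    obtain ⟨hM, h0, h1, h23, -, -, hk⟩ := htrans _ ht
    obtain rfl : i' = i := e1
    obtain rfl : j' = j := e2
    obtain rfl : a' = a := e3
    have hv := valid_of_inM24 hM
    have hfix : ∀ x : GolayPt, x ∉ setOf 8388604 → toPerm g x = x := by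
      intro x hx
      have hx' : x = pt 23 ∨ x = pt 0 ∨ x = pt 1 := by revert x; decide +kernel
      apply idx_inj.1 (Fin.ext _)
      rw [idx_toPerm hv]
      rcases hx' with rfl | rfl | rfl <;> rw [idx_pt] <;> assumption
    suffices h : ρ (QuotientGroup.mk' _ (Matrix.SpecialLinearGroup.transvection hij (fel w a))) =
        toPerm g by
      rw [SetLike.mem_coe, h]
      refine ⟨⟨⟨toPerm_mem_M24 hM, ?_⟩, ?_⟩, ?_⟩
      · exact hfix none (by decide +kernel)
      · exact hfix (some 0) (by decide +kernel)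
      · exact hfix (some 1) (by decide +kernel)
    refine Equiv.ext fun x => ?_
    by_cases hx : x ∈ setOf 8388604
    · obtain ⟨k, hk'⟩ := hqb.2 ⟨x, hx⟩
      obtain rfl : ((q k : GolayPt)) = x := congrArg Subtype.val hk'
      obtain ⟨l, hl, c, hc, hap, hcoord⟩ := hk k (hr k)
      have hl' := List.mem_range.1 hl
      show Equiv.Perm.extendDomain _ f (q k : GolayPt) = _
      rw [← hfP k, Equiv.Perm.extendDomain_apply_image]
      have hTP : (QuotientGroup.mk' _ (Matrix.SpecialLinearGroup.transvection hij (fel w a)) :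
          Matrix.ProjectiveSpecialLinearGroup (Fin 3) F) • P k = P ⟨l, hl'⟩ := by
        show Matrix.SpecialLinearGroup.transvection hij (fel w a) • P k = _
        rw [Projectivization.smul_mk]
        refine (Projectivization.mk_eq_mk_iff' _ _ _ _ _).2 ⟨fel w c, ?_⟩
        funext m
        have hc4 : c < 4 := by
          simp only [List.mem_cons, List.not_mem_nil, or_false] at hc; omega
        have := congrArg (fel w) (hcoord m (hri m))
        rw [(hom c hc4 _ (hlt l hl m (hri m))).2, apply_ite (fel w),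
          (hom _ (hlt k (hr k) m (hri m)) _ (hmul _ a.isLt _ (hlt k (hr k) j (hri j)))).1,
          (hom _ a.isLt _ (hlt k (hr k) j (hri j))).2] at this
        rw [Pi.smul_apply, smul_eq_mul]
        refine this.symm.trans ?_
        show _ = ((Matrix.transvection i j (fel w a)).mulVec (v k)) m
        rw [Matrix.transvection, Matrix.add_mulVec, Matrix.one_mulVec, Pi.add_apply,
          Matrix.single_mulVec_eq]
        by_cases hm : m = i
        · subst hm; simp [v, cv]
        · rw [if_neg (fun e => hm (Fin.ext e))]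
          simp [v, cv, hm]
      rw [MulAction.toPermHom_apply, MulAction.toPerm_apply, hTP, hfP]
      apply idx_inj.1 (Fin.ext _)
      rw [idx_toPerm hv, hfP]
      show (idx (pt _) : ℕ) = app g (idx (pt _) : ℕ)
      rw [idx_pt, idx_pt]
      exact hap.symm
    · show Equiv.Perm.extendDomain _ f x = _
      rw [Equiv.Perm.extendDomain_apply_not_subtype _ _ hx, hfix x hx]
  have he : ρ.range = M21 := Subgroup.eq_of_le_of_card_ge hle (le_of_eq (by
    rw [card_M21, ← Nat.card_congr (MonoidHom.ofInjective hρ).toEquiv]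
    exact (CoverL34.natCard_L34 F hF).symm))
  exact ⟨(he ▸ (MonoidHom.ofInjective hρ).symm : M21 ≃* Matrix.ProjectiveSpecialLinearGroup (Fin 3) F)⟩

theorem stab_three_psl34 {p q r : GolayPt} (hpq : p ≠ q) (hpr : p ≠ r) (hqr : q ≠ r)
    (hF : Fintype.card F = 4) :
    Nonempty (↥(MulAction.stabilizer M24 p ⊓ MulAction.stabilizer M24 q ⊓
      MulAction.stabilizer M24 r) ≃* Matrix.ProjectiveSpecialLinearGroup (Fin 3) F) := by
  obtain ⟨e⟩ := stab_three_equiv p q r hpq hpr hqr
  obtain ⟨e'⟩ := psl34_equiv_M21 hF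
  exact ⟨e.trans e'⟩

end

end Cfsg.Agent.Golay24.Suborbits
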