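/-!
Data: coordinates over the field of four elements for the plane through three points.
-/

set_option autoImplicit false

namespace Cfsg.Agent.Golay24.Suborbits

/-- Normalised coordinate vectors. -/
def l34Vec : List (Nat × Nat × Nat) :=
  [(1, 0, 0), (1, 0, 1), (1, 0, 2), (1, 0, 3), (1, 1, 0), (1, 1, 1), (1, 1, 2), (1, 1, 3), (1, 2, 0), (1, 2, 1), (1, 2, 2), (1, 2, 3), (1, 3, 0), (1, 3, 1), (1, 3, 2), (1, 3, 3), (0, 1, 0), (0, 1, 1), (0, 1, 2), (0, 1, 3), (0, 0, 1)]

/-- Position of each coordinate vector. -/
def l34Pos : List Nat :=
  [2, 3, 5, 14, 4, 6, 9, 12, 16, 8, 21, 20, 22, 10, 11, 7, 13, 19, 15, 18, 17]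

/-- Transvections with their permutations. -/
def l34Trans : List (Nat × Nat × Nat × Nat) :=
  [(0, 1, 0, 984818244535754528103549039458486304),
    (0, 1, 1, 976448692869377735270425038196672544),
    (0, 1, 2, 972512676110088067912772961567868960),
    (0, 1, 3, 961365507626256404119956257276790816),
    (0, 2, 0, 984818244535754528103549039458486304),
    (0, 2, 1, 984235865005994746954145143334668320),
    (0, 2, 2, 984202951082164080105044112956360736),
    (0, 2, 3, 984724508489452699215480746259449888),
    (1, 0, 0, 984818244535754528103549039458486304),
    (1, 0, 1, 976607671605327482668242317735039008),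
    (1, 0, 2, 960796265644511697179202340874633248),
    (1, 0, 3, 958359841193275559058527489894996000),
    (1, 2, 0, 984818244535754528103549039458486304),
    (1, 2, 1, 984158983359129550953007900942075936),
    (1, 2, 2, 984314827592033236074561707266279456),
    (1, 2, 3, 984404951986650291017642929327245344),
    (2, 0, 0, 984818244535754528103549039458486304),
    (2, 0, 1, 969202056781860934635753244362607648),
    (2, 0, 2, 970321392277576132733525417503691808),
    (2, 0, 3, 964814718068974595068575295767492640),
    (2, 1, 0, 984818244535754528103549039458486304),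
    (2, 1, 1, 965128854020860192151391391390468128),
    (2, 1, 2, 968708902336673183175954409307867168),
    (2, 1, 3, 970499966350631336865513127433832480)]

end Cfsg.Agent.Golay24.Suborbits
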