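import Cfsg.Agent.Lib.Golay.Suborbit

/-!
Decompositions of a family into orbits of a subgroup: certificates, transport by conjugation,
and the reading of stabiliser orbits in the other direction.
-/

set_option autoImplicit false

namespace Cfsg.Agent.Golay24.Suborbits

noncomputable section

open Cfsg MulAction
open scoped Pointwise

/-- The orbits of `K` on `A`, by representatives and sizes. -/
def Decomp {K β : Type*} [Group K] [MulAction K β] (A : Set β) (L : List (β × ℕ)) : Prop :=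
  (∀ p ∈ L, p.1 ∈ A ∧ orbit K p.1 ⊆ A ∧ (orbit K p.1).ncard = p.2) ∧
    ∀ a ∈ A, ∃ p ∈ L, a ∈ orbit K p.1

theorem Decomp.three {K β : Type*} [Group K] [MulAction K β] {A : Set β} {x y z : β} {a b c : ℕ}
    (h : Decomp (K := K) A [(x, a), (y, b), (z, c)]) :
    ∃ X₁ ∈ A, ∃ X₂ ∈ A, ∃ X₃ ∈ A, (orbit K X₁).ncard = a ∧ (orbit K X₂).ncard = b ∧
      (orbit K X₃).ncard = c ∧ A = orbit K X₁ ∪ orbit K X₂ ∪ orbit K X₃ := by
  obtain ⟨h1, h2⟩ := h
  simp only [List.forall_mem_cons] at h1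
  obtain ⟨⟨hx, sx, nx⟩, ⟨hy, sy, ny⟩, ⟨hz, sz, nz⟩, -⟩ := h1
  refine ⟨x, hx, y, hy, z, hz, nx, ny, nz, ?_⟩
  refine Set.Subset.antisymm (fun u hu => ?_) (Set.union_subset (Set.union_subset sx sy) sz)
  obtain ⟨p, hp, hup⟩ := h2 u hu
  simp only [List.mem_cons, List.not_mem_nil, or_false] at hp
  rcases hp with rfl | rfl | rfl
  exacts [Or.inl (Or.inl hup), Or.inl (Or.inr hup), Or.inr hup]

theorem Decomp.four {K β : Type*} [Group K] [MulAction K β] {A : Set β} {x y z w : β} {a b c d : ℕ}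
    (h : Decomp (K := K) A [(x, a), (y, b), (z, c), (w, d)]) :
    ∃ X₁ ∈ A, ∃ X₂ ∈ A, ∃ X₃ ∈ A, ∃ X₄ ∈ A, (orbit K X₁).ncard = a ∧ (orbit K X₂).ncard = b ∧
      (orbit K X₃).ncard = c ∧ (orbit K X₄).ncard = d ∧
      A = orbit K X₁ ∪ orbit K X₂ ∪ orbit K X₃ ∪ orbit K X₄ := by
  obtain ⟨h1, h2⟩ := h
  simp only [List.forall_mem_cons] at h1
  obtain ⟨⟨hx, sx, nx⟩, ⟨hy, sy, ny⟩, ⟨hz, sz, nz⟩, ⟨hw, sw, nw⟩, -⟩ := h1
  refine ⟨x, hx, y, hy, z, hz, w, hw, nx, ny, nz, nw, ?_⟩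
  refine Set.Subset.antisymm (fun u hu => ?_)
    (Set.union_subset (Set.union_subset (Set.union_subset sx sy) sz) sw)
  obtain ⟨p, hp, hup⟩ := h2 u hu
  simp only [List.mem_cons, List.not_mem_nil, or_false] at hp
  rcases hp with rfl | rfl | rfl | rfl
  exacts [Or.inl (Or.inl (Or.inl hup)), Or.inl (Or.inl (Or.inr hup)), Or.inl (Or.inr hup),
    Or.inr hup]

/-- The orbits with a covering in both directions. -/
structure SplitCert where
  orbs : List OrbCert
  pos : List ℕ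
  back : List ℕ

/-- All names in a row. -/
def SplitCert.cat (c : SplitCert) : List ℕ := c.orbs.flatMap (·.orb)

/-- All checks against the list of names of the family. -/
def SplitCert.ok (c : SplitCert) (act : ℕ → ℕ → ℕ) (gens : List ℕ) (w : ℕ) (base : List ℕ) : Bool :=
  c.orbs.all (fun o => o.ok act gens w) &&
    (slotsOk w (packSlots w c.cat) 0 c.cat && covTree w (packSlots w c.cat) c.cat.length base c.pos) &&
    (slotsOk w (packSlots w base) 0 base && covTree w (packSlots w base) base.length c.cat c.back)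

theorem mem_of_cov {w : ℕ} {L T : List ℕ} {p : List ℕ} (hs : slotsOk w (packSlots w L) 0 L = true)
    (hc : covTree w (packSlots w L) L.length T p = true) {x : ℕ} (hx : x ∈ T) : x ∈ L := by
  obtain ⟨k, hk, he⟩ := covTree_spec _ _ hc x hx
  have := slotsOk_spec _ _ hs k hk
  rw [Nat.zero_add, he] at this
  exact this ▸ List.getElem_mem _

variable {β : Type*} [MulAction (Equiv.Perm GolayPt) β] {sem : ℕ → β} {act : ℕ → ℕ → ℕ}
  {gens base : List ℕ} {w : ℕ}

theorem SplitCert.mem_base (c : SplitCert) (h : c.ok act gens w base = true) {o : OrbCert}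
    (ho : o ∈ c.orbs) {x : ℕ} (hx : x ∈ o.orb) : x ∈ base := by
  simp only [SplitCert.ok, Bool.and_eq_true] at h
  exact mem_of_cov h.2.1 h.2.2 (List.mem_flatMap.2 ⟨o, ho, hx⟩)

/-- A certificate gives the decomposition. -/
theorem SplitCert.decomp (c : SplitCert) (h : c.ok act gens w base = true)
    (hgens : ∀ g ∈ gens, inM24 g = true) (hact : ActsLike sem act base)
    (hinj : Set.InjOn sem {x | x ∈ base}) {K : Subgroup (Equiv.Perm GolayPt)}
    (hK : K = Subgroup.closure {τ | ∃ g ∈ gens, toPerm g = τ}) :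
    Decomp (K := K) (sem '' {x | x ∈ base}) (c.orbs.map fun o => (sem o.root, o.orb.length)) := by
  have hmem := fun {o} (ho : o ∈ c.orbs) {x} (hx : x ∈ o.orb) => c.mem_base h ho (x := x) hx
  simp only [SplitCert.ok, Bool.and_eq_true, List.all_eq_true] at h
  have key : ∀ o ∈ c.orbs, orbit K (sem o.root) = sem '' {x | x ∈ o.orb} := fun o ho =>
    o.orbit_eq (h.1.1 o ho) hgens (fun g hg x hx => hact g hg x (hmem ho hx)) hK
  have hroot : ∀ o ∈ c.orbs, o.root ∈ o.orb := fun o ho => by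
    have hlen : 0 < o.orb.length := by
      have := h.1.1 o ho
      simp only [OrbCert.ok, Bool.and_eq_true, beq_iff_eq] at this
      omega
    rw [OrbCert.root, List.getD_eq_getElem _ _ hlen]
    exact List.getElem_mem _
  refine ⟨fun p hp => ?_, fun a ha => ?_⟩
  · obtain ⟨o, ho, rfl⟩ := List.mem_map.1 hp
    refine ⟨⟨o.root, hmem ho (hroot o ho), rfl⟩, ?_, ?_⟩
    · rw [key o ho]
      exact Set.image_mono fun x hx => hmem ho hx
    · rw [key o ho]
      exact o.ncard_image (h.1.1 o ho) (hinj.mono fun x hx => hmem ho hx)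
  · obtain ⟨x, hx, rfl⟩ := ha
    obtain ⟨o, ho, hxo⟩ := List.mem_flatMap.1 (mem_of_cov h.1.2.1 h.1.2.2 hx)
    exact ⟨_, List.mem_map.2 ⟨o, ho, rfl⟩, by rw [key o ho]; exact ⟨x, hxo, rfl⟩⟩

/-- Conjugation moves decompositions. -/
theorem Decomp.transport {γ : Type*} [MulAction (Equiv.Perm GolayPt) γ]
    {G : Subgroup (Equiv.Perm GolayPt)} {σ : Equiv.Perm GolayPt} (hσ : σ ∈ G) {s : γ} {A : Set β}
    (hA : ∀ g ∈ G, ∀ a ∈ A, g • a ∈ A) {L : List (β × ℕ)}
    (h : Decomp (K := ↥(G ⊓ stabilizer (Equiv.Perm GolayPt) s)) A L) :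
    Decomp (K := ↥(stabilizer G (σ • s))) A (L.map fun p => (σ • p.1, p.2)) := by
  have key : ∀ x : β, orbit ↥(stabilizer G (σ • s)) (σ • x) =
      (σ • ·) '' orbit ↥(G ⊓ stabilizer (Equiv.Perm GolayPt) s) x := fun x => by
    ext y
    constructor
    · rintro ⟨g, rfl⟩
      have hg : ((g : G) : Equiv.Perm GolayPt) • σ • s = σ • s := g.2
      refine ⟨(σ⁻¹ * ((g : G) : Equiv.Perm GolayPt) * σ) • x,
        ⟨⟨_, G.mul_mem (G.mul_mem (G.inv_mem hσ) g.1.2) hσ, ?_⟩, rfl⟩, ?_⟩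
      · show (σ⁻¹ * ((g : G) : Equiv.Perm GolayPt) * σ) • s = s
        rw [mul_smul, mul_smul, hg, inv_smul_smul]
      · show σ • (σ⁻¹ * ((g : G) : Equiv.Perm GolayPt) * σ) • x = _
        rw [mul_smul, mul_smul, smul_inv_smul]
        rfl
    · rintro ⟨_, ⟨g, rfl⟩, rfl⟩
      have hg : (g : Equiv.Perm GolayPt) • s = s := g.2.2
      refine ⟨⟨⟨σ * g * σ⁻¹, G.mul_mem (G.mul_mem hσ g.2.1) (G.inv_mem hσ)⟩, ?_⟩, ?_⟩
      · show (σ * g * σ⁻¹) • σ • s = σ • s
        rw [mul_smul, mul_smul, inv_smul_smul, hg]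
      · show (σ * g * σ⁻¹) • σ • x = σ • (g : Equiv.Perm GolayPt) • x
        rw [mul_smul, mul_smul, inv_smul_smul]
  obtain ⟨h1, h2⟩ := h
  refine ⟨fun p hp => ?_, fun a ha => ?_⟩
  · obtain ⟨q, hq, rfl⟩ := List.mem_map.1 hp
    obtain ⟨hqA, hsub, hn⟩ := h1 q hq
    refine ⟨hA σ hσ _ hqA, ?_, ?_⟩
    · rw [key]
      rintro _ ⟨y, hy, rfl⟩
      exact hA σ hσ y (hsub hy)
    · rw [key, Set.ncard_image_of_injective _ (MulAction.injective σ), hn]
  · obtain ⟨q, hq, hmem⟩ := h2 (σ⁻¹ • a) (hA _ (G.inv_mem hσ) a ha)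
    refine ⟨_, List.mem_map.2 ⟨q, hq, rfl⟩, ?_⟩
    rw [key]
    exact ⟨_, hmem, smul_inv_smul _ _⟩

theorem orbit_mul_inf {G β γ : Type*} [Group G] [MulAction G β] [MulAction G γ] (a : γ) (b : β) :
    (orbit ↥(stabilizer G a) b).ncard * Nat.card ↥(stabilizer G a ⊓ stabilizer G b) =
      Nat.card ↥(stabilizer G a) := by
  have h := (stabilizer ↥(stabilizer G a) b).index_mul_card
  rw [index_stabilizer] at h
  rw [← h]
  congr 1
  exact (Nat.card_congr
    { toFun := fun g => ⟨g.1.1, g.1.2, g.2⟩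
      invFun := fun g => ⟨⟨g.1, g.2.1⟩, g.2.2⟩
      left_inv := fun _ => rfl
      right_inv := fun _ => rfl }).symm

/-- Orbits of the stabiliser of a point of one family on another, read backwards. -/
theorem decomp_dual {G β γ : Type*} [Group G] [Finite G] [MulAction G β] [MulAction G γ]
    {A : Set β} {B : Set γ} {b : γ} (hA : ∀ g : G, ∀ a ∈ A, g • a ∈ A) (hB : orbit G b = B)
    {L : List (β × ℕ)} (h : Decomp (K := ↥(stabilizer G b)) A L)
    {a : β} (haA : orbit G a = A) {nA nB : ℕ} (hnA : A.ncard = nA) (hnB : B.ncard = nB) (h0 : 0 < nA)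
    (M : List ℕ) (hM : List.Forall₂ (fun p m => p.2 * nB = m * nA) L M) :
    ∃ L' : List (γ × ℕ), L'.map Prod.snd = M ∧ Decomp (K := ↥(stabilizer G a)) B L' := by
  obtain ⟨h1, h2⟩ := h
  have hcA : Nat.card ↥(stabilizer G a) * nA = Nat.card G := by
    rw [← hnA, ← haA, ← index_stabilizer G a, mul_comm, Subgroup.index_mul_card]
  have hcB : Nat.card ↥(stabilizer G b) * nB = Nat.card G := by
    rw [← hnB, ← hB, ← index_stabilizer G b, mul_comm, Subgroup.index_mul_card]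
  have hto : ∀ p ∈ L, ∃ g : G, g • p.1 = a := fun p hp => by
    have hm : p.1 ∈ orbit G a := haA ▸ (h1 p hp).1
    obtain ⟨g, hg⟩ := hm
    exact ⟨g⁻¹, by rw [← hg]; exact inv_smul_smul g a⟩
  choose! ρ hρ using hto
  refine ⟨(L.zip M).map fun pm => (ρ pm.1 • b, pm.2), ?_, ?_, ?_⟩
  · rw [List.map_map]
    show List.map (fun pm : (β × ℕ) × ℕ => pm.2) (L.zip M) = M
    exact List.map_snd_zip hM.length_eq.ge
  · intro p hp
    obtain ⟨⟨q, m⟩, hqm, rfl⟩ := List.mem_map.1 hp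
    have hq : q ∈ L := (List.of_mem_zip hqm).1
    have hrel : q.2 * nB = m * nA := (List.forall₂_iff_zip.1 hM).2 hqm
    refine ⟨hB ▸ mem_orbit b (ρ q), ?_, ?_⟩
    · rintro _ ⟨g, rfl⟩
      rw [← hB]
      exact ⟨(g : G) * ρ q, mul_smul _ _ _⟩
    · have e1 := orbit_mul_inf (G := G) b q.1
      rw [(h1 q hq).2.2] at e1
      have e2 := orbit_mul_inf (G := G) a (ρ q • b)
      have hiso : Nat.card ↥(stabilizer G a ⊓ stabilizer G (ρ q • b)) =
          Nat.card ↥(stabilizer G b ⊓ stabilizer G q.1) := by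
        rw [inf_comm (stabilizer G b)]
        refine (Nat.card_congr (Equiv.subtypeEquiv (MulAut.conj (ρ q)).toEquiv fun g => ?_)).symm
        show g ∈ stabilizer G q.1 ⊓ stabilizer G b ↔
          ρ q * g * (ρ q)⁻¹ ∈ stabilizer G a ⊓ stabilizer G (ρ q • b)
        simp only [Subgroup.mem_inf, mem_stabilizer_iff, mul_smul, inv_smul_smul]
        rw [show (ρ q)⁻¹ • a = q.1 by rw [← hρ q hq, inv_smul_smul], smul_left_cancel_iff]
        refine and_congr_left fun _ => ?_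
        conv_rhs => rw [← hρ q hq, smul_left_cancel_iff]
      rw [hiso] at e2
      set c := Nat.card ↥(stabilizer G b ⊓ stabilizer G q.1)
      have hc : 0 < c := Nat.card_pos
      refine Nat.eq_of_mul_eq_mul_right (Nat.mul_pos hc h0) ?_
      calc (orbit ↥(stabilizer G a) (ρ q • b)).ncard * (c * nA)
          = Nat.card G := by rw [← mul_assoc, e2, hcA]
        _ = q.2 * c * nB := by rw [e1, hcB]
        _ = q.2 * nB * c := by ring
        _ = m * (c * nA) := by rw [hrel]; ring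
  · intro x hx
    have hx' : x ∈ orbit G b := hB.symm ▸ hx
    obtain ⟨τ, hτ⟩ := hx'
    have hτ' : τ • b = x := hτ
    have ha' : τ⁻¹ • a ∈ A := hA _ a (haA ▸ mem_orbit_self a)
    obtain ⟨q, hq, ⟨g, hg⟩⟩ := h2 _ ha'
    obtain ⟨i, hi, rfl⟩ := List.mem_iff_getElem.1 hq
    have hiM : i < M.length := hM.length_eq ▸ hi
    refine ⟨(ρ L[i] • b, M[i]), List.mem_map.2 ⟨(L[i], M[i]), ?_, rfl⟩, ?_⟩
    · exact List.mem_iff_getElem.2 ⟨i, by rw [List.length_zip]; omega, by simp⟩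
    · have hg' : (g : G) • L[i].1 = τ⁻¹ • a := hg
      refine ⟨⟨τ * (g : G) * (ρ L[i])⁻¹, ?_⟩, ?_⟩
      · rw [mem_stabilizer_iff, mul_smul, mul_smul, show (ρ L[i])⁻¹ • a = L[i].1 by
          rw [inv_smul_eq_iff, hρ _ hq], hg', smul_inv_smul]
      · show (τ * (g : G) * (ρ L[i])⁻¹) • ρ L[i] • b = x
        rw [mul_smul, mul_smul, inv_smul_smul, mem_stabilizer_iff.1 g.2, hτ']

end

end Cfsg.Agent.Golay24.Suborbits
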