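import Cfsg.Agent.Lib.Golay.Suborbits.QuartStab
import Cfsg.Agent.Lib.Golay.Suborbits.Split

/-!
The joint stabiliser of a dodecad and a quartet.
-/

set_option autoImplicit false

namespace Cfsg.Agent.Golay24.Suborbits

noncomputable section

open Cfsg MulAction
open scoped Pointwise

attribute [local irreducible] weightList codeList combTo

theorem quartGrp_eq_inf :
    quartGrp = M24 ⊓ (stabilizer (Equiv.Perm GolayPt) (setOf sqDod) ⊓
      stabilizer (Equiv.Perm GolayPt) stdQuart) := by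
  rw [quartGrp, Spor.M12, setOf_sqDod, inf_assoc]

/-- Conjugation onto the joint stabiliser of a translated pair. -/
theorem mem_joint_iff {σ : Equiv.Perm GolayPt} (hσ : σ ∈ M24) (g : M24) :
    g ∈ stabilizer M24 (σ • setOf sqDod) ⊓ stabilizer M24 (σ • stdQuart) ↔
      σ⁻¹ * (g : Equiv.Perm GolayPt) * σ ∈ quartGrp := by
  rw [quartGrp_eq_inf]
  constructor
  · rintro ⟨h1, h2⟩
    refine ⟨M24.mul_mem (M24.mul_mem (M24.inv_mem hσ) g.2) hσ, ?_, ?_⟩
    · show (σ⁻¹ * (g : Equiv.Perm GolayPt) * σ) • setOf sqDod = setOf sqDod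
      rw [mul_smul, mul_smul, inv_smul_eq_iff]
      exact h1
    · show (σ⁻¹ * (g : Equiv.Perm GolayPt) * σ) • stdQuart = stdQuart
      rw [mul_smul, mul_smul, inv_smul_eq_iff]
      exact h2
  · rintro ⟨-, h1, h2⟩
    have h1' : (σ⁻¹ * (g : Equiv.Perm GolayPt) * σ) • setOf sqDod = setOf sqDod := h1
    have h2' : (σ⁻¹ * (g : Equiv.Perm GolayPt) * σ) • stdQuart = stdQuart := h2
    rw [mul_smul, mul_smul, inv_smul_eq_iff] at h1' h2'
    exact ⟨h1', h2'⟩

theorem joint_equiv {σ : Equiv.Perm GolayPt} (hσ : σ ∈ M24) :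
    ∃ e : quartGrp ≃* ↥(stabilizer M24 (σ • setOf sqDod) ⊓ stabilizer M24 (σ • stdQuart)),
      ∀ u, (((e u : M24)) : Equiv.Perm GolayPt) = σ * (u : Equiv.Perm GolayPt) * σ⁻¹ := by
  refine ⟨{
    toFun := fun u => ⟨⟨σ * u * σ⁻¹, M24.mul_mem (M24.mul_mem hσ u.2.1.1) (M24.inv_mem hσ)⟩,
      (mem_joint_iff hσ _).2 (by simp [mul_assoc])⟩
    invFun := fun g => ⟨σ⁻¹ * (g : M24) * σ, (mem_joint_iff hσ g).1 g.2⟩
    left_inv := fun u => Subtype.ext (show σ⁻¹ * (σ * u * σ⁻¹) * σ = (u : Equiv.Perm GolayPt) by group)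
    right_inv := fun g => Subtype.ext (Subtype.ext (show σ * (σ⁻¹ * (g : M24) * σ) * σ⁻¹ =
      ((g : M24) : Equiv.Perm GolayPt) by group))
    map_mul' := fun u v => Subtype.ext (Subtype.ext (show σ * (u * v : Equiv.Perm GolayPt) * σ⁻¹ =
      (σ * u * σ⁻¹) * (σ * v * σ⁻¹) by group)) }, fun u => rfl⟩

theorem quStab_moves : ∀ i ∈ List.range 24, sqDod.testBit i = true →
    ∃ x ∈ quStab, app x 0 = i := by decide +kernel

theorem quartet_stab {d : Finset GolayPt} (hd : d ∈ dodecads) {Q : Finset (Finset GolayPt)}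
    (hQ : Q ∈ quartets d) :
    Nat.card ↥(stabilizer M24 d ⊓ stabilizer M24 Q) = 432 ∧
    (∃ (N : Subgroup ↥(stabilizer M24 d ⊓ stabilizer M24 Q)) (_ : N.Normal), Nat.card N = 9 ∧
      Nonempty (↥(stabilizer M24 d ⊓ stabilizer M24 Q) ⧸ N ≃* GL (Fin 2) (ZMod 3))) ∧
    ∀ p ∈ d, ∀ q ∈ d, ∃ g ∈ (stabilizer M24 d ⊓ stabilizer M24 Q),
      ((g : ↥M24) : Equiv.Perm GolayPt) p = q := by
  obtain ⟨σ, hσ, rfl, rfl⟩ := exists_quart_map hd hQ
  obtain ⟨e, he⟩ := joint_equiv hσ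
  have hcard := (Nat.card_congr e.toEquiv).symm.trans card_quartGrp
  refine ⟨hcard, quotient_GL23 hcard (e.toMonoidHom.comp quPlane) (e.injective.comp quPlane_injective)
    ?_ ?_, ?_⟩
  · rw [MonoidHom.range_comp]
    exact quPlane_normal.map e.toMonoidHom e.surjective
  · intro g hg
    obtain ⟨u, rfl⟩ := e.surjective g
    have hu := quPlane_cent u fun v => e.injective (by simpa using hg v)
    obtain ⟨v, rfl⟩ := hu
    exact ⟨v, rfl⟩
  · have key : ∀ x ∈ setOf sqDod, ∃ u : quartGrp,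
        (u : Equiv.Perm GolayPt) (pt ⟨0, by norm_num⟩) = x := fun x hx => by
      obtain ⟨c, hc, hx'⟩ := quStab_moves (idx x) (List.mem_range.2 (idx x).isLt) (mem_setOf.1 hx)
      obtain ⟨hv, hcl⟩ := quStab_props c hc
      exact ⟨⟨toPerm c, quGens_le hcl⟩, idx_inj.1 (Fin.ext (by rw [idx_toPerm hv, idx_pt, hx']))⟩
    intro p hp q hq
    have hin : ∀ z ∈ σ • setOf sqDod, σ⁻¹ z ∈ setOf sqDod := fun z hz => by
      rw [← Finset.inv_smul_mem_iff] at hz; exact hz
    obtain ⟨a, ha⟩ := key _ (hin p hp)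
    obtain ⟨b, hb⟩ := key _ (hin q hq)
    refine ⟨_, (e (b * a⁻¹)).2, ?_⟩
    rw [he]
    simp only [Subgroup.coe_mul, Subgroup.coe_inv, Equiv.Perm.mul_apply]
    rw [← ha]
    simp only [Equiv.Perm.coe_inv, Equiv.symm_apply_apply, hb, Equiv.apply_symm_apply]

theorem quOrb_ok : quOrbSplit.ok quAct quGens 96 quCert.orb = true := by decide +kernel

theorem quOrb_sizes : quOrbSplit.orbs.map (fun o => o.orb.length) = [1, 12, 27, 72, 108] ∧
    (quOrbSplit.orbs.getD 0 ⟨[], [], [], []⟩).root = quCert.root := by decide +kernel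

theorem quartet_orbits {d : Finset GolayPt} (hd : d ∈ dodecads) {Q : Finset (Finset GolayPt)}
    (hQ : Q ∈ quartets d) :
    ∃ X₁ ∈ quartets d, ∃ X₂ ∈ quartets d, ∃ X₃ ∈ quartets d, ∃ X₄ ∈ quartets d,
      (orbit ↥(stabilizer M24 d ⊓ stabilizer M24 Q) X₁).ncard = 12 ∧
      (orbit ↥(stabilizer M24 d ⊓ stabilizer M24 Q) X₂).ncard = 27 ∧
      (orbit ↥(stabilizer M24 d ⊓ stabilizer M24 Q) X₃).ncard = 72 ∧
      (orbit ↥(stabilizer M24 d ⊓ stabilizer M24 Q) X₄).ncard = 108 ∧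
      quartets d = {Q} ∪ orbit ↥(stabilizer M24 d ⊓ stabilizer M24 Q) X₁ ∪
        orbit ↥(stabilizer M24 d ⊓ stabilizer M24 Q) X₂ ∪
        orbit ↥(stabilizer M24 d ⊓ stabilizer M24 Q) X₃ ∪
        orbit ↥(stabilizer M24 d ⊓ stabilizer M24 Q) X₄ := by
  obtain ⟨σ, hσ, rfl, rfl⟩ := exists_quart_map hd hQ
  obtain ⟨e, he⟩ := joint_equiv hσ
  have h := quOrbSplit.decomp quOrb_ok (fun g hg => by
      have h := quGens_ok
      simp only [List.all_eq_true, Bool.and_eq_true] at h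
      exact (h g hg).1.1) (sem := semQuart) (fun g hg x _ => semQuart_act hg) semQuart_injOn
    quartGrp_eq.1
  rw [← quartets_std.1] at h
  obtain ⟨o0, o1, o2, o3, o4, heq⟩ : ∃ o0 o1 o2 o3 o4, quOrbSplit.orbs = [o0, o1, o2, o3, o4] :=
    ⟨_, _, _, _, _, rfl⟩
  have hsz := quOrb_sizes
  rw [heq] at h hsz
  simp only [List.map_cons, List.map_nil, List.cons.injEq, and_true, List.getD_cons_zero] at hsz
  obtain ⟨⟨-, n1, n2, n3, n4⟩, hr0⟩ := hsz
  obtain ⟨hall, hcov⟩ := h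
  simp only [List.map_cons, List.map_nil] at hall hcov
  have key : ∀ X : Finset (Finset GolayPt), orbit ↥(stabilizer M24 (σ • setOf sqDod) ⊓ stabilizer M24 (σ • stdQuart)) (σ • X) =
      (σ • ·) '' orbit quartGrp X := fun X => by
    ext Y
    constructor
    · rintro ⟨g, rfl⟩
      obtain ⟨u, rfl⟩ := e.surjective g
      refine ⟨(u : Equiv.Perm GolayPt) • X, ⟨u, rfl⟩, ?_⟩
      show σ • (u : Equiv.Perm GolayPt) • X = (((e u : M24)) : Equiv.Perm GolayPt) • σ • X
      rw [he, mul_smul, mul_smul, inv_smul_smul]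
    · rintro ⟨_, ⟨u, rfl⟩, rfl⟩
      refine ⟨e u, ?_⟩
      show (((e u : M24)) : Equiv.Perm GolayPt) • σ • X = σ • (u : Equiv.Perm GolayPt) • X
      rw [he, mul_smul, mul_smul, inv_smul_smul]
  have hX : ∀ p ∈ [(semQuart o0.root, o0.orb.length), (semQuart o1.root, o1.orb.length),
      (semQuart o2.root, o2.orb.length), (semQuart o3.root, o3.orb.length),
      (semQuart o4.root, o4.orb.length)],
      σ • p.1 ∈ quartets (σ • setOf sqDod) ∧
      (orbit ↥(stabilizer M24 (σ • setOf sqDod) ⊓ stabilizer M24 (σ • stdQuart)) (σ • p.1)).ncard = p.2 :=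
    fun p hp => ⟨smul_mem_quartets hσ (hall p hp).1,
      by rw [key, Set.ncard_image_of_injective _ (MulAction.injective σ), (hall p hp).2.2]⟩
  refine ⟨σ • semQuart o1.root, (hX (semQuart o1.root, o1.orb.length) (by simp)).1,
    σ • semQuart o2.root, (hX (semQuart o2.root, o2.orb.length) (by simp)).1,
    σ • semQuart o3.root, (hX (semQuart o3.root, o3.orb.length) (by simp)).1,
    σ • semQuart o4.root, (hX (semQuart o4.root, o4.orb.length) (by simp)).1,
    ((hX (semQuart o1.root, o1.orb.length) (by simp)).2).trans n1,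
    ((hX (semQuart o2.root, o2.orb.length) (by simp)).2).trans n2,
    ((hX (semQuart o3.root, o3.orb.length) (by simp)).2).trans n3,
    ((hX (semQuart o4.root, o4.orb.length) (by simp)).2).trans n4, ?_⟩
  refine Set.Subset.antisymm (fun Y hY => ?_) ?_
  · rw [quartets_smul hσ] at hY
    obtain ⟨Z, hZ, rfl⟩ := hY
    obtain ⟨p, hp, hmem⟩ := hcov Z hZ
    simp only [List.mem_cons, List.not_mem_nil, or_false] at hp
    rcases hp with rfl | rfl | rfl | rfl | rfl
    · refine Or.inl (Or.inl (Or.inl (Or.inl ?_)))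
      obtain ⟨u, rfl⟩ := hmem
      show σ • (u : Equiv.Perm GolayPt) • semQuart o0.root = σ • stdQuart
      rw [hr0, semQuart_root, mem_stabilizer_iff.1 u.2.2]
    · exact Or.inl (Or.inl (Or.inl (Or.inr (by rw [key]; exact ⟨Z, hmem, rfl⟩))))
    · exact Or.inl (Or.inl (Or.inr (by rw [key]; exact ⟨Z, hmem, rfl⟩)))
    · exact Or.inl (Or.inr (by rw [key]; exact ⟨Z, hmem, rfl⟩))
    · exact Or.inr (by rw [key]; exact ⟨Z, hmem, rfl⟩)
  · have hsub : ∀ p ∈ [(semQuart o0.root, o0.orb.length), (semQuart o1.root, o1.orb.length),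
        (semQuart o2.root, o2.orb.length), (semQuart o3.root, o3.orb.length),
        (semQuart o4.root, o4.orb.length)],
        orbit ↥(stabilizer M24 (σ • setOf sqDod) ⊓ stabilizer M24 (σ • stdQuart)) (σ • p.1) ⊆
          quartets (σ • setOf sqDod) := fun p hp => by
      rw [key]
      rintro _ ⟨Z, hZ, rfl⟩
      exact smul_mem_quartets hσ ((hall p hp).2.1 hZ)
    refine Set.union_subset (Set.union_subset (Set.union_subset (Set.union_subset ?_
      (hsub (semQuart o1.root, o1.orb.length) (by simp)))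
      (hsub (semQuart o2.root, o2.orb.length) (by simp)))
      (hsub (semQuart o3.root, o3.orb.length) (by simp)))
      (hsub (semQuart o4.root, o4.orb.length) (by simp))
    exact Set.singleton_subset_iff.2 hQ

end

end Cfsg.Agent.Golay24.Suborbits
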