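import Cfsg.Agent.Lib.Golay.Suborbits.Quartet
import Cfsg.Agent.Lib.Golay.Suborbits.NormalPlane
import Cfsg.Agent.Lib.Golay.Conj

/-!
The action of a dodecad stabiliser on its quartets, and the stabiliser of one of them.
-/

set_option autoImplicit false

namespace Cfsg.Agent.Golay24.Suborbits

noncomputable section

open Cfsg MulAction
open scoped Pointwise

attribute [local irreducible] weightList codeList combTo

/-- The four masks of a name. -/
def quMem (x : ℕ) : List ℕ :=
  [x % 16777216, x / 16777216 % 16777216, x / 16777216 / 16777216 % 16777216,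
    x / 16777216 / 16777216 / 16777216]

/-- Insertion into an increasing list. -/
def quIns (a : ℕ) : List ℕ → List ℕ
  | [] => [a]
  | b :: l => bif Nat.ble a b then a :: b :: l else b :: quIns a l

/-- The name of a list of masks. -/
def quPack (l : List ℕ) : ℕ := l.foldr (fun a x => a + 16777216 * x) 0

/-- The action on names. -/
def quAct (g x : ℕ) : ℕ := quPack (((quMem x).map (img g)).foldr quIns [])

/-- The set named. -/
def semQuart (x : ℕ) : Finset (Finset GolayPt) := ((quMem x).map Golay24.setOf).toFinset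

/-- Names list increasing masks. -/
def quNameOk (x : ℕ) : Bool :=
  (fun l => Nat.blt (l.getD 0 0) (l.getD 1 0) && Nat.blt (l.getD 1 0) (l.getD 2 0) &&
    Nat.blt (l.getD 2 0) (l.getD 3 0) && Nat.blt (l.getD 3 0) 16777216) (quMem x)

theorem mem_quIns (a y : ℕ) : ∀ l : List ℕ, y ∈ quIns a l ↔ y = a ∨ y ∈ l
  | [] => by simp [quIns]
  | b :: l => by
    rw [quIns]
    cases Nat.ble a b <;> simp [mem_quIns a y l]
    tauto

theorem length_quIns (a : ℕ) : ∀ l : List ℕ, (quIns a l).length = l.length + 1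
  | [] => rfl
  | b :: l => by
    rw [quIns]
    cases Nat.ble a b <;> simp [length_quIns a l]

theorem mem_sort_four (l : List ℕ) (y : ℕ) : y ∈ l.foldr quIns [] ↔ y ∈ l := by
  induction l with
  | nil => simp
  | cons a l ih => simp [mem_quIns, ih]

theorem semQuart_act {g x : ℕ} (hg : inM24 g = true) :
    semQuart (quAct g x) = toPerm g • semQuart x := by
  have hv := valid_of_inM24 hg
  set s := ((quMem x).map (img g)).foldr quIns [] with hs
  have hmem : ∀ y, y ∈ s ↔ y ∈ (quMem x).map (img g) := mem_sort_four _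
  have hlen : s.length = 4 := by
    rw [hs]
    simp [quMem, length_quIns]
  have hlt : ∀ y ∈ s, y < 16777216 := fun y hy => by
    obtain ⟨m, -, rfl⟩ := List.mem_map.1 ((hmem y).1 hy)
    exact img_lt hv m
  have hq : quMem (quPack s) = s := by
    match s, hlen, hlt with
    | [a, b, c, d], _, h =>
      have := h a (by simp); have := h b (by simp); have := h c (by simp); have := h d (by simp)
      simp only [quMem, quPack, List.foldr_cons, List.foldr_nil, List.cons.injEq, and_true]
      refine ⟨?_, ?_, ?_, ?_⟩ <;> omega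
  rw [show quAct g x = quPack s from rfl, semQuart, semQuart, hq]
  ext z
  simp only [List.mem_toFinset, List.mem_map, Finset.mem_smul_finset]
  constructor
  · rintro ⟨y, hy, rfl⟩
    obtain ⟨m, hm, rfl⟩ := List.mem_map.1 ((hmem y).1 hy)
    exact ⟨_, ⟨m, hm, rfl⟩, smul_setOf hv m⟩
  · rintro ⟨_, ⟨m, hm, rfl⟩, rfl⟩
    exact ⟨_, (hmem _).2 (List.mem_map.2 ⟨m, hm, rfl⟩), (smul_setOf hv m).symm⟩

theorem semQuart_inj {x y : ℕ} (hx : quNameOk x = true) (hy : quNameOk y = true)
    (h : semQuart x = semQuart y) : x = y := by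
  have key : ∀ z, quNameOk z = true →
      (quMem z).Pairwise (· < ·) ∧ (∀ m ∈ quMem z, m < 2 ^ 24) ∧ quPack (quMem z) = z := by
    intro z hz
    simp only [quNameOk, quMem, List.getD_cons_zero, List.getD_cons_succ, Bool.and_eq_true,
      Nat.blt_eq] at hz
    refine ⟨?_, ?_, ?_⟩
    · simp [quMem]; omega
    · intro m hm
      simp only [quMem, List.mem_cons, List.not_mem_nil, or_false] at hm
      rcases hm with rfl | rfl | rfl | rfl <;> omega
    · simp only [quMem, quPack, List.foldr_cons, List.foldr_nil]; omega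
  obtain ⟨sx, lx, ex⟩ := key x hx
  obtain ⟨sy, ly, ey⟩ := key y hy
  have hset : ∀ m, m ∈ quMem x ↔ m ∈ quMem y := by
    intro m
    constructor
    · intro hm
      have : Golay24.setOf m ∈ semQuart y := h ▸ List.mem_toFinset.2 (List.mem_map.2 ⟨m, hm, rfl⟩)
      obtain ⟨u, hu, he⟩ := List.mem_map.1 (List.mem_toFinset.1 this)
      exact setOf_inj (ly u hu) (lx m hm) he ▸ hu
    · intro hm
      have : Golay24.setOf m ∈ semQuart x := h.symm ▸ List.mem_toFinset.2 (List.mem_map.2 ⟨m, hm, rfl⟩)
      obtain ⟨u, hu, he⟩ := List.mem_map.1 (List.mem_toFinset.1 this)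
      exact setOf_inj (lx u hu) (ly m hm) he ▸ hu
  rw [← ex, ← ey, List.Perm.eq_of_pairwise (fun a b _ _ h1 h2 => absurd h2 (not_lt.2 (le_of_lt h1))) sx sy
    ((List.perm_ext_iff_of_nodup (sx.imp ne_of_lt) (sy.imp ne_of_lt)).2 hset)]

theorem quCert_ok : (quCert.ok quAct m12Cert.gens 96 && quCert.orb.all quNameOk &&
    (quCert.orb.length == 220) && (quCert.root == quPack ([quT, quU, quV, quW].foldr quIns []))) = true := by
  decide +kernel

theorem semQuart_root : semQuart quCert.root = stdQuart := by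
  have h := quCert_ok
  simp only [Bool.and_eq_true, beq_iff_eq] at h
  rw [h.2]
  have e : quMem (quPack ([quT, quU, quV, quW].foldr quIns [])) = [quT, quU, quV, quW].foldr quIns [] := by
    decide +kernel
  rw [semQuart, e, stdQuart]
  ext z
  simp [mem_quIns]
  constructor <;> rintro (h | h | h | h) <;> simp [h]

theorem M12_eq_closure : Spor.M12 = Subgroup.closure {τ | ∃ g ∈ m12Cert.gens, toPerm g = τ} :=
  m12_grp.symm

theorem m12_gens_inM24 {g : ℕ} (hg : g ∈ m12Cert.gens) : inM24 g = true := by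
  have h := m12Cert_ok
  simp only [Bool.and_eq_true, GenCert.ok, List.all_eq_true] at h
  exact h.1.1.1.1.1.1.1 g hg

theorem semQuart_injOn : Set.InjOn semQuart {x | x ∈ quCert.orb} := by
  have h := quCert_ok
  simp only [Bool.and_eq_true, List.all_eq_true] at h
  exact fun x hx y hy e => semQuart_inj (h.1.1.2 x hx) (h.1.1.2 y hy) e

theorem mem_M12_of_fix {g : Equiv.Perm GolayPt} (hg : g ∈ M24) (h : g • setOf sqDod = setOf sqDod) :
    g ∈ Spor.M12 := ⟨hg, by show g • _ = _; rw [← setOf_sqDod]; exact h⟩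

theorem M12_fix {g : Equiv.Perm GolayPt} (hg : g ∈ Spor.M12) : g • setOf sqDod = setOf sqDod := by
  rw [setOf_sqDod]; exact hg.2

theorem quartets_std : quartets (setOf sqDod) = semQuart '' {x | x ∈ quCert.orb} ∧
    orbit Spor.M12 stdQuart = quartets (setOf sqDod) := by
  have h := quCert_ok
  simp only [Bool.and_eq_true] at h
  have hcl := quCert.orbit_eq h.1.1.1 (fun g hg => m12_gens_inM24 hg) (sem := semQuart)
    (fun g hg x _ => semQuart_act hg) M12_eq_closure
  rw [semQuart_root] at hcl
  have hsq : setOf sqDod ∈ dodecads := by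
    have h : (weightList 12).contains sqDod = true := by decide +kernel
    rw [List.contains_iff_mem] at h
    rw [mem_dodecads_iff, maskOf_setOf (weightList_lt h)]
    exact h
  have e : orbit Spor.M12 stdQuart = quartets (setOf sqDod) := by
    ext Q
    constructor
    · rintro ⟨g, rfl⟩
      have := smul_mem_quartets g.2.1 stdQuart_mem
      rwa [M12_fix g.2] at this
    · intro hQ
      obtain ⟨g, hg, hgd, hgQ⟩ := exists_quart_map hsq hQ
      exact ⟨⟨g, mem_M12_of_fix hg hgd⟩, hgQ⟩
  exact ⟨e ▸ hcl, e⟩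

theorem quartets_std_ncard : (quartets (setOf sqDod)).ncard = 220 := by
  have h := quCert_ok
  simp only [Bool.and_eq_true, beq_iff_eq] at h
  rw [quartets_std.1, quCert.ncard_image h.1.1.1 semQuart_injOn, h.1.2]

theorem quartets_smul {σ : Equiv.Perm GolayPt} (hσ : σ ∈ M24) (d : Finset GolayPt) :
    quartets (σ • d) = (σ • ·) '' quartets d := by
  ext Q
  constructor
  · intro hQ
    have := smul_mem_quartets (M24.inv_mem hσ) hQ
    rw [inv_smul_smul] at this
    exact ⟨_, this, smul_inv_smul _ _⟩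
  · rintro ⟨R, hR, rfl⟩
    exact smul_mem_quartets hσ hR

theorem quartets_count {d : Finset GolayPt} (hd : d ∈ dodecads) :
    (quartets d).ncard = 220 ∧ ∀ Q ∈ quartets d, ∀ Q' ∈ quartets d,
      ∃ g : Equiv.Perm GolayPt, g ∈ M24 ∧ g • d = d ∧ g • Q = Q' := by
  obtain ⟨σ, hσ, hσd⟩ := exists_sqDod_map hd
  refine ⟨?_, fun Q hQ Q' hQ' => ?_⟩
  · rw [← hσd, quartets_smul hσ, Set.ncard_image_of_injective _ (MulAction.injective σ),
      quartets_std_ncard]
  · obtain ⟨a, ha, had, haQ⟩ := exists_quart_map hd hQ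
    obtain ⟨b, hb, hbd, hbQ⟩ := exists_quart_map hd hQ'
    refine ⟨b * a⁻¹, M24.mul_mem hb (M24.inv_mem ha), ?_, ?_⟩
    · rw [mul_smul, inv_smul_eq_iff.2 had.symm, hbd]
    · rw [mul_smul, inv_smul_eq_iff.2 haQ.symm, hbQ]

/-! ### The stabiliser of the standard quartet -/

/-- The joint stabiliser. -/
abbrev quartGrp : Subgroup (Equiv.Perm GolayPt) :=
  Spor.M12 ⊓ stabilizer (Equiv.Perm GolayPt) stdQuart

theorem card_quartGrp : Nat.card quartGrp = 432 := by
  refine card_inf_stabilizer (S := quartets (setOf sqDod)) Spor.M12 stdQuart (n := 220) stdQuart_mem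
    (fun g hg Q hQ => ?_) (fun Q hQ => ?_) quartets_std_ncard card_M12 (by norm_num)
  · have := smul_mem_quartets hg.1 hQ
    rwa [M12_fix hg] at this
  · rw [← quartets_std.2] at hQ
    obtain ⟨g, hg⟩ := hQ
    exact ⟨g, g.2, hg⟩

theorem quGens_ok : (quGens.all fun g => inM24 g && (img g sqDod == sqDod) &&
    (quAct g quCert.root == quCert.root)) = true := by decide +kernel

theorem quStab_ok : ((quStab.all fun x => validP x && (compP x idP == x)) &&
    decide quStab.Nodup && (quStab.length == 432) && (quStab.getD 0 0 == idP) &&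
    (quStabTree.length + 1 == quStab.length) &&
    ((quStabTree.zip (List.range 432)).all fun e => Nat.ble e.1.1 e.2 && Nat.blt e.1.2 quGens.length &&
      (compP (quGens.getD e.1.2 0) (quStab.getD e.1.1 0) == quStab.getD (e.2 + 1) 0))) = true := by
  decide +kernel

theorem quStab_props : (∀ x ∈ quStab, validP x = true ∧
    toPerm x ∈ Subgroup.closure {τ | ∃ g ∈ quGens, toPerm g = τ}) := by
  have h := quStab_ok
  simp only [Bool.and_eq_true, List.all_eq_true, beq_iff_eq, Nat.ble_eq, Nat.blt_eq] at h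
  obtain ⟨⟨⟨⟨⟨hval, -⟩, hlen⟩, h0⟩, htl⟩, htree⟩ := h
  have key : ∀ i, i < quStab.length →
      toPerm (quStab.getD i 0) ∈ Subgroup.closure {τ | ∃ g ∈ quGens, toPerm g = τ} := by
    intro i
    induction i using Nat.strong_induction_on with
    | _ i ih =>
      intro hi
      cases i with
      | zero => rw [h0, toPerm_idP]; exact Subgroup.one_mem _
      | succ k =>
        have hk : k < quStabTree.length := by omega
        obtain ⟨⟨hj, hgl⟩, he⟩ := htree (quStabTree[k], k)
          (List.mem_iff_getElem.2 ⟨k, by simp; omega, by simp⟩)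
        have hj' : quStabTree[k].1 ≤ k := hj
        have hmemj : quStab.getD quStabTree[k].1 0 ∈ quStab := by
          rw [List.getD_eq_getElem _ _ (by omega)]; exact List.getElem_mem _
        have hgm : quGens.getD quStabTree[k].2 0 ∈ quGens := by
          rw [List.getD_eq_getElem _ _ hgl]; exact List.getElem_mem _
        have hg := quGens_ok
        simp only [List.all_eq_true, Bool.and_eq_true] at hg
        rw [← he, toPerm_compP (valid_of_inM24 (hg _ hgm).1.1) (hval _ hmemj).1]
        exact Subgroup.mul_mem _ (Subgroup.subset_closure ⟨_, hgm, rfl⟩) (ih _ (by omega) (by omega))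
  intro x hx
  obtain ⟨i, hi, rfl⟩ := List.mem_iff_getElem.1 hx
  have hk := key i hi
  rw [List.getD_eq_getElem _ _ hi] at hk
  exact ⟨(hval _ hx).1, hk⟩

theorem quGens_le : Subgroup.closure {τ | ∃ g ∈ quGens, toPerm g = τ} ≤ quartGrp := by
  rw [Subgroup.closure_le]
  rintro _ ⟨g, hg, rfl⟩
  have h := quGens_ok
  simp only [List.all_eq_true, Bool.and_eq_true, beq_iff_eq] at h
  obtain ⟨⟨hM, hd⟩, hq⟩ := h g hg
  refine ⟨mem_M12_of_fix (toPerm_mem_M24 hM) (by rw [smul_setOf (valid_of_inM24 hM), hd]), ?_⟩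
  show toPerm g • stdQuart = stdQuart
  rw [← semQuart_root, ← semQuart_act hM, hq]

theorem quartGrp_eq : quartGrp = Subgroup.closure {τ | ∃ g ∈ quGens, toPerm g = τ} ∧
    ∀ g ∈ quartGrp, ∃ x ∈ quStab, toPerm x = g := by
  classical
  have h := quStab_ok
  simp only [Bool.and_eq_true, List.all_eq_true, beq_iff_eq, decide_eq_true_eq] at h
  obtain ⟨⟨⟨⟨⟨hval, hnd⟩, hlen⟩, -⟩, -⟩, -⟩ := h
  have hinj : Set.InjOn toPerm {x | x ∈ quStab} := fun a ha b hb e =>
    toPerm_inj (hval a ha).1 (hval b hb).1 (hval a ha).2 (hval b hb).2 e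
  have hsub : toPerm '' {x | x ∈ quStab} ⊆ (quartGrp : Set (Equiv.Perm GolayPt)) := by
    rintro _ ⟨x, hx, rfl⟩
    exact quGens_le (quStab_props x hx).2
  have heq : toPerm '' {x | x ∈ quStab} = (quartGrp : Set (Equiv.Perm GolayPt)) := by
    refine Set.eq_of_subset_of_ncard_le hsub ?_ (Set.toFinite _)
    rw [hinj.ncard_image, show {x | x ∈ quStab} = (↑quStab.toFinset : Set ℕ) by ext; simp, Set.ncard_coe_finset,
      List.toFinset_card_of_nodup hnd, hlen, ← card_quartGrp]
    exact le_of_eq (Nat.card_coe_set_eq _).symm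
  have hlist : ∀ g ∈ quartGrp, ∃ x ∈ quStab, toPerm x = g := fun g hg => heq.symm.subset hg
  refine ⟨le_antisymm (fun g hg => ?_) quGens_le, hlist⟩
  obtain ⟨x, hx, rfl⟩ := hlist g hg
  exact (quStab_props x hx).2

/-- Powers of a generator of the normal plane. -/
def quPw (n : ℕ) (i : ZMod 3) : ℕ := [idP, n, compP n n].getD i.val 0

/-- The code of a vector of the plane. -/
def quVec (v : Fin 2 → ZMod 3) : ℕ := compP (quPw quN1 (v 0)) (quPw quN2 (v 1))

theorem quVec_ok : (∀ v w : Fin 2 → ZMod 3, compP (quVec v) (quVec w) = quVec (v + w)) ∧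
    (∀ v, quVec v ∈ quStab ∧ (quVec v = idP → v = 0)) ∧
    (∀ g ∈ quGens, ∀ v : Fin 2 → ZMod 3, ∃ w : Fin 2 → ZMod 3,
      compP g (quVec v) = compP (quVec w) g) ∧
    (∀ x ∈ quStab, compP x quN1 = compP quN1 x ∧ compP x quN2 = compP quN2 x →
      ∃ v : Fin 2 → ZMod 3, quVec v = x) ∧
    quVec ![1, 0] = quN1 ∧ quVec ![0, 1] = quN2 := by
  decide +kernel

/-- The normal plane. -/
def quPlane : Multiplicative (Fin 2 → ZMod 3) →* quartGrp :=
  MonoidHom.mk' (fun v => ⟨toPerm (quVec (Multiplicative.toAdd v)),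
      quGens_le (quStab_props _ (quVec_ok.2.1 _).1).2⟩) fun v w => Subtype.ext (by
    show toPerm (quVec (Multiplicative.toAdd v + Multiplicative.toAdd w)) = _
    rw [← quVec_ok.1, toPerm_compP (quStab_props _ (quVec_ok.2.1 _).1).1
      (quStab_props _ (quVec_ok.2.1 _).1).1]
    rfl)

theorem quPlane_injective : Function.Injective quPlane := by
  refine (injective_iff_map_eq_one quPlane).2 fun v hv => ?_
  have hmem := (quVec_ok.2.1 (Multiplicative.toAdd v)).1
  have h := quStab_ok
  simp only [Bool.and_eq_true, List.all_eq_true, beq_iff_eq] at h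
  have hid : idP ∈ quStab := by
    rw [← h.1.1.2, List.getD_eq_getElem _ _ (by have := h.1.1.1.2; omega)]
    exact List.getElem_mem _
  have he : toPerm (quVec (Multiplicative.toAdd v)) = toPerm idP :=
    (congrArg Subtype.val hv).trans toPerm_idP.symm
  have := toPerm_inj (h.1.1.1.1.1 _ hmem).1 (h.1.1.1.1.1 _ hid).1 (h.1.1.1.1.1 _ hmem).2
    (h.1.1.1.1.1 _ hid).2 he
  exact congrArg Multiplicative.ofAdd ((quVec_ok.2.1 _).2 this)

theorem quPlane_normal : quPlane.range.Normal := by
  refine ⟨fun n hn a => ?_⟩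
  obtain ⟨v, rfl⟩ := hn
  have key : ∀ g ∈ Subgroup.closure {τ | ∃ g ∈ quGens, toPerm g = τ}, ∀ v : Fin 2 → ZMod 3,
      ∃ w : Fin 2 → ZMod 3, g * toPerm (quVec v) = toPerm (quVec w) * g := by
    intro g hg
    rw [← SetLike.mem_coe, ← Subgroup.coe_toSubmonoid, Subgroup.closure_toSubmonoid_of_finite,
      SetLike.mem_coe] at hg
    induction hg using Submonoid.closure_induction with
    | mem x hx =>
      obtain ⟨g, hgm, rfl⟩ := hx
      intro v
      obtain ⟨w, hw⟩ := quVec_ok.2.2.1 g hgm v
      have hok := quGens_ok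
      simp only [List.all_eq_true, Bool.and_eq_true] at hok
      have hgv := valid_of_inM24 (hok g hgm).1.1
      exact ⟨w, by rw [← toPerm_compP hgv (quStab_props _ (quVec_ok.2.1 v).1).1,
        ← toPerm_compP (quStab_props _ (quVec_ok.2.1 w).1).1 hgv, hw]⟩
    | one => exact fun v => ⟨v, by simp⟩
    | mul x y _ _ hx hy =>
      intro v
      obtain ⟨w, hw⟩ := hy v
      obtain ⟨u, hu⟩ := hx w
      exact ⟨u, by rw [mul_assoc, hw, ← mul_assoc, hu, mul_assoc]⟩
  obtain ⟨w, hw⟩ := key (a : Equiv.Perm GolayPt) (quartGrp_eq.1.le a.2) (Multiplicative.toAdd v)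
  refine ⟨Multiplicative.ofAdd w, Subtype.ext ?_⟩
  show toPerm (quVec w) = (a : Equiv.Perm GolayPt) * toPerm (quVec (Multiplicative.toAdd v)) * (a : Equiv.Perm GolayPt)⁻¹
  rw [hw, mul_inv_cancel_right]

theorem toPerm_comm_code {a b : ℕ} (ha : validP a = true) (hb : validP b = true)
    (h : toPerm a * toPerm b = toPerm b * toPerm a) : compP a b = compP b a := by
  have key : ∀ i : Fin 24, app a (app b i) = app b (app a i) := fun i => by
    have e := congrArg (fun σ : Equiv.Perm GolayPt => (idx (σ (pt i)) : ℕ)) h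
    simpa [idx_toPerm ha, idx_toPerm hb, idx_pt] using e
  have main : ∀ n ≤ 24, compTo a b n = compTo b a n := by
    intro n
    induction n with
    | zero => intro _; rfl
    | succ m ih =>
      intro hm
      show Nat.lor (Nat.shiftLeft (app a (app b m)) (5 * m)) (compTo a b m) = _
      rw [key ⟨m, by omega⟩, ih (by omega)]
      rfl
  exact main 24 le_rfl

theorem quPlane_cent (g : quartGrp) (h : ∀ v, g * quPlane v = quPlane v * g) :
    g ∈ quPlane.range := by
  obtain ⟨x, hx, he⟩ := quartGrp_eq.2 g g.2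
  have hxv := (quStab_props x hx).1
  have hc : ∀ v : Fin 2 → ZMod 3, compP x (quVec v) = compP (quVec v) x := fun v => by
    have hvv := (quStab_props _ (quVec_ok.2.1 v).1).1
    have e := congrArg Subtype.val (h (Multiplicative.ofAdd v))
    refine toPerm_comm_code hxv hvv ?_
    rw [he]
    exact e
  obtain ⟨v, hv⟩ := quVec_ok.2.2.2.1 x hx ⟨quVec_ok.2.2.2.2.1 ▸ hc _, quVec_ok.2.2.2.2.2 ▸ hc _⟩
  exact ⟨Multiplicative.ofAdd v, Subtype.ext (show toPerm (quVec v) = _ by rw [hv, he])⟩

end

end Cfsg.Agent.Golay24.Suborbits
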