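import Cfsg.Agent.Lib.Golay.Suborbits.QuartData
import Cfsg.Agent.Lib.Golay.Suborbits.Hexad

/-!
Quartets of a dodecad: four triples of which any two make a hexad.
-/

set_option autoImplicit false

namespace Cfsg.Agent.Golay24.Suborbits

noncomputable section

open Cfsg MulAction
open scoped Pointwise

attribute [local irreducible] weightList codeList combTo

theorem hexList_eq : (((weightList 8).map fun o => Nat.land o sqDod).filter fun m => pop24 m == 6) =
    hexList := by decide +kernel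

theorem mem_hexadsOn_std {C : Finset GolayPt} :
    C ∈ hexadsOn (setOf sqDod) ↔ maskOf C ∈ hexList := by
  simp only [hexadsOn, Set.mem_ofPred_eq, ← hexList_eq, List.mem_filter, List.mem_map, beq_iff_eq,
    ← card_eq_pop24]
  constructor
  · rintro ⟨hc, o, ho, rfl⟩
    refine ⟨⟨maskOf o, mem_octads_iff.1 ho, ?_⟩, hc⟩
    have e : setOf (Nat.land (maskOf o) sqDod) = o ∩ setOf sqDod := by
      show setOf (maskOf o &&& sqDod) = _
      rw [setOf_land, setOf_maskOf]
    rw [← e]
    exact (maskOf_setOf (lt_of_le_of_lt Nat.and_le_left (maskOf_lt o))).symm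
  · rintro ⟨⟨m, hm, he⟩, hc⟩
    refine ⟨hc, setOf m, mem_octads_iff.2 (by rw [maskOf_setOf (weightList_lt hm)]; exact hm), ?_⟩
    rw [← setOf_maskOf C, ← he, show Nat.land m sqDod = m &&& sqDod from rfl, setOf_land]

theorem smul_mem_hexadsOn {g : Equiv.Perm GolayPt} (hg : g ∈ M24) {d C : Finset GolayPt}
    (hC : C ∈ hexadsOn d) : g • C ∈ hexadsOn (g • d) := by
  obtain ⟨hc, o, ho, rfl⟩ := hC
  exact ⟨(Finset.card_smul_finset g _).trans hc, g • o, smul_mem_octads hg ho,
    (Finset.smul_finset_inter).symm⟩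

theorem smul_mem_quartets {g : Equiv.Perm GolayPt} (hg : g ∈ M24) {d : Finset GolayPt}
    {Q : Finset (Finset GolayPt)} (hQ : Q ∈ quartets d) : g • Q ∈ quartets (g • d) := by
  refine ⟨(Finset.card_smul_finset g Q).trans hQ.1, fun t ht => ?_, fun t ht u hu hne => ?_⟩
  · obtain ⟨s, hs, rfl⟩ := Finset.mem_smul_finset.1 ht
    exact ⟨(Finset.card_smul_finset g s).trans (hQ.2.1 s hs).1,
      Finset.smul_finset_subset_smul_finset (hQ.2.1 s hs).2⟩
  · obtain ⟨s, hs, rfl⟩ := Finset.mem_smul_finset.1 ht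
    obtain ⟨r, hr, rfl⟩ := Finset.mem_smul_finset.1 hu
    rw [← Finset.smul_finset_union]
    exact smul_mem_hexadsOn hg (hQ.2.2 s hs r hr fun e => hne (by rw [e]))

theorem quart_disjoint {d : Finset GolayPt} {Q : Finset (Finset GolayPt)} (hQ : Q ∈ quartets d)
    {t u : Finset GolayPt} (ht : t ∈ Q) (hu : u ∈ Q) (hne : t ≠ u) : Disjoint t u := by
  rw [← Finset.card_union_eq_card_add_card, (hQ.2.2 t ht u hu hne).1, (hQ.2.1 t ht).1, (hQ.2.1 u hu).1]

theorem quNum : (pop24 quT = 3 ∧ pop24 quU = 3 ∧ pop24 quV = 3 ∧ pop24 quW = 3) ∧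
    (quT < 2 ^ 24 ∧ quU < 2 ^ 24 ∧ quV < 2 ^ 24 ∧ quW < 2 ^ 24) ∧
    (Nat.lor quT quU ∈ hexList ∧ Nat.lor quT quV ∈ hexList ∧ Nat.lor quT quW ∈ hexList ∧
      Nat.lor quU quV ∈ hexList ∧ Nat.lor quU quW ∈ hexList ∧ Nat.lor quV quW ∈ hexList) ∧
    (Nat.land quT sqDod = quT ∧ Nat.land quU sqDod = quU ∧ Nat.land quV sqDod = quV ∧
      Nat.land quW sqDod = quW) ∧
    Nat.land quT quU = 0 ∧
    (hexList.all fun h => !(Nat.land h quT == quT) ||
      !(Nat.land (Nat.xor h quT) quU == 0) || !(hexList.contains (Nat.lor (Nat.xor h quT) quU)) ||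
      (Nat.xor h quT == quV) || (Nat.xor h quT == quW)) = true := by decide +kernel

/-- The standard quartet. -/
def stdQuart : Finset (Finset GolayPt) := {setOf quT, setOf quU, setOf quV, setOf quW}

theorem stdQuart_mem : stdQuart ∈ quartets (setOf sqDod) := by
  obtain ⟨⟨p1, p2, p3, p4⟩, ⟨l1, l2, l3, l4⟩, ⟨h12, h13, h14, h23, h24, h34⟩, ⟨s1, s2, s3, s4⟩, -, -⟩ :=
    quNum
  have hx : ∀ {a b : ℕ}, a < 2 ^ 24 → b < 2 ^ 24 → Nat.lor a b ∈ hexList →
      setOf a ∪ setOf b ∈ hexadsOn (setOf sqDod) := by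
    intro a b ha hb h
    rw [mem_hexadsOn_std, ← setOf_lor, maskOf_setOf (Nat.or_lt_two_pow ha hb)]
    exact h
  have hs : ∀ {a : ℕ}, Nat.land a sqDod = a → setOf a ⊆ setOf sqDod := by
    intro a h
    conv_lhs => rw [← h, show Nat.land a sqDod = a &&& sqDod from rfl, setOf_land]
    exact Finset.inter_subset_right
  have hne : ∀ {a b : ℕ}, pop24 a = 3 → pop24 b = 3 →
      setOf a ∪ setOf b ∈ hexadsOn (setOf sqDod) → setOf a ≠ setOf b := by
    intro a b pa _ h e
    have := h.1
    rw [e, Finset.union_self, ← e, card_setOf, pa] at this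
    omega
  refine ⟨Finset.card_eq_four.2 ⟨_, _, _, _, hne p1 p2 (hx l1 l2 h12), hne p1 p3 (hx l1 l3 h13),
    hne p1 p4 (hx l1 l4 h14), hne p2 p3 (hx l2 l3 h23), hne p2 p4 (hx l2 l4 h24),
    hne p3 p4 (hx l3 l4 h34), rfl⟩, ?_, ?_⟩
  · intro z hz
    simp only [stdQuart, Finset.mem_insert, Finset.mem_singleton] at hz
    rcases hz with rfl | rfl | rfl | rfl
    exacts [⟨by rw [card_setOf, p1], hs s1⟩, ⟨by rw [card_setOf, p2], hs s2⟩,
      ⟨by rw [card_setOf, p3], hs s3⟩, ⟨by rw [card_setOf, p4], hs s4⟩]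
  · intro x hx' y hy hxy
    simp only [stdQuart, Finset.mem_insert, Finset.mem_singleton] at hx' hy
    have hsym : ∀ {a b : Finset GolayPt}, a ∪ b ∈ hexadsOn (setOf sqDod) →
        b ∪ a ∈ hexadsOn (setOf sqDod) := fun h => by rwa [Finset.union_comm]
    rcases hx' with rfl | rfl | rfl | rfl <;> rcases hy with rfl | rfl | rfl | rfl
    exacts [absurd rfl hxy, hx l1 l2 h12, hx l1 l3 h13, hx l1 l4 h14,
      hsym (hx l1 l2 h12), absurd rfl hxy, hx l2 l3 h23, hx l2 l4 h24,
      hsym (hx l1 l3 h13), hsym (hx l2 l3 h23), absurd rfl hxy, hx l3 l4 h34,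
      hsym (hx l1 l4 h14), hsym (hx l2 l4 h24), hsym (hx l3 l4 h34), absurd rfl hxy]

theorem std_quart_unique {Q : Finset (Finset GolayPt)} (hQ : Q ∈ quartets (setOf sqDod))
    (ht : setOf quT ∈ Q) (hu : setOf quU ∈ Q) : Q = stdQuart := by
  obtain ⟨⟨p1, -, -, -⟩, ⟨l1, l2, -, -⟩, -, -, h0, hall⟩ := quNum
  have htu : setOf quT ≠ setOf quU := by
    intro e
    have : (setOf quT ∩ setOf quU).card = 0 := by
      rw [← setOf_land, card_setOf, show quT &&& quU = 0 from h0]; decide +kernel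
    rw [← e, Finset.inter_self, card_setOf, p1] at this
    omega
  refine Finset.eq_of_subset_of_card_le (fun x hx => ?_) ?_
  · by_cases hxt : x = setOf quT
    · simp [stdQuart, hxt]
    by_cases hxu : x = setOf quU
    · simp [stdQuart, hxu]
    have hd1 := quart_disjoint hQ hx ht hxt
    have hd2 := quart_disjoint hQ hx hu hxu
    have h1 := mem_hexadsOn_std.1 (hQ.2.2 x hx _ ht hxt)
    have h2 := mem_hexadsOn_std.1 (hQ.2.2 x hx _ hu hxu)
    set h := maskOf (x ∪ setOf quT) with hh
    have hset : setOf h = x ∪ setOf quT := setOf_maskOf _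
    have hsub : Nat.land h quT = quT := by
      have e : setOf (h &&& quT) = setOf quT := by
        rw [setOf_land, hset]; exact Finset.inter_eq_right.2 Finset.subset_union_right
      exact setOf_inj (lt_of_le_of_lt Nat.and_le_left (maskOf_lt _)) l1 e
    have hxset : setOf (Nat.xor h quT) = x := by
      rw [show Nat.xor h quT = h ^^^ quT from rfl, setOf_xor, hset]
      rw [Finset.union_comm, ← hd1.symm.symmDiff_eq_sup.trans Finset.sup_eq_union, symmDiff_comm,
        ← symmDiff_assoc, symmDiff_self]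
      exact bot_symmDiff x
    have hxlt : Nat.xor h quT < 2 ^ 24 := Nat.xor_lt_two_pow (maskOf_lt _) l1
    have hdis : Nat.land (Nat.xor h quT) quU = 0 := by
      refine setOf_inj (lt_of_le_of_lt Nat.and_le_left hxlt) (by norm_num) ?_
      rw [show Nat.land (Nat.xor h quT) quU = Nat.xor h quT &&& quU from rfl, setOf_land, hxset,
        Finset.disjoint_iff_inter_eq_empty.1 hd2, setOf_zero]
    have hmem : hexList.contains (Nat.lor (Nat.xor h quT) quU) = true := by
      rw [List.contains_iff_mem,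
        show Nat.lor (Nat.xor h quT) quU = maskOf (x ∪ setOf quU) from
          setOf_inj (Nat.or_lt_two_pow hxlt l2) (maskOf_lt _) (by
            rw [setOf_maskOf, show Nat.lor (Nat.xor h quT) quU = Nat.xor h quT ||| quU from rfl,
              setOf_lor, hxset])]
      exact h2
    have := List.all_eq_true.1 hall h h1
    simp only [hsub, hdis, hmem, BEq.rfl, Bool.not_true, Bool.false_or, Bool.or_eq_true,
      beq_iff_eq] at this
    rcases this with e | e <;> rw [← hxset, e] <;> simp [stdQuart]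
  · rw [hQ.1]
    exact Finset.card_le_four

theorem exists_triple_map {d : Finset GolayPt} (hd : d ∈ dodecads) {t u : Finset GolayPt}
    (ht : t.card = 3) (hu : u.card = 3) (htu : Disjoint t u) (hh : t ∪ u ∈ hexadsOn d) :
    ∃ g ∈ M24, g • setOf sqDod = d ∧ g • setOf quT = t ∧ g • setOf quU = u := by
  obtain ⟨σ, hσ, hσd⟩ := exists_sqDod_map hd
  obtain ⟨⟨pT, pU, -, -⟩, ⟨lT, lU, -, -⟩, ⟨hTU, -⟩, -, h0, -⟩ := quNum
  have hT : (setOf quT).card = 3 := by rw [card_setOf, pT]
  have hU : (setOf quU).card = 3 := by rw [card_setOf, pU]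
  have hdTU : Disjoint (setOf quT) (setOf quU) := by
    rw [Finset.disjoint_iff_inter_eq_empty, ← setOf_land, show quT &&& quU = 0 from h0, setOf_zero]
  have hH0 : setOf quT ∪ setOf quU ∈ hexadsOn (setOf sqDod) := by
    rw [mem_hexadsOn_std, ← setOf_lor, maskOf_setOf (Nat.or_lt_two_pow lT lU)]
    exact hTU
  have hH0' := smul_mem_hexadsOn hσ hH0
  rw [hσd, Finset.smul_finset_union] at hH0'
  obtain ⟨v, hv, hvc⟩ := Finset.exists_subset_card_eq (by omega : 2 ≤ u.card)
  obtain ⟨w, hw, hwc⟩ := Finset.exists_subset_card_eq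
    (by rw [Finset.card_smul_finset, hU]; norm_num : 2 ≤ (σ • setOf quU).card)
  have hT' : (σ • setOf quT).card = 3 := by rw [Finset.card_smul_finset, hT]
  have hd' : Disjoint (σ • setOf quT) (σ • setOf quU) := by
    rw [Finset.disjoint_iff_inter_eq_empty, ← Finset.smul_finset_inter,
      Finset.disjoint_iff_inter_eq_empty.1 hdTU, Finset.smul_finset_empty]
  have emb : ∀ (a b : Finset GolayPt), a.card = 3 → b.card = 2 → Disjoint a b →
      ∃ x : Fin 5 ↪ GolayPt, Finset.univ.map x = a ∪ b ∧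
        (∀ i : Fin 3, x (Fin.castAdd 2 i) ∈ a) ∧ ∀ j : Fin 2, x (Fin.natAdd 3 j) ∈ b := by
    intro a b ha hb hab
    let f : Fin 3 ⊕ Fin 2 → GolayPt :=
      Sum.elim (fun i => ((a.equivFinOfCardEq ha).symm i : GolayPt))
        (fun j => ((b.equivFinOfCardEq hb).symm j : GolayPt))
    have hf : Function.Injective f := by
      rintro (i | i) (j | j) e
      · exact congrArg Sum.inl ((a.equivFinOfCardEq ha).symm.injective (Subtype.ext e))
      · refine (Finset.disjoint_left.1 hab ((a.equivFinOfCardEq ha).symm i).2 ?_).elim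
        have e' : ((a.equivFinOfCardEq ha).symm i : GolayPt) = ((b.equivFinOfCardEq hb).symm j : GolayPt) := e
        rw [e']; exact Subtype.prop _
      · refine (Finset.disjoint_left.1 hab ((a.equivFinOfCardEq ha).symm j).2 ?_).elim
        have e' : ((b.equivFinOfCardEq hb).symm i : GolayPt) = ((a.equivFinOfCardEq ha).symm j : GolayPt) := e
        rw [← e']; exact Subtype.prop _
      · exact congrArg Sum.inr ((b.equivFinOfCardEq hb).symm.injective (Subtype.ext e))
    let x : Fin 5 ↪ GolayPt := finSumFinEquiv.symm.toEmbedding.trans ⟨f, hf⟩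
    have h1 : ∀ i : Fin 3, x (Fin.castAdd 2 i) ∈ a := fun i => by
      show f (finSumFinEquiv.symm (Fin.castAdd 2 i)) ∈ a
      rw [finSumFinEquiv_symm_apply_castAdd]; exact Subtype.prop _
    have h2 : ∀ j : Fin 2, x (Fin.natAdd 3 j) ∈ b := fun j => by
      show f (finSumFinEquiv.symm (Fin.natAdd 3 j)) ∈ b
      rw [finSumFinEquiv_symm_apply_natAdd]; exact Subtype.prop _
    refine ⟨x, Finset.eq_of_subset_of_card_le (fun z hz => ?_) ?_, h1, h2⟩
    · obtain ⟨i, -, rfl⟩ := Finset.mem_map.1 hz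
      obtain ⟨k, rfl⟩ := (finSumFinEquiv (m := 3) (n := 2)).surjective i
      rcases k with i | j
      · exact Finset.mem_union_left _ (h1 i)
      · exact Finset.mem_union_right _ (h2 j)
    · rw [Finset.card_union_of_disjoint hab, ha, hb, Finset.card_map, Finset.card_univ, Fintype.card_fin]
  obtain ⟨x, hx, hx1, hx2⟩ := emb (σ • setOf quT) w hT' hwc (hd'.mono_right hw)
  obtain ⟨y, hy, hy1, hy2⟩ := emb t v ht hvc (htu.mono_right hv)
  have hsubd : ∀ {C : Finset GolayPt}, C ∈ hexadsOn d → C ⊆ d := fun h => by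
    obtain ⟨-, o, -, rfl⟩ := h; exact Finset.inter_subset_right
  obtain ⟨g, hg, hgd, hgx⟩ := exists_five_map hd x y
    (fun i => hsubd hH0' (by
      have := Finset.mem_map_of_mem x (Finset.mem_univ i)
      rw [hx] at this
      exact Finset.union_subset_union_right hw this))
    (fun i => hsubd hh (by
      have := Finset.mem_map_of_mem y (Finset.mem_univ i)
      rw [hy] at this
      exact Finset.union_subset_union_right hv this))
  have hgT : g • σ • setOf quT = t := by
    refine (Finset.eq_of_subset_of_card_le (fun z hz => ?_)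
      (by rw [Finset.card_smul_finset, hT', ht])).symm
    have hmem : z ∈ Finset.univ.map y := by rw [hy]; exact Finset.mem_union_left _ hz
    obtain ⟨i, -, rfl⟩ := Finset.mem_map.1 hmem
    obtain ⟨k, rfl⟩ := (finSumFinEquiv (m := 3) (n := 2)).surjective i
    rcases k with i | j
    · rw [← hgx, ← Equiv.Perm.smul_def]
      exact Finset.smul_mem_smul_finset (hx1 i)
    · exact absurd (hv (hy2 j)) (Finset.disjoint_left.1 htu hz)
  have hgH : g • (σ • setOf quT ∪ σ • setOf quU) = t ∪ u := by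
    obtain ⟨-, o, ho, hoC⟩ := smul_mem_hexadsOn hg hH0'
    obtain ⟨-, o', ho', hoC'⟩ := hh
    rw [hgd] at hoC
    have hoo : o = o' := by
      refine octad_unique ho ho' ?_
      calc 5 = (t ∪ v).card := by rw [Finset.card_union_of_disjoint (htu.mono_right hv), ht, hvc]
        _ ≤ _ := Finset.card_le_card ?_
      intro z hz
      refine Finset.mem_inter.2 ⟨?_, ?_⟩
      · have hmem : z ∈ g • (σ • setOf quT ∪ σ • setOf quU) := by
          rw [← hy] at hz
          obtain ⟨i, -, rfl⟩ := Finset.mem_map.1 hz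
          rw [← hgx, ← Equiv.Perm.smul_def]
          refine Finset.smul_mem_smul_finset ?_
          have := Finset.mem_map_of_mem x (Finset.mem_univ i)
          rw [hx] at this
          exact Finset.union_subset_union_right hw this
        rw [← hoC] at hmem
        exact (Finset.mem_inter.1 hmem).1
      · have hmem : z ∈ t ∪ u := Finset.union_subset_union_right hv hz
        rw [← hoC'] at hmem
        exact (Finset.mem_inter.1 hmem).1
    rw [← hoC, hoo, hoC']
  refine ⟨g * σ, M24.mul_mem hg hσ, by rw [mul_smul, hσd, hgd], by rw [mul_smul, hgT], ?_⟩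
  rw [mul_smul]
  rw [Finset.smul_finset_union, hgT] at hgH
  have hdg : Disjoint t (g • σ • setOf quU) := by
    rw [← hgT, Finset.disjoint_iff_inter_eq_empty, ← Finset.smul_finset_inter,
      Finset.disjoint_iff_inter_eq_empty.1 hd', Finset.smul_finset_empty]
  calc g • σ • setOf quU = (t ∪ g • σ • setOf quU) \ t := (Finset.union_sdiff_cancel_left hdg).symm
    _ = u := by rw [hgH, Finset.union_sdiff_cancel_left htu]

theorem exists_quart_map {d : Finset GolayPt} (hd : d ∈ dodecads) {Q : Finset (Finset GolayPt)}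
    (hQ : Q ∈ quartets d) : ∃ g ∈ M24, g • setOf sqDod = d ∧ g • stdQuart = Q := by
  obtain ⟨t, ht⟩ := Finset.card_pos.1 (by rw [hQ.1]; norm_num : 0 < Q.card)
  obtain ⟨u, hu, hne⟩ := Finset.exists_mem_ne (by rw [hQ.1]; norm_num : 1 < Q.card) t
  obtain ⟨g, hg, hgd, hgt, hgu⟩ := exists_triple_map hd (hQ.2.1 t ht).1 (hQ.2.1 u hu).1
    (quart_disjoint hQ ht hu (Ne.symm hne)) (hQ.2.2 t ht u hu (Ne.symm hne))
  refine ⟨g, hg, hgd, ?_⟩
  have h : g⁻¹ • Q ∈ quartets (setOf sqDod) := by
    have := smul_mem_quartets (M24.inv_mem hg) hQ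
    rwa [← hgd, inv_smul_smul] at this
  rw [← std_quart_unique h (Finset.mem_inv_smul_finset_iff.2 (hgt.symm ▸ ht))
    (Finset.mem_inv_smul_finset_iff.2 (hgu.symm ▸ hu)), smul_inv_smul]

theorem quartet_unique {d : Finset GolayPt} (hd : d ∈ dodecads) {t u : Finset GolayPt}
    (ht : t.card = 3) (hu : u.card = 3) (htu : Disjoint t u) (hh : t ∪ u ∈ hexadsOn d) :
    ∃! Q : Finset (Finset GolayPt), Q ∈ quartets d ∧ t ∈ Q ∧ u ∈ Q := by
  obtain ⟨g, hg, hgd, hgt, hgu⟩ := exists_triple_map hd ht hu htu hh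
  refine ⟨g • stdQuart, ⟨hgd ▸ smul_mem_quartets hg stdQuart_mem, ?_, ?_⟩, ?_⟩
  · rw [← hgt]; exact Finset.smul_mem_smul_finset (by simp [stdQuart])
  · rw [← hgu]; exact Finset.smul_mem_smul_finset (by simp [stdQuart])
  · rintro Q ⟨hQ, htQ, huQ⟩
    have h : g⁻¹ • Q ∈ quartets (setOf sqDod) := by
      have := smul_mem_quartets (M24.inv_mem hg) hQ
      rwa [← hgd, inv_smul_smul] at this
    rw [← std_quart_unique h (Finset.mem_inv_smul_finset_iff.2 (hgt.symm ▸ htQ))
      (Finset.mem_inv_smul_finset_iff.2 (hgu.symm ▸ huQ)), smul_inv_smul]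

end

end Cfsg.Agent.Golay24.Suborbits
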