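import Cfsg.Agent.Lib.Golay.Suborbits.SevenData
import Cfsg.Agent.Lib.Golay.SixSets
import Cfsg.Agent.Lib.Golay.TrioStab
import Cfsg.Agent.Lib.Golay.SylowCert

/-!
The normaliser and centraliser of a subgroup of order 7 of M24.
-/

set_option autoImplicit false

namespace Cfsg.Agent.Golay24.Suborbits

noncomputable section

open Cfsg
open scoped Pointwise

attribute [local irreducible] weightList codeList combTo

/-- The code of a power of the generator. -/
def sevenPw (i : ℕ) : ℕ := sevenPows.getD (i % 7) 0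

theorem sevenGen_ok : (inM24 sevenGen && !isIdP sevenGen && (sevenPw 0 == idP) &&
    ((List.range 7).all fun i => validP (sevenPw i) &&
      (compP sevenGen (sevenPw i) == sevenPw (i + 1))) &&
    ((List.range 5).all fun i => (sixIn.take 5).getD i 0 == app (sevenPw i) 23) &&
    !(app sevenGen 23 == 23)) = true := by decide +kernel

theorem sevenNorm_ok : ((sevenNorm.all fun n => inM24 n && (compP n idP == n) &&
      ((List.range 7).any fun k => compP n sevenGen == compP (sevenPw k) n) &&
      (trioAct n sevenTrio == sevenTrio)) &&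
    decide sevenNorm.Nodup && (sevenNorm.length == 126) &&
    trioAll.orb.contains sevenTrio &&
    ((sevenNorm.filter fun n => compP n sevenGen == compP sevenGen n).length == 42) &&
    sevenNorm.contains sevenPair.1 && sevenNorm.contains sevenPair.2 &&
    (compP sevenPair.1 sevenGen == compP sevenGen sevenPair.1) &&
    (compP sevenPair.2 sevenGen == compP sevenGen sevenPair.2) &&
    !(compP sevenPair.1 sevenPair.2 == compP sevenPair.2 sevenPair.1)) = true := by decide +kernel

theorem sevenCover_ok : ((List.range 7).all fun k => (List.range 24).all fun y =>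
    (k == 0) || (app sevenGen y == y) || sevenReps.any fun a =>
      ((List.range 5).all fun i => app a ((sixIn.take 5).getD i 0) == app (sevenPw (k * i)) y) &&
      inM24 a &&
      fiveFix.all fun u => !(compP (compP a u) sevenGen == compP (sevenPw k) (compP a u)) ||
        sevenNorm.contains (compP a u)) = true := by decide +kernel

theorem sevenGen_valid : validP sevenGen = true := by
  have h := sevenGen_ok
  simp only [Bool.and_eq_true] at h
  exact valid_of_inM24 h.1.1.1.1.1

theorem sevenPw_spec : ∀ i : ℕ, validP (sevenPw i) = true ∧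
    toPerm (sevenPw i) = toPerm sevenGen ^ i := by
  have h := sevenGen_ok
  simp only [Bool.and_eq_true, List.all_eq_true, List.mem_range, beq_iff_eq] at h
  obtain ⟨⟨⟨⟨-, h0⟩, hstep⟩, -⟩, -⟩ := h
  have small : ∀ i ≤ 7, validP (sevenPw i) = true ∧ toPerm (sevenPw i) = toPerm sevenGen ^ i := by
    intro i
    induction i with
    | zero => exact fun _ => ⟨(hstep 0 (by norm_num)).1, by rw [h0, toPerm_idP, pow_zero]⟩
    | succ n ih =>
      intro hn
      obtain ⟨hv, he⟩ := ih (by omega)
      rw [← (hstep n (by omega)).2]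
      exact ⟨validP_compP sevenGen_valid hv, by rw [toPerm_compP sevenGen_valid hv, he, ← pow_succ']⟩
  have h7 : toPerm sevenGen ^ 7 = 1 := by
    rw [← (small 7 le_rfl).2, show sevenPw 7 = sevenPw 0 from rfl, h0, toPerm_idP]
  intro i
  have e : sevenPw i = sevenPw (i % 7) := by simp [sevenPw]
  rw [e, pow_eq_pow_mod i h7]
  exact small _ (by omega)

theorem compP_congr {a b c d : ℕ} (ha : validP a = true) (hb : validP b = true)
    (hc : validP c = true) (hd : validP d = true)
    (h : toPerm a * toPerm b = toPerm c * toPerm d) : compP a b = compP c d := by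
  have key : ∀ i : Fin 24, app a (app b i) = app c (app d i) := fun i => by
    have e := congrArg (fun σ : Equiv.Perm GolayPt => (idx (σ (pt i)) : ℕ)) h
    simpa [idx_toPerm ha, idx_toPerm hb, idx_toPerm hc, idx_toPerm hd, idx_pt] using e
  have main : ∀ n ≤ 24, compTo a b n = compTo c d n := by
    intro n
    induction n with
    | zero => intro _; rfl
    | succ m ih =>
      intro hm
      show Nat.lor (Nat.shiftLeft (app a (app b m)) (5 * m)) (compTo a b m) = _
      rw [key ⟨m, by omega⟩, ih (by omega)]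
      rfl
  exact main 24 le_rfl

/-- The generator inside the group of the code. -/
def sevenElt : M24 := ⟨toPerm sevenGen, toPerm_mem_M24 (by
  have h := sevenGen_ok
  simp only [Bool.and_eq_true] at h
  exact h.1.1.1.1.1)⟩

theorem orderOf_sevenElt : orderOf sevenElt = 7 := by
  have : Fact (Nat.Prime 7) := ⟨by norm_num⟩
  refine orderOf_eq_prime (Subtype.ext ?_) fun e => ?_
  · show toPerm sevenGen ^ 7 = 1
    rw [← (sevenPw_spec 7).2, show sevenPw 7 = sevenPw 0 from rfl, (sevenPw_spec 0).2, pow_zero]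
  · have h := sevenGen_ok
    simp only [Bool.and_eq_true, Bool.not_eq_true', beq_eq_false_iff_ne] at h
    have e' := congrArg (fun σ : M24 => (idx ((σ : Equiv.Perm GolayPt) (pt ⟨23, by norm_num⟩)) : ℕ)) e
    simp [sevenElt, idx_toPerm sevenGen_valid, idx_pt] at e'
    exact h.2 e'

theorem norm_listed {n : Equiv.Perm GolayPt} (hn : n ∈ M24) {k : ℕ} (hk : k < 7)
    (he : n * toPerm sevenGen = toPerm sevenGen ^ k * n) :
    ∃ m ∈ sevenNorm, toPerm m = n := by
  have hg := sevenGen_ok
  simp only [Bool.and_eq_true, List.all_eq_true, List.mem_range, beq_iff_eq, Bool.not_eq_true',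
    beq_eq_false_iff_ne] at hg
  obtain ⟨⟨⟨-, -⟩, hB⟩, hmoved⟩ := hg
  set B := fun i => (sixIn.take 5).getD i 0
  set y := idx (n (pt ⟨23, by norm_num⟩))
  have hv := sevenGen_valid
  have hy : app sevenGen y ≠ (y : ℕ) := by
    intro hfix
    have hgy : toPerm sevenGen (n (pt ⟨23, by norm_num⟩)) = n (pt ⟨23, by norm_num⟩) :=
      idx_inj.1 (Fin.ext (by rw [idx_toPerm hv]; exact hfix))
    have e := congrArg (fun σ : Equiv.Perm GolayPt => σ (pt ⟨23, by norm_num⟩)) he
    simp only [Equiv.Perm.mul_apply] at e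
    rw [Equiv.Perm.pow_apply_eq_self_of_apply_eq_self hgy] at e
    have h' := congrArg (fun z => (idx z : ℕ)) (n.injective e)
    simp only [idx_toPerm hv, idx_pt] at h'
    exact hmoved h'
  have hk0 : k ≠ 0 := by
    rintro rfl
    rw [pow_zero, one_mul] at he
    have e' : toPerm sevenGen = 1 := mul_left_cancel (he.trans (mul_one n).symm)
    rw [show (y : ℕ) = (idx (n (pt ⟨23, by norm_num⟩)) : ℕ) from rfl, ← idx_toPerm hv, e'] at hy
    exact hy rfl
  have hcov := sevenCover_ok
  simp only [List.all_eq_true, List.mem_range, Bool.or_eq_true, beq_iff_eq, List.any_eq_true,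
    Bool.and_eq_true, Bool.not_eq_true', beq_eq_false_iff_ne, List.contains_iff_mem] at hcov
  obtain ⟨a, -, ⟨hmatch, haM⟩, hu⟩ := (hcov k hk y y.isLt).resolve_left (by
    rintro (h | h)
    · exact hk0 h
    · exact hy h)
  have hva := valid_of_inM24 haM
  have hpow : ∀ i, n * toPerm sevenGen ^ i = toPerm sevenGen ^ (k * i) * n := fun i => by
    induction i with
    | zero => simp
    | succ m ih => rw [pow_succ, ← mul_assoc, ih, mul_assoc, he, ← mul_assoc, ← pow_add, Nat.mul_succ]
  have hlt : ∀ i < 5, (sixIn.take 5).getD i 0 < 24 := by decide +kernel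
  have hfive : ∀ i < 5, ((toPerm a)⁻¹ * n) (ptOf (B i)) = ptOf (B i) := by
    intro i hi
    rw [Equiv.Perm.mul_apply, Equiv.Perm.inv_eq_iff_eq]
    refine idx_inj.1 (Fin.ext ?_)
    rw [idx_toPerm hva, idx_ptOf (hlt i hi), hmatch i hi]
    have hBi : ptOf (B i) = (toPerm sevenGen ^ i) (pt ⟨23, by norm_num⟩) := by
      refine idx_inj.1 (Fin.ext ?_)
      rw [idx_ptOf (hlt i hi), ← (sevenPw_spec i).2, idx_toPerm (sevenPw_spec i).1, idx_pt]
      exact hB i hi
    rw [hBi, ← Equiv.Perm.mul_apply, hpow, Equiv.Perm.mul_apply, ← (sevenPw_spec (k * i)).2,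
      idx_toPerm (sevenPw_spec _).1]
  obtain ⟨u, huF, hvu, hue⟩ := mem_fiveFix (M24.mul_mem (M24.inv_mem (toPerm_mem_M24 haM)) hn)
    fun i hi => by
      obtain ⟨j, hj, rfl⟩ := List.mem_iff_getElem.1 hi
      have hj5 : j < 5 := by simp at hj; omega
      have hB' : B j = (sixIn.take 5)[j] := List.getD_eq_getElem _ _ hj
      have h5' := hfive j hj5
      rwa [hB'] at h5'
  have hn' : toPerm (compP a u) = n := by rw [toPerm_compP hva hvu, hue, mul_inv_cancel_left]
  refine ⟨compP a u, (hu u huF).resolve_left (fun hne => hne (compP_congr (validP_compP hva hvu) hv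
    (sevenPw_spec k).1 (validP_compP hva hvu) ?_)), hn'⟩
  rw [hn', (sevenPw_spec k).2, he]

theorem sevenNorm_spec {m : ℕ} (hm : m ∈ sevenNorm) :
    (validP m = true ∧ compP m idP = m ∧ toPerm m ∈ M24) ∧
      (∃ k : ℕ, toPerm m * toPerm sevenGen = toPerm sevenGen ^ k * toPerm m) ∧
      toPerm m • semTrio sevenTrio = semTrio sevenTrio := by
  have h := sevenNorm_ok
  simp only [Bool.and_eq_true, List.all_eq_true, List.any_eq_true, beq_iff_eq] at h
  obtain ⟨⟨⟨hM, hc⟩, ⟨k, -, hk⟩⟩, ht⟩ := h.1.1.1.1.1.1.1.1.1 m hm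
  have hv := valid_of_inM24 hM
  refine ⟨⟨hv, hc, toPerm_mem_M24 hM⟩, ⟨k, ?_⟩, ?_⟩
  · rw [← (sevenPw_spec k).2, ← toPerm_compP hv sevenGen_valid,
      ← toPerm_compP (sevenPw_spec k).1 hv, hk]
  · rw [← semTrio_act hM, ht]

/-- The standard subgroup of order 7. -/
def sevenGrp : Subgroup M24 := Subgroup.zpowers sevenElt

theorem exists_pow_conj {n : M24}
    (hn : n ∈ Subgroup.normalizer (sevenGrp : Set M24)) :
    ∃ k < 7, n * sevenElt = sevenElt ^ k * n := by
  have h := (Subgroup.mem_normalizer_iff.1 hn sevenElt).1 (Subgroup.mem_zpowers _)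
  rw [sevenGrp, mem_zpowers_iff_mem_range_orderOf] at h
  simp only [Finset.mem_image, Finset.mem_range, orderOf_sevenElt] at h
  obtain ⟨k, hk, he⟩ := h
  exact ⟨k, hk, by rw [he, inv_mul_cancel_right]⟩

theorem mem_normalizer_seven {n : M24} :
    n ∈ Subgroup.normalizer (sevenGrp : Set M24) ↔
      ∃ m ∈ sevenNorm, toPerm m = (n : Equiv.Perm GolayPt) := by
  constructor
  · intro hn
    obtain ⟨k, hk, he⟩ := exists_pow_conj hn
    exact norm_listed n.2 hk (congrArg Subtype.val he)
  · rintro ⟨m, hm, hmn⟩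
    obtain ⟨-, ⟨k, hk⟩, -⟩ := sevenNorm_spec hm
    rw [hmn] at hk
    have hk' : n * sevenElt = sevenElt ^ k * n := Subtype.ext hk
    have hle : (sevenGrp.map (MulAut.conj n).toMonoidHom) ≤ sevenGrp := by
      rw [sevenGrp, MonoidHom.map_zpowers, Subgroup.zpowers_le]
      show n * sevenElt * n⁻¹ ∈ _
      rw [hk', mul_inv_cancel_right]
      exact Subgroup.pow_mem _ (Subgroup.mem_zpowers _) _
    have heq : sevenGrp.map (MulAut.conj n).toMonoidHom = sevenGrp :=
      Subgroup.eq_of_le_of_card_ge hle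
        (le_of_eq (Subgroup.card_map_of_injective (MulAut.conj n).injective).symm)
    rw [Subgroup.mem_normalizer_iff]
    intro z
    constructor
    · intro hz
      rw [← heq]
      exact ⟨z, hz, rfl⟩
    · intro hz
      rw [← heq] at hz
      obtain ⟨w, hw, hwe⟩ := hz
      have : w = z := (MulAut.conj n).injective hwe
      exact this ▸ hw

theorem mem_centralizer_seven {n : M24} :
    n ∈ Subgroup.centralizer (sevenGrp : Set M24) ↔ n * sevenElt = sevenElt * n := by
  rw [sevenGrp, Subgroup.zpowers_eq_closure, Subgroup.centralizer_closure,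
    Subgroup.mem_centralizer_singleton_iff]

theorem card_of_list {H : Subgroup M24} {l : List ℕ}
    (hl : ∀ m ∈ l, validP m = true ∧ compP m idP = m ∧ toPerm m ∈ M24) (hnd : l.Nodup)
    (hmem : ∀ n : M24, n ∈ H ↔ ∃ m ∈ l, toPerm m = (n : Equiv.Perm GolayPt)) :
    Nat.card H = l.length := by
  let f : Fin l.length → H := fun i =>
    ⟨⟨toPerm l[i], (hl _ (List.getElem_mem i.2)).2.2⟩, (hmem _).2 ⟨_, List.getElem_mem i.2, rfl⟩⟩
  have hf : Function.Bijective f := by
    constructor
    · intro i j he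
      have he' : toPerm l[i] = toPerm l[j] :=
        congrArg (fun x : H => ((x : M24) : Equiv.Perm GolayPt)) he
      exact Fin.ext ((List.Nodup.getElem_inj_iff hnd).1 (toPerm_inj (hl _ (List.getElem_mem i.2)).1
        (hl _ (List.getElem_mem j.2)).1 (hl _ (List.getElem_mem i.2)).2.1
        (hl _ (List.getElem_mem j.2)).2.1 he'))
    · rintro ⟨n, hn⟩
      obtain ⟨m, hm, he⟩ := (hmem n).1 hn
      obtain ⟨i, hi, rfl⟩ := List.mem_iff_getElem.1 hm
      exact ⟨⟨i, hi⟩, Subtype.ext (Subtype.ext he)⟩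
  rw [← Nat.card_congr (Equiv.ofBijective f hf), Nat.card_eq_fintype_card, Fintype.card_fin]

theorem seven_std :
    Nat.card ↥(Subgroup.normalizer (sevenGrp : Set M24)) = 126 ∧
    Nat.card ↥(Subgroup.centralizer (sevenGrp : Set M24)) = 42 ∧
    (∃ x ∈ Subgroup.centralizer (sevenGrp : Set M24), ∃ y ∈ Subgroup.centralizer (sevenGrp : Set M24),
      x * y ≠ y * x) ∧
    ∃ T ∈ trios, ∀ n ∈ Subgroup.normalizer (sevenGrp : Set M24),
      ((n : M24) : Equiv.Perm GolayPt) • T = T := by
  have h := sevenNorm_ok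
  simp only [Bool.and_eq_true, List.all_eq_true, beq_iff_eq, decide_eq_true_eq,
    List.contains_iff_mem, Bool.not_eq_true', beq_eq_false_iff_ne] at h
  obtain ⟨⟨⟨⟨⟨⟨⟨⟨⟨-, hnd⟩, hlen⟩, htrio⟩, hlen'⟩, hx⟩, hy⟩, hxc⟩, hyc⟩, hxy⟩ := h
  obtain ⟨hxv, -, hxM⟩ := (sevenNorm_spec hx).1
  obtain ⟨hyv, -, hyM⟩ := (sevenNorm_spec hy).1
  have hvg := sevenGen_valid
  refine ⟨?_, ?_, ⟨⟨_, hxM⟩, mem_centralizer_seven.2 (Subtype.ext ?_), ⟨_, hyM⟩,
    mem_centralizer_seven.2 (Subtype.ext ?_), fun e => hxy ?_⟩,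
    semTrio sevenTrio, by rw [trios_eq]; exact ⟨_, htrio, rfl⟩, fun n hn => ?_⟩
  · rw [card_of_list (fun m hm => (sevenNorm_spec hm).1) hnd fun n => mem_normalizer_seven, hlen]
  · rw [card_of_list (l := sevenNorm.filter fun n => compP n sevenGen == compP sevenGen n)
      (fun m hm => (sevenNorm_spec (List.mem_filter.1 hm).1).1) (hnd.filter _) (fun n => ?_), hlen']
    rw [mem_centralizer_seven]
    constructor
    · intro hc
      have hc' : (n : Equiv.Perm GolayPt) * toPerm sevenGen = toPerm sevenGen * n :=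
        congrArg Subtype.val hc
      obtain ⟨m, hm, he⟩ := norm_listed n.2 (by norm_num : 1 < 7) (by rw [pow_one]; exact hc')
      refine ⟨m, List.mem_filter.2 ⟨hm, beq_iff_eq.2 ?_⟩, he⟩
      have hmv := (sevenNorm_spec hm).1.1
      exact compP_congr hmv hvg hvg hmv (by rw [he]; exact hc')
    · rintro ⟨m, hm, he⟩
      obtain ⟨hm1, hm2⟩ := List.mem_filter.1 hm
      rw [beq_iff_eq] at hm2
      have hmv := (sevenNorm_spec hm1).1.1
      refine Subtype.ext ?_
      show (n : Equiv.Perm GolayPt) * toPerm sevenGen = toPerm sevenGen * n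
      rw [← he, ← toPerm_compP hmv hvg, hm2, toPerm_compP hvg hmv]
  · show toPerm sevenPair.1 * toPerm sevenGen = toPerm sevenGen * toPerm sevenPair.1
    rw [← toPerm_compP hxv hvg, hxc, toPerm_compP hvg hxv]
  · show toPerm sevenPair.2 * toPerm sevenGen = toPerm sevenGen * toPerm sevenPair.2
    rw [← toPerm_compP hyv hvg, hyc, toPerm_compP hvg hyv]
  · exact compP_congr hxv hyv hyv hxv (congrArg Subtype.val e)
  · obtain ⟨m, hm, he⟩ := mem_normalizer_seven.1 hn
    rw [← he]
    exact (sevenNorm_spec hm).2.2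

theorem seven_conj {S : Subgroup M24} (hS : Nat.card S = 7) :
    ∃ k : M24, sevenGrp.map (MulAut.conj k).toMonoidHom = S := by
  have : Fact (Nat.Prime 7) := ⟨by norm_num⟩
  have hf : (Nat.card M24).factorization 7 = 1 := by
    rw [card_M24, show (244823040 : ℕ) = 7 ^ 1 * 34974720 by norm_num,
      Nat.factorization_mul (by norm_num) (by norm_num), Finsupp.add_apply,
      Nat.factorization_eq_zero_of_not_dvd (n := 34974720) (p := 7) (by norm_num),
      (by norm_num : Nat.Prime 7).factorization_pow, Finsupp.single_eq_same]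
  let A : Sylow 7 M24 := Sylow.ofCard sevenGrp (by
    rw [sevenGrp, Nat.card_zpowers, orderOf_sevenElt, hf, pow_one])
  let Q : Sylow 7 M24 := Sylow.ofCard S (by rw [hS, hf, pow_one])
  obtain ⟨k, hk⟩ := MulAction.exists_smul_eq M24 A Q
  exact ⟨k, congrArg (fun R : Sylow 7 M24 => (R : Subgroup M24)) hk⟩

theorem seven_normaliser (S : Subgroup M24) (hS : Nat.card S = 7) :
    Nat.card ↥(Subgroup.normalizer (S : Set M24)) = 126 ∧
    Nat.card ↥(Subgroup.centralizer (S : Set M24)) = 42 ∧
    (∃ x ∈ Subgroup.centralizer (S : Set M24), ∃ y ∈ Subgroup.centralizer (S : Set M24),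
      x * y ≠ y * x) ∧
    ∃ T ∈ trios, ∀ n ∈ Subgroup.normalizer (S : Set M24),
      ((n : M24) : Equiv.Perm GolayPt) • T = T := by
  obtain ⟨k, rfl⟩ := seven_conj hS
  obtain ⟨h1, h2, ⟨x, hx, y, hy, hxy⟩, T, hT, hfix⟩ := seven_std
  set φ := MulAut.conj k
  have hN : ∀ n : M24, φ n ∈ Subgroup.normalizer ((sevenGrp.map φ.toMonoidHom : Subgroup M24) : Set M24) ↔
      n ∈ Subgroup.normalizer (sevenGrp : Set M24) := by
    intro n
    rw [Subgroup.mem_normalizer_iff, Subgroup.mem_normalizer_iff, φ.toEquiv.surjective.forall]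
    refine forall_congr' fun z => ?_
    simp only [MulEquiv.toEquiv_eq_coe, MulEquiv.coe_toEquiv, ← map_inv, ← map_mul]
    exact iff_congr (Subgroup.mem_map_iff_mem φ.injective) (Subgroup.mem_map_iff_mem φ.injective)
  have hC : ∀ n : M24, φ n ∈ Subgroup.centralizer ((sevenGrp.map φ.toMonoidHom : Subgroup M24) : Set M24) ↔
      n ∈ Subgroup.centralizer (sevenGrp : Set M24) := by
    intro n
    rw [Subgroup.mem_centralizer_iff, Subgroup.mem_centralizer_iff]
    constructor
    · exact fun h z hz => φ.injective (by rw [map_mul, map_mul]; exact h _ ⟨z, hz, rfl⟩)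
    · rintro h _ ⟨z, hz, rfl⟩
      show φ z * φ n = φ n * φ z
      rw [← map_mul, ← map_mul, h z hz]
  have card_tr : ∀ H H' : Subgroup M24, (∀ n, φ n ∈ H' ↔ n ∈ H) → Nat.card H' = Nat.card H :=
    fun H H' h => (Nat.card_congr
      (Equiv.subtypeEquiv φ.toEquiv (p := (· ∈ H)) (q := (· ∈ H')) fun n => (h n).symm)).symm
  refine ⟨(card_tr _ _ hN).trans h1, (card_tr _ _ hC).trans h2,
    ⟨φ x, (hC x).2 hx, φ y, (hC y).2 hy, fun e => hxy (φ.injective (by simpa using e))⟩,
    (k : Equiv.Perm GolayPt) • T, smul_mem_trios k.2 hT, fun n hn => ?_⟩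
  obtain ⟨m, rfl⟩ := φ.surjective n
  have := hfix m ((hN m).1 hn)
  show ((k * m * k⁻¹ : M24) : Equiv.Perm GolayPt) • (k : Equiv.Perm GolayPt) • T = _
  rw [Subgroup.coe_mul, Subgroup.coe_mul, Subgroup.coe_inv, mul_smul, mul_smul, inv_smul_smul, this]

end

end Cfsg.Agent.Golay24.Suborbits
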