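import Cfsg.Agent.Lib.Golay.Suborbits.TransvecData
import Cfsg.Agent.Lib.Golay.ListGroup
import Cfsg.Agent.Lib.Golay.Classes
import Cfsg.Agent.Lib.Golay.OctadStab
import Mathlib.LinearAlgebra.Matrix.GeneralLinearGroup.Card
import Mathlib.LinearAlgebra.Matrix.Transvection
import Mathlib.LinearAlgebra.Matrix.SpecialLinearGroup
import Mathlib.Algebra.Field.ZMod

/-!
The centraliser of an involution fixing an octad, matched with that of a transvection.
-/

set_option autoImplicit false

namespace Cfsg.Agent.Golay24.Suborbits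

noncomputable section

open Cfsg ListGroup
open scoped Pointwise

attribute [local irreducible] weightList codeList

/-- A matrix over two elements from a 25-bit code. -/
def tvMat (c : ℕ) : Matrix (Fin 5) (Fin 5) (ZMod 2) :=
  fun i j => if c.testBit (5 * i.val + j.val) then 1 else 0

/-- The normal part. -/
def tvQ : ListCert := ⟨tvQGens, tvQElems, tvQTree⟩

/-- The complement. -/
def tvL : ListCert := ⟨tvLGens, tvLElems, tvLTree⟩

/-- One step of a multiplication table. -/
def tvStep (a : ℕ) (ma : ℕ) (x mx : ℕ) (es ms : List ℕ) (a' ma' : ℕ) : Bool :=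
  (es.zip ms).any fun ym => (compP ym.1 a' == compP a x) &&
    decide (tvMat ym.2 * tvMat ma' = tvMat ma * tvMat mx)

theorem tvQ_ok : (tvQ.ok && (tvQElems.length == 128) && (tvQMat.length == 128) &&
    (tvQMatInv.length == 128) && decide tvQMat.Nodup && tvQMat.all (fun c => Nat.blt c (2 ^ 25))) = true := by
  decide +kernel

theorem tvL_ok : (tvL.ok && (tvLElems.length == 168) && (tvLMat.length == 168) &&
    (tvLMatInv.length == 168) && tvLMat.all (fun c => Nat.blt c (2 ^ 25))) = true := by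
  decide +kernel

theorem tvInv_ok : (∀ i : Fin 128, tvMat (tvQMat.getD i 0) * tvMat (tvQMatInv.getD i 0) = 1) ∧
    ∀ i : Fin 168, tvMat (tvLMat.getD i 0) * tvMat (tvLMatInv.getD i 0) = 1 := by
  decide +kernel

theorem tvShape_ok : (∀ i : Fin 128, ∀ r s : Fin 3,
      tvMat (tvQMat.getD i 0) r.succ.succ s.succ.succ = if r = s then 1 else 0) ∧
    (∀ i : Fin 128, ∀ r : Fin 3, tvMat (tvQMat.getD i 0) r.succ.succ 0 = 0) ∧
    (∀ i : Fin 168, ∀ s : Fin 3, tvMat (tvLMat.getD i 0) 1 s.succ.succ = 0) ∧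
    (∀ i j : Fin 168, (∀ r s : Fin 3, tvMat (tvLMat.getD i 0) r.succ.succ s.succ.succ =
      tvMat (tvLMat.getD j 0) r.succ.succ s.succ.succ) → i = j) ∧
    tvMat (tvQMat.getD 0 0) = 1 ∧ tvMat (tvLMat.getD 0 0) = 1 ∧
    (∀ i : Fin 128, tvMat (tvQMat.getD i 0) * Matrix.transvection 0 1 1 =
      Matrix.transvection 0 1 1 * tvMat (tvQMat.getD i 0)) ∧
    ∀ i : Fin 168, tvMat (tvLMat.getD i 0) * Matrix.transvection 0 1 1 =
      Matrix.transvection 0 1 1 * tvMat (tvLMat.getD i 0) := by
  decide +kernel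

theorem tvStepQ_ok : ((List.range 7).tail.all fun a => (tvQElems.zip tvQMat).all fun xm =>
    tvStep (tvQElems.getD a 0) (tvQMat.getD a 0) xm.1 xm.2 tvQElems tvQMat idP
      (tvQMat.getD 0 0)) = true := by
  decide +kernel

theorem tvStepL_ok : ((List.range 3).tail.all fun a => (tvLElems.zip tvLMat).all fun xm =>
    tvStep (tvLElems.getD a 0) (tvLMat.getD a 0) xm.1 xm.2 tvLElems tvLMat idP
      (tvLMat.getD 0 0)) = true := by
  decide +kernel

theorem tvStepX_ok : ((List.range 3).tail.all fun a => (tvQElems.zip tvQMat).all fun xm =>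
    tvStep (tvLElems.getD a 0) (tvLMat.getD a 0) xm.1 xm.2 tvQElems tvQMat (tvLElems.getD a 0)
      (tvLMat.getD a 0)) = true := by
  decide +kernel

theorem tvGens_ok : tvQGens = (List.range 7).tail.map (fun a => tvQElems.getD a 0) ∧
    tvLGens = (List.range 3).tail.map (fun a => tvLElems.getD a 0) := by
  decide +kernel

theorem tvMeet_ok : (tvQElems.all fun q => tvLElems.all fun l => !(q == l) || (q == idP)) = true := by
  decide +kernel

theorem tvPerm_ok : ((tvQGens ++ tvLGens).all (fun g => compP g invEight == compP invEight g) &&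
    validP invEight && (img invEight 551943 == 551943) && isOct 551943 &&
    (List.range 24).all (fun i => (app invEight i == i) == Nat.testBit 551943 i) &&
    (((tvConj.zip tvClass).all fun ku => inM24 ku.1 && (img ku.1 551943 == 551943) &&
      validP ku.2 && (compP ku.2 idP == ku.2) &&
      (compP ku.1 invEight == compP ku.2 ku.1)) &&
    (tvConj.length == 15) && (tvClass.length == 15) && decide tvClass.Nodup)) = true := by
  decide +kernel

theorem invEight_valid : validP invEight = true := by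
  have h := tvPerm_ok
  simp only [Bool.and_eq_true] at h
  exact h.1.1.1.1.2

/-- The centraliser of the representative. -/
abbrev tvCent : Subgroup (Equiv.Perm GolayPt) :=
  M24 ⊓ Subgroup.centralizer {toPerm invEight}

theorem mem_tvCent {c : Equiv.Perm GolayPt} :
    c ∈ tvCent ↔ c ∈ M24 ∧ c * toPerm invEight = toPerm invEight * c := by
  rw [Subgroup.mem_inf, Subgroup.mem_centralizer_singleton_iff]

theorem tvCent_le : tvCent ≤ octStab (setOf 551943) := by
  intro c hc
  obtain ⟨hM, hcomm⟩ := mem_tvCent.1 hc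
  have h := tvPerm_ok
  simp only [Bool.and_eq_true, List.all_eq_true, List.mem_range, beq_iff_eq] at h
  have hfix : ∀ x : GolayPt, x ∈ setOf 551943 ↔ toPerm invEight x = x := fun x => by
    rw [mem_setOf, ← idx_inj (x := toPerm invEight x), Fin.ext_iff, idx_toPerm invEight_valid,
      ← h.1.2 (idx x) (idx x).isLt, beq_iff_eq]
  refine ⟨hM, ?_⟩
  refine Finset.eq_of_subset_of_card_le ?_ (by rw [Finset.card_smul_finset])
  intro y hy
  obtain ⟨x, hx, rfl⟩ := Finset.mem_smul_finset.1 hy
  rw [hfix] at hx ⊢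
  rw [Equiv.Perm.smul_def, ← Equiv.Perm.mul_apply, ← hcomm, Equiv.Perm.mul_apply, hx]

theorem card_tvCent_le : Nat.card tvCent ≤ 21504 := by
  have h := tvPerm_ok
  simp only [Bool.and_eq_true, List.all_eq_true, beq_iff_eq, decide_eq_true_eq] at h
  obtain ⟨⟨⟨-, hoct⟩, -⟩, ⟨⟨hz, hlk⟩, hlu⟩, hnd⟩ := h
  have hrep : ∀ i : Fin 15, toPerm (tvConj[i.1]'(by omega)) ∈ octStab (setOf 551943) ∧
      validP (tvClass[i.1]'(by omega)) = true ∧
      compP (tvClass[i.1]'(by omega)) idP = tvClass[i.1]'(by omega) ∧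
      toPerm (tvConj[i.1]'(by omega)) * toPerm invEight =
        toPerm (tvClass[i.1]'(by omega)) * toPerm (tvConj[i.1]'(by omega)) := by
    intro i
    obtain ⟨⟨⟨⟨hk, hd⟩, hu⟩, huc⟩, he⟩ := hz (tvConj[i.1]'(by omega), tvClass[i.1]'(by omega))
      (List.mem_iff_getElem.2 ⟨i, by simp [List.length_zip]; omega, by simp⟩)
    refine ⟨⟨toPerm_mem_M24 hk, ?_⟩, hu, huc, ?_⟩
    · show toPerm _ • setOf 551943 = setOf 551943
      rw [smul_setOf (valid_of_inM24 hk), hd]
    · rw [← toPerm_compP (valid_of_inM24 hk) invEight_valid,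
        ← toPerm_compP hu (valid_of_inM24 hk), he]
  let f : Fin 15 × tvCent → octStab (setOf 551943) := fun ic =>
    ⟨toPerm (tvConj[ic.1.1]'(by omega)) * (ic.2 : Equiv.Perm GolayPt),
      (octStab _).mul_mem (hrep ic.1).1 (tvCent_le ic.2.2)⟩
  have hf : Function.Injective f := by
    rintro ⟨i, c, hc⟩ ⟨j, d, hd⟩ he
    have he' : toPerm (tvConj[i.1]'(by omega)) * c = toPerm (tvConj[j.1]'(by omega)) * d :=
      congrArg Subtype.val he
    have key : ∀ (l : Fin 15) (e : Equiv.Perm GolayPt), e * toPerm invEight = toPerm invEight * e →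
        toPerm (tvConj[l.1]'(by omega)) * e * toPerm invEight =
          toPerm (tvClass[l.1]'(by omega)) * (toPerm (tvConj[l.1]'(by omega)) * e) := fun l e hl => by
      rw [mul_assoc, hl, ← mul_assoc, (hrep l).2.2.2, mul_assoc]
    have h1 := key i c (mem_tvCent.1 hc).2
    rw [he', key j d (mem_tvCent.1 hd).2, mul_left_inj] at h1
    obtain rfl : i = j := Fin.ext ((List.Nodup.getElem_inj_iff hnd).1
      (toPerm_inj (hrep i).2.1 (hrep j).2.1 (hrep i).2.2.1 (hrep j).2.2.1 h1.symm))
    rw [mul_right_inj] at he'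
    subst he'
    rfl
  have hc := Nat.card_le_card_of_injective f hf
  rw [Nat.card_prod, Nat.card_eq_fintype_card, Fintype.card_fin,
    card_octStab (setOf_mem_octads hoct)] at hc
  omega

/-- A list containing the identity and closed under its generators is the group they generate. -/
theorem listCert_mem {c : ListCert} (h : c.ok = true) (hne : c.elems ≠ [])
    (hcl : ∀ g ∈ c.gens, ∀ x ∈ c.elems, ∃ y ∈ c.elems, toPerm g * toPerm x = toPerm y)
    {σ : Equiv.Perm GolayPt} : σ ∈ c.grp ↔ ∃ x ∈ c.elems, toPerm x = σ := by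
  refine ⟨fun hσ => ?_, fun ⟨x, hx, e⟩ => e ▸ (c.props h hx).2.2⟩
  have key : ∀ d ∈ c.grp, ∀ x ∈ c.elems, ∃ y ∈ c.elems, d * toPerm x = toPerm y := by
    intro d hd
    rw [ListCert.grp, ← SetLike.mem_coe, ← Subgroup.coe_toSubmonoid,
      Subgroup.closure_toSubmonoid_of_finite, SetLike.mem_coe] at hd
    induction hd using Submonoid.closure_induction with
    | mem y hy => obtain ⟨g, hg, rfl⟩ := hy; exact hcl g hg
    | one => exact fun x hx => ⟨x, hx, one_mul _⟩
    | mul y z _ _ hy hz =>
      intro x hx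
      obtain ⟨u, hu, e⟩ := hz x hx
      obtain ⟨u', hu', e'⟩ := hy u hu
      exact ⟨u', hu', by rw [mul_assoc, e, e']⟩
  have h0 : c.elems.getD 0 0 = idP := by
    simp only [ListCert.ok, Bool.and_eq_true, beq_iff_eq] at h; exact h.1.1.2
  have h0m : idP ∈ c.elems := by
    rw [← h0, List.getD_eq_getElem _ _ (List.length_pos_iff.2 hne)]; exact List.getElem_mem _
  obtain ⟨y, hy, e⟩ := key σ hσ idP h0m
  exact ⟨y, hy, by rw [← e, toPerm_idP, mul_one]⟩

theorem tvStep_spec {a ma x mx : ℕ} {es ms : List ℕ} {a' ma' : ℕ} {n : ℕ} (he : es.length = n)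
    (hm : ms.length = n) (hva : validP a = true) (hvx : validP x = true)
    (hva' : validP a' = true) (hes : ∀ y ∈ es, validP y = true)
    (h : tvStep a ma x mx es ms a' ma' = true) :
    ∃ j : Fin n, toPerm (es.getD j 0) * toPerm a' = toPerm a * toPerm x ∧
      tvMat (ms.getD j 0) * tvMat ma' = tvMat ma * tvMat mx := by
  simp only [tvStep, List.any_eq_true, Bool.and_eq_true, decide_eq_true_eq, beq_iff_eq] at h
  obtain ⟨ym, hym, h1, h2⟩ := h
  obtain ⟨j, hj, rfl⟩ := List.mem_iff_getElem.1 hym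
  rw [List.length_zip] at hj
  refine ⟨⟨j, by omega⟩, ?_, ?_⟩ <;> simp only [List.getElem_zip] at h1 h2
  · rw [List.getD_eq_getElem _ _ (by omega), ← toPerm_compP (hes _ (List.getElem_mem _)) hva',
      ← toPerm_compP hva hvx, h1]
  · rw [List.getD_eq_getElem _ _ (by omega)]; exact h2

end

end Cfsg.Agent.Golay24.Suborbits
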