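import Cfsg.Agent.Lib.Golay.Suborbits.Transvec

/-!
The centraliser of a transvection in five dimensions over two elements, and the isomorphism.
-/

set_option autoImplicit false
set_option maxHeartbeats 400000

namespace Cfsg.Agent.Golay24.Suborbits

noncomputable section

open Cfsg ListGroup
open scoped Pointwise

attribute [local irreducible] weightList codeList tvStep compP idP validP toPerm inM24 tvQElems tvLElems tvQMat tvLMat tvMat tvQGens tvLGens tvQTree tvLTree

theorem SL_card_tv_le {s : Matrix.SpecialLinearGroup (Fin 5) (ZMod 2)}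
    (hs : (s : Matrix (Fin 5) (Fin 5) (ZMod 2)) = Matrix.transvection 0 1 1) :
    Nat.card (Subgroup.centralizer ({s} : Set (Matrix.SpecialLinearGroup (Fin 5) (ZMod 2)))) ≤
      21504 := by
  haveI : Fact (Nat.Prime 2) := ⟨Nat.prime_two⟩
  set Z := Subgroup.centralizer ({s} : Set (Matrix.SpecialLinearGroup (Fin 5) (ZMod 2)))
  have shapeM : ∀ M : Matrix (Fin 5) (Fin 5) (ZMod 2),
      M * Matrix.transvection 0 1 1 = Matrix.transvection 0 1 1 * M →
      (∀ r : Fin 4, M r.succ 0 = 0) ∧ (∀ t : Fin 5, t ≠ 1 → M 1 t = 0) ∧ M 0 0 = M 1 1 := by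
    intro M h
    refine ⟨fun r => ?_, fun t ht => ?_, ?_⟩
    · have := congrFun (congrFun h r.succ) 1
      simpa [Matrix.mul_apply, Fin.sum_univ_five, Matrix.transvection, Matrix.single,
        Matrix.one_apply, Fin.succ_ne_zero r, (Fin.succ_ne_zero r).symm] using this
    · have := (congrFun (congrFun h 0) t).symm
      simpa [Matrix.mul_apply, Fin.sum_univ_five, Matrix.transvection, Matrix.single,
        Matrix.one_apply, Ne.symm ht, ht] using this
    · have := congrFun (congrFun h 0) 1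
      simp [Matrix.mul_apply, Fin.sum_univ_five, Matrix.transvection, Matrix.single,
        Matrix.one_apply] at this
      linear_combination this
  have shape : ∀ A : Z,
      (∀ r : Fin 4, ((A : Matrix.SpecialLinearGroup (Fin 5) (ZMod 2)) : Matrix (Fin 5) (Fin 5) (ZMod 2)) r.succ 0 = 0) ∧
      (∀ t : Fin 5, t ≠ 1 → ((A : Matrix.SpecialLinearGroup (Fin 5) (ZMod 2)) : Matrix (Fin 5) (Fin 5) (ZMod 2)) 1 t = 0) ∧
      ((A : Matrix.SpecialLinearGroup (Fin 5) (ZMod 2)) : Matrix (Fin 5) (Fin 5) (ZMod 2)) 0 0 =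
        ((A : Matrix.SpecialLinearGroup (Fin 5) (ZMod 2)) : Matrix (Fin 5) (Fin 5) (ZMod 2)) 1 1 := by
    intro A
    refine shapeM _ ?_
    rw [← hs, ← Matrix.SpecialLinearGroup.coe_mul, ← Matrix.SpecialLinearGroup.coe_mul,
      Subgroup.mem_centralizer_singleton_iff.1 A.2]
  let blk : Z → Matrix (Fin 3) (Fin 3) (ZMod 2) := fun A r c =>
    ((A : Matrix.SpecialLinearGroup (Fin 5) (ZMod 2)) : Matrix (Fin 5) (Fin 5) (ZMod 2)) r.succ.succ c.succ.succ
  have hblk : ∀ A A' : Z, blk (A * A') = blk A * blk A' := fun A A' => by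
    funext r c
    show (((A : Matrix.SpecialLinearGroup (Fin 5) (ZMod 2)) : Matrix (Fin 5) (Fin 5) (ZMod 2)) *
      ((A' : Matrix.SpecialLinearGroup (Fin 5) (ZMod 2)) : Matrix (Fin 5) (Fin 5) (ZMod 2))) r.succ.succ c.succ.succ = _
    rw [Matrix.mul_apply, Fin.sum_univ_succ, Fin.sum_univ_succ, (shape A).1 r.succ,
      show (Fin.succ (0 : Fin 4) : Fin 5) = 1 from rfl,
      (shape A').2.1 c.succ.succ (fun e => Fin.succ_ne_zero c (Fin.succ_injective _ e)), zero_mul,
      mul_zero, zero_add, zero_add]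
    rfl
  have hone : blk 1 = 1 := by
    funext r c
    show (1 : Matrix (Fin 5) (Fin 5) (ZMod 2)) r.succ.succ c.succ.succ = _
    simp [Matrix.one_apply]
  have h1 : ∀ A : Z, ((A : Matrix.SpecialLinearGroup (Fin 5) (ZMod 2)) : Matrix (Fin 5) (Fin 5) (ZMod 2)) 1 1 = 1 := fun A => by
    by_contra hne
    have h0 : ((A : Matrix.SpecialLinearGroup (Fin 5) (ZMod 2)) : Matrix (Fin 5) (Fin 5) (ZMod 2)) 1 1 = 0 :=
      (zmod2_cases _).resolve_right hne
    have := (A : Matrix.SpecialLinearGroup (Fin 5) (ZMod 2)).2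
    rw [Matrix.det_eq_zero_of_row_eq_zero 1 (fun t => by
      rcases eq_or_ne t 1 with rfl | ht
      exacts [h0, (shape A).2.1 t ht])] at this
    exact zero_ne_one this
  let φ : Z → (Fin 7 → ZMod 2) × GL (Fin 3) (ZMod 2) := fun A =>
    (![((A : Matrix.SpecialLinearGroup (Fin 5) (ZMod 2)) : Matrix (Fin 5) (Fin 5) (ZMod 2)) 0 1,
      ((A : Matrix.SpecialLinearGroup (Fin 5) (ZMod 2)) : Matrix (Fin 5) (Fin 5) (ZMod 2)) 0 2,
      ((A : Matrix.SpecialLinearGroup (Fin 5) (ZMod 2)) : Matrix (Fin 5) (Fin 5) (ZMod 2)) 0 3,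
      ((A : Matrix.SpecialLinearGroup (Fin 5) (ZMod 2)) : Matrix (Fin 5) (Fin 5) (ZMod 2)) 0 4,
      ((A : Matrix.SpecialLinearGroup (Fin 5) (ZMod 2)) : Matrix (Fin 5) (Fin 5) (ZMod 2)) 2 1,
      ((A : Matrix.SpecialLinearGroup (Fin 5) (ZMod 2)) : Matrix (Fin 5) (Fin 5) (ZMod 2)) 3 1,
      ((A : Matrix.SpecialLinearGroup (Fin 5) (ZMod 2)) : Matrix (Fin 5) (Fin 5) (ZMod 2)) 4 1],
      ⟨blk A, blk A⁻¹, by rw [← hblk, mul_inv_cancel, hone], by rw [← hblk, inv_mul_cancel, hone]⟩)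
  have hφ : Function.Injective φ := by
    intro A A' e
    have ev := congrArg Prod.fst e
    have eb : blk A = blk A' := congrArg Units.val (congrArg Prod.snd e)
    obtain ⟨a1, a2, a3⟩ := shape A
    obtain ⟨b1, b2, b3⟩ := shape A'
    have v0 := congrFun ev 0; have v1 := congrFun ev 1; have v2 := congrFun ev 2
    have v3 := congrFun ev 3; have v4 := congrFun ev 4; have v5 := congrFun ev 5
    have v6 := congrFun ev 6
    simp only [φ] at v0 v1 v2 v3 v4 v5 v6
    apply Subtype.ext; apply Subtype.ext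
    funext r t
    fin_cases r <;> fin_cases t <;> first
      | exact (a1 0).trans (b1 0).symm | exact (a1 1).trans (b1 1).symm
      | exact (a1 2).trans (b1 2).symm | exact (a1 3).trans (b1 3).symm
      | exact (a2 _ (by decide)).trans (b2 _ (by decide)).symm
      | exact (h1 A).trans (h1 A').symm
      | exact (a3.trans (h1 A)).trans (b3.trans (h1 A')).symm
      | exact v0 | exact v1 | exact v2 | exact v3 | exact v4 | exact v5 | exact v6
      | exact congrFun (congrFun eb 0) 0 | exact congrFun (congrFun eb 0) 1 | exact congrFun (congrFun eb 0) 2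
      | exact congrFun (congrFun eb 1) 0 | exact congrFun (congrFun eb 1) 1 | exact congrFun (congrFun eb 1) 2
      | exact congrFun (congrFun eb 2) 0 | exact congrFun (congrFun eb 2) 1 | exact congrFun (congrFun eb 2) 2
  refine (Nat.card_le_card_of_injective φ hφ).trans (le_of_eq ?_)
  rw [Nat.card_prod, Nat.card_fun, Matrix.card_GL_field]
  simp [Fin.prod_univ_three]

theorem invEight_centralizer_iso {s : Matrix.SpecialLinearGroup (Fin 5) (ZMod 2)}
    (hs : (s : Matrix (Fin 5) (Fin 5) (ZMod 2)) = Matrix.transvection 0 1 1) :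
    ∃ z : ↥M24, orderOf z = 2 ∧ Nonempty (↥(Subgroup.centralizer ({z} : Set ↥M24)) ≃*
      ↥(Subgroup.centralizer ({s} : Set (Matrix.SpecialLinearGroup (Fin 5) (ZMod 2))))) := by
  classical
  haveI : Fact (Nat.Prime 2) := ⟨Nat.prime_two⟩
  have hQ := tvQ_ok
  have hL := tvL_ok
  simp only [Bool.and_eq_true, beq_iff_eq, decide_eq_true_eq, List.all_eq_true] at hQ hL
  obtain ⟨⟨⟨⟨⟨hQok, hq⟩, hqm⟩, hqi⟩, hqnd⟩, hqlt⟩ := hQ
  obtain ⟨⟨⟨⟨hLok, hl⟩, hlm⟩, hli⟩, hllt⟩ := hL
  obtain ⟨hgQ, hgL⟩ := tvGens_ok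
  obtain ⟨hsh1, hsh2, hsh3, hLinj, hq0, hl0, hcq, hcl⟩ := tvShape_ok
  let qe : Fin 128 → ℕ := fun i => tvQElems.getD i 0
  let le' : Fin 168 → ℕ := fun i => tvLElems.getD i 0
  have qmem : ∀ i, qe i ∈ tvQElems := fun i => by
    show tvQElems.getD i 0 ∈ _
    rw [List.getD_eq_getElem _ _ (by omega)]; exact List.getElem_mem _
  have lmem : ∀ i, le' i ∈ tvLElems := fun i => by
    show tvLElems.getD i 0 ∈ _
    rw [List.getD_eq_getElem _ _ (by omega)]; exact List.getElem_mem _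
  have qv := fun x (hx : x ∈ tvQElems) => (tvQ.props hQok hx)
  have lv := fun x (hx : x ∈ tvLElems) => (tvL.props hLok hx)
  have hokQ : tvQ.elems.Nodup ∧ tvQ.elems.getD 0 0 = idP ∧ ∀ g ∈ tvQ.gens, inM24 g = true := by
    have h := hQok
    simp only [ListCert.ok, Bool.and_eq_true, decide_eq_true_eq, beq_iff_eq, List.all_eq_true] at h
    exact ⟨h.1.1.1.2, h.1.1.2, h.1.1.1.1.1⟩
  have hokL : tvL.elems.Nodup ∧ tvL.elems.getD 0 0 = idP ∧ ∀ g ∈ tvL.gens, inM24 g = true := by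
    have h := hLok
    simp only [ListCert.ok, Bool.and_eq_true, decide_eq_true_eq, beq_iff_eq, List.all_eq_true] at h
    exact ⟨h.1.1.1.2, h.1.1.2, h.1.1.1.1.1⟩
  have a7 : ∀ a : Fin 128, 1 ≤ a.val → a.val < 7 → (a : ℕ) ∈ (List.range 7).tail := by
    intro a h1 h2
    rw [show (List.range 7).tail = [1, 2, 3, 4, 5, 6] from rfl]
    simp only [List.mem_cons, List.not_mem_nil, or_false]
    omega
  have a3 : ∀ a : Fin 168, 1 ≤ a.val → a.val < 3 → (a : ℕ) ∈ (List.range 3).tail := by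
    intro a h1 h2
    rw [show (List.range 3).tail = [1, 2] from rfl]
    simp only [List.mem_cons, List.not_mem_nil, or_false]
    omega
  have gz : ∀ {l m : List ℕ} {n : ℕ} (_ : l.length = n) (_ : m.length = n) (i : Fin n),
      (l.getD i 0, m.getD i 0) ∈ l.zip m := fun {l m n} e1 e2 i => by
    rw [List.getD_eq_getElem _ _ (by omega), List.getD_eq_getElem _ _ (by omega)]
    exact List.mem_iff_getElem.2 ⟨i, by rw [List.length_zip]; omega, List.getElem_zip⟩
  -- the three multiplication tables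
  have stepQ : ∀ a : Fin 128, 1 ≤ a.val → a.val < 7 → ∀ i : Fin 128, ∃ j : Fin 128,
      toPerm (qe j) = toPerm (qe a) * toPerm (qe i) ∧
      tvMat (tvQMat.getD j 0) = tvMat (tvQMat.getD a 0) * tvMat (tvQMat.getD i 0) := by
    intro a h1 h7 i
    have h := List.all_eq_true.1 tvStepQ_ok a (a7 a h1 h7)
    obtain ⟨j, e1, e2⟩ := tvStep_spec hq hqm (qv _ (qmem a)).1 (qv _ (qmem i)).1 idP_spec.1
      (fun y hy => (qv y hy).1) (List.all_eq_true.1 h _ (gz hq hqm i))
    rw [toPerm_idP, mul_one] at e1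
    rw [hq0, mul_one] at e2
    exact ⟨j, e1, e2⟩
  have stepL : ∀ a : Fin 168, 1 ≤ a.val → a.val < 3 → ∀ i : Fin 168, ∃ j : Fin 168,
      toPerm (le' j) = toPerm (le' a) * toPerm (le' i) ∧
      tvMat (tvLMat.getD j 0) = tvMat (tvLMat.getD a 0) * tvMat (tvLMat.getD i 0) := by
    intro a h1 h3 i
    have h := List.all_eq_true.1 tvStepL_ok a (a3 a h1 h3)
    obtain ⟨j, e1, e2⟩ := tvStep_spec hl hlm (lv _ (lmem a)).1 (lv _ (lmem i)).1 idP_spec.1
      (fun y hy => (lv y hy).1) (List.all_eq_true.1 h _ (gz hl hlm i))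
    rw [toPerm_idP, mul_one] at e1
    rw [hl0, mul_one] at e2
    exact ⟨j, e1, e2⟩
  have stepX : ∀ a : Fin 168, 1 ≤ a.val → a.val < 3 → ∀ i : Fin 128, ∃ j : Fin 128,
      toPerm (qe j) * toPerm (le' a) = toPerm (le' a) * toPerm (qe i) ∧
      tvMat (tvQMat.getD j 0) * tvMat (tvLMat.getD a 0) =
        tvMat (tvLMat.getD a 0) * tvMat (tvQMat.getD i 0) := by
    intro a h1 h3 i
    have h := List.all_eq_true.1 tvStepX_ok a (a3 a h1 h3)
    exact tvStep_spec hq hqm (lv _ (lmem a)).1 (qv _ (qmem i)).1 (lv _ (lmem a)).1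
      (fun y hy => (qv y hy).1) (List.all_eq_true.1 h _ (gz hq hqm i))
  have gensQ : ∀ g ∈ tvQ.gens, ∃ a : Fin 128, 1 ≤ a.val ∧ a.val < 7 ∧ qe a = g := by
    intro g hg
    replace hg : g ∈ tvQGens := hg
    rw [hgQ] at hg
    obtain ⟨a, ha, rfl⟩ := List.mem_map.1 hg
    have : 1 ≤ a ∧ a < 7 := by
      have h' : a ∈ [1, 2, 3, 4, 5, 6] := ha
      simp only [List.mem_cons, List.not_mem_nil, or_false] at h'
      omega
    exact ⟨⟨a, by omega⟩, this.1, this.2, rfl⟩
  have gensL : ∀ g ∈ tvL.gens, ∃ a : Fin 168, 1 ≤ a.val ∧ a.val < 3 ∧ le' a = g := by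
    intro g hg
    replace hg : g ∈ tvLGens := hg
    rw [hgL] at hg
    obtain ⟨a, ha, rfl⟩ := List.mem_map.1 hg
    have : 1 ≤ a ∧ a < 3 := by
      have h' : a ∈ [1, 2] := ha
      simp only [List.mem_cons, List.not_mem_nil, or_false] at h'
      omega
    exact ⟨⟨a, by omega⟩, this.1, this.2, rfl⟩
  have memQ := fun σ => listCert_mem (c := tvQ) hQok (fun e => by rw [show tvQElems = [] from e] at hq; simp at hq)
    (fun g hg x hx => by
      obtain ⟨a, h1, h7, rfl⟩ := gensQ g hg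
      obtain ⟨i, hi, rfl⟩ := List.mem_iff_getElem.1 hx
      obtain ⟨j, e, -⟩ := stepQ a h1 h7 ⟨i, hq ▸ hi⟩
      exact ⟨qe j, qmem j, by rw [e]; show _ = _ * toPerm (tvQElems.getD i 0); rw [List.getD_eq_getElem tvQElems _ hi]; rfl⟩)
    (σ := σ)
  have memL := fun σ => listCert_mem (c := tvL) hLok (fun e => by rw [show tvLElems = [] from e] at hl; simp at hl)
    (fun g hg x hx => by
      obtain ⟨a, h1, h7, rfl⟩ := gensL g hg
      obtain ⟨i, hi, rfl⟩ := List.mem_iff_getElem.1 hx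
      obtain ⟨j, e, -⟩ := stepL a h1 h7 ⟨i, hl ▸ hi⟩
      exact ⟨le' j, lmem j, by rw [e]; show _ = _ * toPerm (tvLElems.getD i 0); rw [List.getD_eq_getElem tvLElems _ hi]; rfl⟩)
    (σ := σ)
  have hp := tvPerm_ok
  simp only [Bool.and_eq_true, List.all_eq_true, beq_iff_eq] at hp
  have hgcomm : ∀ g, g ∈ tvQGens ++ tvLGens → inM24 g = true → toPerm g ∈ tvCent := fun g hg hM =>
    mem_tvCent.2 ⟨toPerm_mem_M24 hM, by
      rw [← toPerm_compP (valid_of_inM24 hM) invEight_valid, hp.1.1.1.1.1 g hg,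
        toPerm_compP invEight_valid (valid_of_inM24 hM)]⟩
  have hQC : tvQ.grp ≤ tvCent := by
    rw [ListCert.grp, Subgroup.closure_le]
    rintro _ ⟨g, hg, rfl⟩
    exact hgcomm g (List.mem_append_left _ hg) (hokQ.2.2 g hg)
  have hLC : tvL.grp ≤ tvCent := by
    rw [ListCert.grp, Subgroup.closure_le]
    rintro _ ⟨g, hg, rfl⟩
    exact hgcomm g (List.mem_append_right _ hg) (hokL.2.2 g hg)
  -- the table on the permutation side
  let f : Fin 128 × Fin 168 → tvCent := fun il =>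
    ⟨toPerm (qe il.1) * toPerm (le' il.2),
      tvCent.mul_mem (hQC (qv _ (qmem _)).2.2) (hLC (lv _ (lmem _)).2.2)⟩
  have hfi : Function.Injective f := by
    rintro ⟨i, l⟩ ⟨i', l'⟩ e
    have e' : toPerm (qe i) * toPerm (le' l) = toPerm (qe i') * toPerm (le' l') := congrArg Subtype.val e
    have e'' : (toPerm (qe i'))⁻¹ * toPerm (qe i) = toPerm (le' l') * (toPerm (le' l))⁻¹ := by
      rw [eq_mul_inv_iff_mul_eq, mul_assoc, e', inv_mul_cancel_left]
    obtain ⟨x, hx, ex⟩ := (memQ _).1 (tvQ.grp.mul_mem (tvQ.grp.inv_mem (qv _ (qmem i')).2.2)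
      (qv _ (qmem i)).2.2)
    obtain ⟨y, hy, ey⟩ := (memL _).1 (tvL.grp.mul_mem (lv _ (lmem l')).2.2
      (tvL.grp.inv_mem (lv _ (lmem l)).2.2))
    have hxy : x = y := toPerm_inj (qv x hx).1 (lv y hy).1 (qv x hx).2.1 (lv y hy).2.1
      (by rw [ex, e'', ey])
    have hm := List.all_eq_true.1 (List.all_eq_true.1 tvMeet_ok x hx) y hy
    simp [hxy] at hm
    have hone : (toPerm (qe i'))⁻¹ * toPerm (qe i) = 1 := by
      rw [← ex, hxy, hm, toPerm_idP]
    have hqq : qe i = qe i' := toPerm_inj (qv _ (qmem i)).1 (qv _ (qmem i')).1 (qv _ (qmem i)).2.1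
      (qv _ (qmem i')).2.1 (inv_mul_eq_one.1 hone).symm
    rw [hqq, mul_right_inj] at e'
    have hll : le' l = le' l' := toPerm_inj (lv _ (lmem l)).1 (lv _ (lmem l')).1 (lv _ (lmem l)).2.1
      (lv _ (lmem l')).2.1 e'
    simp only [qe, le'] at hqq hll
    rw [List.getD_eq_getElem _ _ (by omega), List.getD_eq_getElem _ _ (by omega)] at hqq hll
    exact Prod.ext (Fin.ext ((List.Nodup.getElem_inj_iff hokQ.1).1 hqq))
      (Fin.ext ((List.Nodup.getElem_inj_iff hokL.1).1 hll))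
  have hdom : Nat.card (Fin 128 × Fin 168) = 21504 := by
    rw [Nat.card_prod, Nat.card_eq_fintype_card, Nat.card_eq_fintype_card, Fintype.card_fin, Fintype.card_fin]
  have hf : Function.Bijective f := (Nat.bijective_iff_injective_and_card f).2 ⟨hfi,
    le_antisymm (Nat.card_le_card_of_injective f hfi) (hdom ▸ card_tvCent_le)⟩
  -- the table on the matrix side
  have mkSL : ∀ {M N : Matrix (Fin 5) (Fin 5) (ZMod 2)}, M * N = 1 → M.det = 1 := fun {M N} h => by
    have := congrArg Matrix.det h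
    rw [Matrix.det_mul, Matrix.det_one] at this
    rcases zmod2_cases M.det with h0 | h1
    · rw [h0, zero_mul] at this; exact absurd this zero_ne_one
    · exact h1
  let kq : Fin 128 → Matrix.SpecialLinearGroup (Fin 5) (ZMod 2) := fun i =>
    ⟨tvMat (tvQMat.getD i 0), mkSL (tvInv_ok.1 i)⟩
  let kl : Fin 168 → Matrix.SpecialLinearGroup (Fin 5) (ZMod 2) := fun i =>
    ⟨tvMat (tvLMat.getD i 0), mkSL (tvInv_ok.2 i)⟩
  have memS : ∀ {A : Matrix.SpecialLinearGroup (Fin 5) (ZMod 2)},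
      (A : Matrix (Fin 5) (Fin 5) (ZMod 2)) * Matrix.transvection 0 1 1 =
        Matrix.transvection 0 1 1 * (A : Matrix (Fin 5) (Fin 5) (ZMod 2)) →
      A ∈ Subgroup.centralizer ({s} : Set (Matrix.SpecialLinearGroup (Fin 5) (ZMod 2))) := fun {A} h =>
    Subgroup.mem_centralizer_singleton_iff.2 (Subtype.ext (by
      rw [Matrix.SpecialLinearGroup.coe_mul, Matrix.SpecialLinearGroup.coe_mul, hs]; exact h))
  let k : Fin 128 × Fin 168 →
      Subgroup.centralizer ({s} : Set (Matrix.SpecialLinearGroup (Fin 5) (ZMod 2))) := fun il =>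
    ⟨kq il.1 * kl il.2, Subgroup.mul_mem _ (memS (hcq il.1)) (memS (hcl il.2))⟩
  have hki : Function.Injective k := by
    rintro ⟨i, l⟩ ⟨i', l'⟩ e
    have e0 : kq i * kl l = kq i' * kl l' := congrArg Subtype.val e
    have blockOf : ∀ (i : Fin 128) (l : Fin 168) (r c : Fin 3),
        ((kq i * kl l : Matrix.SpecialLinearGroup (Fin 5) (ZMod 2)) : Matrix (Fin 5) (Fin 5) (ZMod 2))
          r.succ.succ c.succ.succ = tvMat (tvLMat.getD l 0) r.succ.succ c.succ.succ := by
      intro i l r c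
      rw [Matrix.SpecialLinearGroup.coe_mul, Matrix.mul_apply, Fin.sum_univ_succ, Fin.sum_univ_succ]
      show tvMat (tvQMat.getD i 0) r.succ.succ 0 * _ + (_ * tvMat (tvLMat.getD l 0) 1 c.succ.succ + _) = _
      rw [hsh2 i r, hsh3 l c, zero_mul, mul_zero, zero_add, zero_add]
      rw [Finset.sum_eq_single r (fun b _ hb => by
        show tvMat (tvQMat.getD i 0) r.succ.succ b.succ.succ * _ = 0
        rw [hsh1 i r b, if_neg (Ne.symm hb), zero_mul]) (fun h => absurd (Finset.mem_univ r) h)]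
      show tvMat (tvQMat.getD i 0) r.succ.succ r.succ.succ * _ = _
      rw [hsh1 i r r, if_pos rfl, one_mul]
    have hll : l = l' := hLinj l l' fun r c => by rw [← blockOf i l r c, e0, blockOf]
    subst hll
    rw [mul_left_inj] at e0
    have em : tvMat (tvQMat.getD i 0) = tvMat (tvQMat.getD i' 0) := congrArg Subtype.val e0
    have hm : ∀ j : Fin 128, tvQMat.getD j 0 ∈ tvQMat := fun j => by
      rw [List.getD_eq_getElem _ _ (by omega)]; exact List.getElem_mem _
    have hcode : tvQMat.getD i 0 = tvQMat.getD i' 0 := by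
      refine Nat.eq_of_testBit_eq fun b => ?_
      by_cases hb : b < 25
      · have := congrFun (congrFun em ⟨b / 5, by omega⟩) ⟨b % 5, Nat.mod_lt _ (by norm_num)⟩
        simp only [tvMat, Nat.div_add_mod] at this
        revert this
        cases (tvQMat.getD i 0).testBit b <;> cases (tvQMat.getD i' 0).testBit b <;> simp
      · have lt := fun j => Nat.lt_of_lt_of_le ((Nat.blt_eq ▸ hqlt _ (hm j) : _ < _))
          (Nat.pow_le_pow_right (by norm_num : 0 < 2) (show 25 ≤ b by omega))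
        rw [Nat.testBit_lt_two_pow (lt i), Nat.testBit_lt_two_pow (lt i')]
    rw [List.getD_eq_getElem _ _ (by omega), List.getD_eq_getElem _ _ (by omega)] at hcode
    exact Prod.ext (Fin.ext ((List.Nodup.getElem_inj_iff hqnd).1 hcode)) rfl
  have hk : Function.Bijective k := (Nat.bijective_iff_injective_and_card k).2 ⟨hki,
    le_antisymm (Nat.card_le_card_of_injective k hki) (hdom ▸ SL_card_tv_le hs)⟩
  let D : Set (Fin 128 × Fin 168) :=
    {il | (1 ≤ il.1.val ∧ il.1.val < 7 ∧ il.2.val = 0) ∨ (il.1.val = 0 ∧ 1 ≤ il.2.val ∧ il.2.val < 3)}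
  have q0 : ∀ i : Fin 128, i.val = 0 → toPerm (qe i) = 1 ∧ kq i = 1 := fun i hi =>
    ⟨by show toPerm (tvQElems.getD i 0) = 1
        rw [hi, show tvQElems.getD 0 0 = idP from hokQ.2.1, toPerm_idP],
      Subtype.ext (by show tvMat (tvQMat.getD i 0) = 1; rw [hi, hq0])⟩
  have l0 : ∀ i : Fin 168, i.val = 0 → toPerm (le' i) = 1 ∧ kl i = 1 := fun i hi =>
    ⟨by show toPerm (tvLElems.getD i 0) = 1
        rw [hi, show tvLElems.getD 0 0 = idP from hokL.2.1, toPerm_idP],
      Subtype.ext (by show tvMat (tvLMat.getD i 0) = 1; rw [hi, hl0])⟩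
  have hgen : Subgroup.closure (f '' D) = ⊤ := by
    rw [eq_top_iff]
    intro g _
    obtain ⟨⟨i, l⟩, rfl⟩ := hf.2 g
    set K := (Subgroup.closure (f '' D)).map tvCent.subtype
    have hKQ : tvQ.grp ≤ K := by
      rw [ListCert.grp, Subgroup.closure_le]
      rintro _ ⟨u, hu, rfl⟩
      obtain ⟨a, h1, h7, rfl⟩ := gensQ u hu
      refine ⟨f (a, 0), Subgroup.subset_closure ⟨_, Or.inl ⟨h1, h7, rfl⟩, rfl⟩, ?_⟩
      show toPerm (qe a) * toPerm (le' 0) = _
      rw [(l0 0 rfl).1, mul_one]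
    have hKL : tvL.grp ≤ K := by
      rw [ListCert.grp, Subgroup.closure_le]
      rintro _ ⟨u, hu, rfl⟩
      obtain ⟨a, h1, h7, rfl⟩ := gensL u hu
      refine ⟨f (0, a), Subgroup.subset_closure ⟨_, Or.inr ⟨rfl, h1, h7⟩, rfl⟩, ?_⟩
      show toPerm (qe 0) * toPerm (le' a) = _
      rw [(q0 0 rfl).1, one_mul]
    obtain ⟨u, hu, hue⟩ := K.mul_mem (hKQ (qv _ (qmem i)).2.2) (hKL (lv _ (lmem l)).2.2)
    exact (Subtype.ext hue : u = f (i, l)) ▸ hu
  have hstep : ∀ a ∈ D, ∀ x, ∃ y, f a * f x = f y ∧ k a * k x = k y := by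
    rintro ⟨a, b⟩ hab ⟨i, l⟩
    rcases hab with ⟨h1, h7, hb⟩ | ⟨ha, h1, h3⟩
    · obtain ⟨j, e1, e2⟩ := stepQ a h1 h7 i
      refine ⟨(j, l), Subtype.ext ?_, Subtype.ext ?_⟩
      · show toPerm (qe a) * toPerm (le' b) * (toPerm (qe i) * toPerm (le' l)) = toPerm (qe j) * toPerm (le' l)
        rw [(l0 b hb).1, e1, mul_one, mul_assoc]
      · show kq a * kl b * (kq i * kl l) = kq j * kl l
        rw [(l0 b hb).2, mul_one, ← mul_assoc, show kq j = kq a * kq i from Subtype.ext e2]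
    · obtain ⟨j, e1, e2⟩ := stepX b h1 h3 i
      obtain ⟨m, e3, e4⟩ := stepL b h1 h3 l
      refine ⟨(j, m), Subtype.ext ?_, Subtype.ext ?_⟩
      · show toPerm (qe a) * toPerm (le' b) * (toPerm (qe i) * toPerm (le' l)) = toPerm (qe j) * toPerm (le' m)
        rw [(q0 a ha).1, one_mul, ← mul_assoc, ← e1, e3, mul_assoc]
      · show kq a * kl b * (kq i * kl l) = kq j * kl m
        rw [(q0 a ha).2, one_mul, ← mul_assoc,
          show kl b * kq i = kq j * kl b from Subtype.ext e2.symm,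
          show kl m = kl b * kl l from Subtype.ext e4, mul_assoc]
  obtain ⟨e⟩ := equiv_of_table f k hf hk (0, 0)
    (Subtype.ext (by show toPerm (qe 0) * toPerm (le' 0) = 1; rw [(q0 0 rfl).1, (l0 0 rfl).1, one_mul]))
    (Subtype.ext (by show kq 0 * kl 0 = 1; rw [(q0 0 rfl).2, (l0 0 rfl).2, one_mul])) D hgen hstep
  have hz : toPerm invEight ∈ M24 := invEight_spec.1
  refine ⟨⟨toPerm invEight, hz⟩, ?_, ⟨MulEquiv.trans ?_ e⟩⟩
  · rw [← Subgroup.orderOf_coe]; exact invEight_spec.2.1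
  · exact
      { toFun := fun c => ⟨((c : ↥M24) : Equiv.Perm GolayPt), mem_tvCent.2 ⟨(c : ↥M24).2,
          congrArg Subtype.val (Subgroup.mem_centralizer_singleton_iff.1 c.2)⟩⟩
        invFun := fun c => ⟨⟨(c : Equiv.Perm GolayPt), (mem_tvCent.1 c.2).1⟩,
          Subgroup.mem_centralizer_singleton_iff.2 (Subtype.ext (mem_tvCent.1 c.2).2)⟩
        left_inv := fun _ => rfl
        right_inv := fun _ => rfl
        map_mul' := fun _ _ => rfl }

end

end Cfsg.Agent.Golay24.Suborbits
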