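import Cfsg.Agent.Lib.Golay.Suborbits.TripleSplitData
import Cfsg.Agent.Lib.Golay.Suborbits.TrioSplit

/-!
The sextets seen from a set of three points.
-/

set_option autoImplicit false

namespace Cfsg.Agent.Golay24.Suborbits

noncomputable section

open Cfsg MulAction
open scoped Pointwise

attribute [local irreducible] weightList codeList

theorem tySext_ok : tySextSplit.ok sextAct triGens 24 sextList = true := by decide +kernel

theorem triGens_ok : (triGens.all fun g => inM24 g && (img g 8388611 == 8388611)) = true := by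
  decide +kernel

/-- The members of a named sextet. -/
def tetradMasks (m : ℕ) : List ℕ :=
  m :: ((weightList 8).filter fun o => Nat.land o m == m).map (Nat.xor m)

/-- How many members meet a mask. -/
def meetCount (Y m : ℕ) : ℕ := ((tetradMasks m).filter fun t => !(Nat.land t Y == 0)).length

theorem semSext_members {m : ℕ} (hm : m < 2 ^ 24) :
    semSext m = ((tetradMasks m).map Golay24.setOf).toFinset := by
  ext u
  rw [semSext, mem_sextOf]
  simp only [tetradMasks, List.map_cons, List.map_map, List.toFinset_cons, Finset.mem_insert,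
    List.mem_toFinset, List.mem_map, List.mem_filter, beq_iff_eq, Function.comp_apply]
  have key : ∀ o, o < 2 ^ 24 → (Nat.land o m = m ↔ Golay24.setOf m ⊆ Golay24.setOf o) := by
    intro o _
    rw [← Finset.inter_eq_right, ← setOf_land]
    exact ⟨fun h => congrArg Golay24.setOf h,
      fun h => setOf_inj (lt_of_le_of_lt Nat.and_le_right hm) hm h⟩
  have hx : ∀ o, Golay24.setOf m ⊆ Golay24.setOf o →
      Golay24.setOf (Nat.xor m o) = Golay24.setOf o \ Golay24.setOf m := by
    intro o h
    show Golay24.setOf (m ^^^ o) = _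
    rw [setOf_xor, symmDiff_def, Finset.sup_eq_union, Finset.sdiff_eq_empty_iff_subset.2 h,
      Finset.empty_union]
  refine or_congr Iff.rfl ⟨?_, ?_⟩
  · rintro ⟨o, ⟨ho, hsub⟩, rfl⟩
    rw [mem_octads_iff] at ho
    rw [← setOf_maskOf o] at hsub ⊢
    exact ⟨maskOf o, ⟨ho, (key _ (weightList_lt ho)).2 hsub⟩, hx _ hsub⟩
  · rintro ⟨o, ⟨ho, he⟩, rfl⟩
    have hsub := (key o (weightList_lt ho)).1 he
    exact ⟨Golay24.setOf o,
      ⟨mem_octads_iff.2 (by rwa [maskOf_setOf (weightList_lt ho)]), hsub⟩, (hx o hsub).symm⟩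

theorem setOf_eq_empty {m : ℕ} (hm : m < 2 ^ 24) : Golay24.setOf m = ∅ ↔ m = 0 :=
  ⟨fun h => setOf_inj hm (by norm_num) (h.trans setOf_zero.symm), fun h => h ▸ setOf_zero⟩

theorem meetCount_spec {Y m : ℕ} (hm : m < 2 ^ 24) (hlt : ∀ t ∈ tetradMasks m, t < 2 ^ 24)
    (hnd : (tetradMasks m).Nodup) :
    ((semSext m).filter fun t => (t ∩ Golay24.setOf Y).Nonempty).card = meetCount Y m := by
  classical
  have e : (semSext m).filter (fun t => (t ∩ Golay24.setOf Y).Nonempty) =
      (((tetradMasks m).filter fun t => !(Nat.land t Y == 0)).map Golay24.setOf).toFinset := by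
    rw [semSext_members hm]
    ext u
    simp only [Finset.mem_filter, List.mem_toFinset, List.mem_map, List.mem_filter, Bool.not_eq_true',
      beq_eq_false_iff_ne]
    constructor
    · rintro ⟨⟨t, ht, rfl⟩, hne⟩
      refine ⟨t, ⟨ht, fun h0 => ?_⟩, rfl⟩
      rw [← setOf_land, show t &&& Y = 0 from h0, setOf_zero] at hne
      exact Finset.not_nonempty_empty hne
    · rintro ⟨t, ⟨ht, hne⟩, rfl⟩
      refine ⟨⟨t, ht, rfl⟩, Finset.nonempty_iff_ne_empty.2 fun h => hne ?_⟩
      rw [← setOf_land] at h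
      exact (setOf_eq_empty (lt_of_le_of_lt Nat.and_le_left (hlt t ht))).1 h
  rw [e, meetCount, List.toFinset_card_of_nodup, List.length_map]
  exact (hnd.filter _).map_on fun a ha b hb h =>
    setOf_inj (hlt a (List.mem_of_mem_filter ha)) (hlt b (List.mem_of_mem_filter hb)) h

/-- Sizes, and the number of members meeting the standard triple, orbit by orbit. -/
theorem tySext_profile : (tySextSplit.orbs.map fun o => (o.orb.length, meetCount 8388611 o.root)) =
      [(21, 1), (630, 2), (1120, 3)] ∧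
    (tySextSplit.orbs.all fun o => Nat.blt o.root 16777216 &&
      (tetradMasks o.root).all (fun t => Nat.blt t 16777216) &&
      decide ((tetradMasks o.root).Nodup)) = true := by
  constructor <;> decide +kernel

theorem meet_smul {g : Equiv.Perm GolayPt} (S : Finset (Finset GolayPt)) (Y : Finset GolayPt) :
    ((g • S).filter fun t => (t ∩ g • Y).Nonempty).card =
      (S.filter fun t => (t ∩ Y).Nonempty).card := by
  classical
  rw [← Finset.card_smul_finset g (S.filter _)]
  congr 1
  ext t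
  simp only [Finset.mem_filter, Finset.mem_smul_finset]
  constructor
  · rintro ⟨⟨u, hu, rfl⟩, hne⟩
    rw [← Finset.smul_finset_inter, Finset.smul_finset_nonempty] at hne
    exact ⟨u, ⟨hu, hne⟩, rfl⟩
  · rintro ⟨u, ⟨hu, hne⟩, rfl⟩
    refine ⟨⟨u, hu, rfl⟩, ?_⟩
    rw [← Finset.smul_finset_inter, Finset.smul_finset_nonempty]
    exact hne

/-- The stabiliser of the standard triple, as far as the certified generators reach. -/
abbrev triGrp : Subgroup (Equiv.Perm GolayPt) :=
  Subgroup.closure {τ | ∃ g ∈ triGens, toPerm g = τ}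

theorem triGrp_le : triGrp ≤ M24 ⊓ stabilizer (Equiv.Perm GolayPt) (Golay24.setOf 8388611) := by
  rw [Subgroup.closure_le]
  rintro _ ⟨y, hy, rfl⟩
  have h := List.all_eq_true.1 triGens_ok y hy
  simp only [Bool.and_eq_true, beq_iff_eq] at h
  exact ⟨toPerm_mem_M24 h.1, by
    show toPerm y • Golay24.setOf 8388611 = _
    rw [smul_setOf (valid_of_inM24 h.1), h.2]⟩

/-- The three classes of sextets against a triple. -/
theorem triple_sextets {Y : Finset GolayPt} (hY : Y.card = 3) :
    (∀ k : ℕ, ∀ n : ℕ, (k, n) ∈ [(1, 21), (2, 630), (3, 1120)] →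
      {S | S ∈ sextets ∧ (S.filter fun t => (t ∩ Y).Nonempty).card = k}.ncard = n) ∧
    ∀ S S', S ∈ sextets → S' ∈ sextets → (S.filter fun t => (t ∩ Y).Nonempty).card =
      (S'.filter fun t => (t ∩ Y).Nonempty).card → ∃ g ∈ M24, g • Y = Y ∧ g • S = S' := by
  classical
  obtain ⟨σ, hσ⟩ := carries_triple hY
  obtain ⟨hσM, hσe⟩ := hσ
  have hYe : σ • Golay24.setOf 8388611 = Y := by simpa using hσe
  subst hYe
  have hgens : ∀ g ∈ triGens, inM24 g = true := fun g hg =>
    (Bool.and_eq_true _ _ ▸ List.all_eq_true.1 triGens_ok g hg).1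
  have hd := tySextSplit.decomp tySext_ok hgens semSext_acts semSext_injOn (K := triGrp) rfl
  rw [← sextets_eq] at hd
  obtain ⟨h1, h2⟩ := hd
  obtain ⟨hprof, hok⟩ := tySext_profile
  have hroot : ∀ o ∈ tySextSplit.orbs, ((semSext o.root).filter fun t =>
      (t ∩ Golay24.setOf 8388611).Nonempty).card = meetCount 8388611 o.root := by
    intro o ho
    have h := List.all_eq_true.1 hok o ho
    simp only [Bool.and_eq_true, List.all_eq_true, Nat.blt_eq, decide_eq_true_eq] at h
    exact meetCount_spec (by norm_num; exact h.1.1) (fun t ht => by norm_num; exact h.1.2 t ht) h.2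
  have hconst : ∀ {x y : Finset (Finset GolayPt)}, y ∈ orbit triGrp x →
      (y.filter fun t => (t ∩ Golay24.setOf 8388611).Nonempty).card =
        (x.filter fun t => (t ∩ Golay24.setOf 8388611).Nonempty).card := by
    rintro x _ ⟨g, rfl⟩
    have hfix : (g : Equiv.Perm GolayPt) • Golay24.setOf 8388611 = Golay24.setOf 8388611 :=
      (triGrp_le g.2).2
    conv_lhs => rw [← hfix]
    exact meet_smul x _
  have hcls : ∀ S ∈ sextets, ∃ o ∈ tySextSplit.orbs, S ∈ orbit triGrp (semSext o.root) ∧
      (S.filter fun t => (t ∩ Golay24.setOf 8388611).Nonempty).card = meetCount 8388611 o.root := by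
    intro S hS
    obtain ⟨p, hp, hSp⟩ := h2 S hS
    obtain ⟨o, ho, rfl⟩ := List.mem_map.1 hp
    exact ⟨o, ho, hSp, (hconst hSp).trans (hroot o ho)⟩
  have hprof' : ∀ o ∈ tySextSplit.orbs, (o.orb.length, meetCount 8388611 o.root) ∈
      [(21, 1), (630, 2), (1120, 3)] := fun o ho => hprof ▸ List.mem_map.2 ⟨o, ho, rfl⟩
  have huniq : ∀ o ∈ tySextSplit.orbs, ∀ o' ∈ tySextSplit.orbs,
      meetCount 8388611 o.root = meetCount 8388611 o'.root → o = o' := by
    intro o ho o' ho' he
    have hnd : (tySextSplit.orbs.map fun o => meetCount 8388611 o.root).Nodup := by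
      have : (tySextSplit.orbs.map fun o => meetCount 8388611 o.root) = [1, 2, 3] := by
        have := congrArg (List.map Prod.snd) hprof
        rw [List.map_map] at this
        exact this
      rw [this]; decide
    exact List.inj_on_of_nodup_map hnd ho ho' he
  have hσS : ∀ S, S ∈ sextets → σ⁻¹ • S ∈ sextets ∧
      ((σ⁻¹ • S).filter fun t => (t ∩ Golay24.setOf 8388611).Nonempty).card =
        (S.filter fun t => (t ∩ σ • Golay24.setOf 8388611).Nonempty).card := fun S hS => by
    refine ⟨smul_mem_sextets (M24.inv_mem hσM) hS, ?_⟩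
    have := meet_smul (g := σ) (σ⁻¹ • S) (Golay24.setOf 8388611)
    rw [smul_inv_smul] at this
    exact this.symm
  refine ⟨fun k n hkn => ?_, fun S S' hS hS' he => ?_⟩
  · obtain ⟨o, ho, hk, hn⟩ : ∃ o ∈ tySextSplit.orbs, meetCount 8388611 o.root = k ∧ o.orb.length = n := by
      have hswap : (n, k) ∈ tySextSplit.orbs.map fun o => (o.orb.length, meetCount 8388611 o.root) := by
        rw [hprof]
        simp only [List.mem_cons, Prod.mk.injEq, List.not_mem_nil, or_false] at hkn ⊢
        omega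
      obtain ⟨o, ho, he⟩ := List.mem_map.1 hswap
      exact ⟨o, ho, (Prod.ext_iff.1 he).2, (Prod.ext_iff.1 he).1⟩
    have e : {S | S ∈ sextets ∧ (S.filter fun t => (t ∩ σ • Golay24.setOf 8388611).Nonempty).card = k} =
        (σ • ·) '' orbit triGrp (semSext o.root) := by
      ext S
      constructor
      · rintro ⟨hS, hc⟩
        obtain ⟨hS₀, hc₀⟩ := hσS S hS
        obtain ⟨o', ho', hmem, hm⟩ := hcls _ hS₀
        obtain rfl := huniq o' ho' o ho (by rw [← hm, hc₀, hc, hk])
        exact ⟨_, hmem, smul_inv_smul _ _⟩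
      · rintro ⟨T, hT, rfl⟩
        refine ⟨smul_mem_sextets hσM ((h1 _ (List.mem_map.2 ⟨o, ho, rfl⟩)).2.1 hT), ?_⟩
        show ((σ • T).filter fun t => (t ∩ σ • Golay24.setOf 8388611).Nonempty).card = k
        rw [meet_smul, hconst hT, hroot o ho, hk]
    rw [e, Set.ncard_image_of_injective _ (MulAction.injective σ),
      (h1 _ (List.mem_map.2 ⟨o, ho, rfl⟩)).2.2, hn]
  · obtain ⟨hS₀, hc₀⟩ := hσS S hS
    obtain ⟨hS₀', hc₀'⟩ := hσS S' hS'
    obtain ⟨o, ho, ⟨g, hg⟩, hm⟩ := hcls _ hS₀
    obtain ⟨o', ho', ⟨g', hg'⟩, hm'⟩ := hcls _ hS₀'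
    obtain rfl := huniq o ho o' ho' (by rw [← hm, hc₀, ← hm', hc₀', he])
    refine ⟨σ * (g' * (g : Equiv.Perm GolayPt)⁻¹) * σ⁻¹, M24.mul_mem (M24.mul_mem hσM
      (M24.mul_mem (triGrp_le g'.2).1 (M24.inv_mem (triGrp_le g.2).1))) (M24.inv_mem hσM), ?_, ?_⟩
    · have a : (g : Equiv.Perm GolayPt) • Golay24.setOf 8388611 = Golay24.setOf 8388611 := (triGrp_le g.2).2
      have b : (g' : Equiv.Perm GolayPt) • Golay24.setOf 8388611 = Golay24.setOf 8388611 :=
        (triGrp_le g'.2).2
      rw [mul_smul, inv_smul_smul, mul_smul, mul_smul, inv_smul_eq_iff.2 a.symm, b]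
    · have a : (g : Equiv.Perm GolayPt) • semSext o.root = σ⁻¹ • S := hg
      have b : (g' : Equiv.Perm GolayPt) • semSext o.root = σ⁻¹ • S' := hg'
      rw [mul_smul, mul_smul, mul_smul, inv_smul_eq_iff.2 a.symm, b, smul_inv_smul]

end

end Cfsg.Agent.Golay24.Suborbits
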